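import Cfsg.Agent.GH.Defs
import Cfsg.Agent.SignalizersComponents.PCompQuot
set_option linter.all false

/-!
# GH: `HasAltCover G` for a simple group `G` gives `McL` or `Ly` (from the statement S1738)
-/

set_option autoImplicit false

open Cfsg Subgroup
open Cfsg.Agent.Intrinsic.Basic Cfsg.Agent.GH.Defs

namespace Cfsg.Agent.GH.AltOut

/-- The statement S1738 for the group `G`. -/
def St1738 (G : Type*) [Group G] : Prop :=
  Cfsg.oddCore G = ⊥ → Cfsg.IsQuasisimple ↥(Cfsg.generalizedFittingSubgroup G) → ∀ t : G, orderOf t = 2 →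
    ∀ K : Subgroup ↥(Subgroup.centralizer ({t} : Set G)), Cfsg.IsPComponent 2 K →
    t ∈ K.map (Subgroup.centralizer ({t} : Set G)).subtype →
    ∀ n : ℕ, 8 ≤ n → Cfsg.IsNonsplitDoubleCover (↥K ⧸ Cfsg.oddCore ↥K) ↥(alternatingGroup (Fin n)) →
    Cfsg.IsNonsplitDoubleCover ↥(Cfsg.generalizedFittingSubgroup G) ↥(alternatingGroup (Fin n)) ∨
      (n = 8 ∧ Cfsg.Spor.IsoMcL ↥(Cfsg.generalizedFittingSubgroup G)) ∨
      (n = 11 ∧ Cfsg.Spor.IsoLy ↥(Cfsg.generalizedFittingSubgroup G))

variable {G : Type*} [Group G]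

theorem center_eq_bot [IsSimpleGroup G] (hna : ¬ IsMulCommutative G) : center G = ⊥ := by
  rcases (inferInstance : (center G).Normal).eq_bot_or_eq_top with h1 | h1
  · exact h1
  · exfalso
    refine hna ⟨⟨fun a b => ?_⟩⟩
    exact mem_center_iff.mp (h1 ▸ mem_top b : b ∈ center G) a

theorem quasisimple [IsSimpleGroup G] (hna : ¬ IsMulCommutative G) : IsQuasisimple G := by
  have hc := center_eq_bot hna
  refine ⟨?_, ?_⟩
  · have h1 : commutator G = ⊤ := by
      rcases (inferInstance : (commutator G).Normal).eq_bot_or_eq_top with h1 | h1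
      · exfalso
        refine hna ⟨⟨fun a b => ?_⟩⟩
        rw [commutator_def, Subgroup.commutator_eq_bot_iff_le_centralizer] at h1
        exact (mem_centralizer_iff.mp (h1 (mem_top a)) b (mem_top b)).symm
      · exact h1
    exact ⟨h1⟩
  · have e : G ≃* G ⧸ center G :=
      (QuotientGroup.quotientBot.symm).trans (QuotientGroup.quotientMulEquivOfEq hc.symm)
    exact isSimple_congr e inferInstance

theorem fstar_eq_top [IsSimpleGroup G] (hna : ¬ IsMulCommutative G) :
    generalizedFittingSubgroup G = ⊤ := by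
  have h1 : IsComponent (⊤ : Subgroup G) := ⟨Subgroup.IsSubnormal.top,
    SignalizersComponents.PCompQuot.quasisimple_congr Subgroup.topEquiv.symm (quasisimple hna)⟩
  have h2 : (⊤ : Subgroup G) ≤ layer G := le_sSup h1
  rw [eq_top_iff]
  exact h2.trans le_sup_left

/-- From S1738. -/
theorem mcl_or_ly [Finite G] [IsSimpleGroup G] (hna : ¬ IsMulCommutative G) (hO : oddCore G = ⊥)
    (h : St1738 G) (hA : HasAltCover G) : Spor.IsoMcL G ∨ Spor.IsoLy G := by
  obtain ⟨n, t, K, hn, hK, htK, hcov⟩ := hA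
  have htop := fstar_eq_top hna
  have e : ↥(generalizedFittingSubgroup G) ≃* G :=
    (MulEquiv.subgroupCongr htop).trans Subgroup.topEquiv
  have h1 := h hO (SignalizersComponents.PCompQuot.quasisimple_congr e.symm (quasisimple hna)) t
    hK.inv (K.subgroupOf (centralizer ({t} : Set G))) hK.comp.2 ⟨⟨t, hK.comp.le htK⟩, htK, rfl⟩ n hn
    (by
      refine cover_congr ?_ hcov
      exact QuotientGroup.congr _ _ (subgroupOfEquivOfLe hK.comp.le).symm
        (Lib.Cores.map_equiv_pPrimeCore _ 2))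
  rcases h1 with h1 | ⟨-, ⟨f⟩⟩ | ⟨-, ⟨f⟩⟩
  · exfalso
    have h2 := (cover_congr e h1).1
    rw [center_eq_bot hna, Subgroup.card_bot] at h2
    omega
  · exact Or.inl ⟨e.symm.trans f⟩
  · exact Or.inr ⟨e.symm.trans f⟩

end Cfsg.Agent.GH.AltOut
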