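import Cfsg.Agent.GH.C2Base
import Cfsg.Agent.GH.Rank
set_option linter.all false

/-!
# GH-C2, theorem T1: `V = ⟨Z^X⟩` noncentral, an element of order 5 inverted by an involution mod `Q`:
then `Q = V` is elementary abelian of order 16.
-/

set_option autoImplicit false
set_option maxHeartbeats 800000

namespace Cfsg.Agent.GH.C2Five

open Subgroup Cfsg.Agent.TwoFusion.SectionalRank Cfsg.Agent.GH.C2Base
open Cfsg.Agent.SectRankFour.C2

variable {X : Type*} [Group X] [Finite X]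

/-- The hypothesis on the sectional rank, in subgroup form. -/
def R4 (X : Type*) [Group X] : Prop :=
  ∀ A B : Subgroup X, ElemSection 2 A B → Nat.card A ≤ 16 * Nat.card B

theorem r4_iff : R4 X ↔ Cfsg.SectionalPRankLE 2 4 X := by
  rw [sectionalPRankLE_iff]
  have : (2 : ℕ) ^ 4 = 16 := by norm_num
  rw [this]
  exact Iff.rfl

theorem r4_quotient (h : R4 X) (N : Subgroup X) [N.Normal] : R4 (X ⧸ N) :=
  r4_iff.mpr (GH.Rank.of_quotient (r4_iff.mp h) N)

theorem r4_subgroup (h : R4 X) (N : Subgroup X) : R4 N :=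
  r4_iff.mpr (GH.Rank.of_subgroup (r4_iff.mp h) N)

omit [Finite X] in
/-- An elementary abelian subgroup as a section. -/
theorem elem_bot {V : Subgroup X} (h : ∀ v ∈ V, v ^ 2 = 1) : ElemSection 2 V ⊥ where
  le := bot_le
  comm a ha b hb := by
    have e : ∀ v ∈ V, v⁻¹ = v := fun v hv => inv_eq_of_mul_eq_one_left (by
      have := h v hv
      rwa [pow_two] at this)
    rw [mem_bot]
    have h1 := e _ (V.mul_mem ha hb)
    rw [mul_inv_rev, e a ha, e b hb] at h1
    rw [e a ha, e b hb]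
    calc a * b * a * b = (b * a) * (b * a) := by rw [h1]; group
      _ = (b * a) ^ 2 := (pow_two _).symm
      _ = 1 := h _ (V.mul_mem hb ha)
  pow a ha := mem_bot.mpr (h a ha)

omit [Finite X] in
theorem comm_of_sq {V : Subgroup X} (h : ∀ v ∈ V, v ^ 2 = 1) : ∀ v ∈ V, ∀ w ∈ V, v * w = w * v := by
  intro v hv w hw
  have h1 := mem_bot.mp ((elem_bot h).comm v hv w hw)
  exact mul_inv_eq_one.mp (by rw [mul_inv_rev, ← mul_assoc]; exact h1)

omit [Finite X] in
/-- Every element of a finite 2-group is trivial if no involution has the given closed property. -/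
theorem exists_involution {q : X} (hq1 : q ≠ 1) {n : ℕ} (hn : q ^ 2 ^ n = 1) :
    ∃ k : ℕ, q ^ k ≠ 1 ∧ (q ^ k) ^ 2 = 1 := by
  induction n generalizing q with
  | zero => exact absurd (by simpa using hn) hq1
  | succ n ih =>
    by_cases h : q ^ 2 = 1
    · exact ⟨1, by simpa using hq1, by simpa using h⟩
    · obtain ⟨k, h1, h2⟩ := ih h (by rw [← pow_mul, ← pow_succ']; exact hn)
      refine ⟨2 * k, ?_, ?_⟩
      · rwa [pow_mul]
      · rwa [pow_mul]

section T1

variable (hr : R4 X) {Q V : Subgroup X} (hQn : Q.Normal) (hVn : V.Normal)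
  (hQ : IsPGroup 2 Q) (hVQ : V ≤ Q) (hV2 : ∀ v ∈ V, v ^ 2 = 1)
  (hVc : ∀ v ∈ V, ∀ q ∈ Q, v * q = q * v) {x a : X} (hx5 : x ^ 5 = 1)
  (hne : ∃ v ∈ V, x * v ≠ v * x)

include hr hV2 hVn hx5 hne in
/-- `|V| = 16` and `C_V(x) = 1` -/
theorem card_V : Nat.card V = 16 ∧ ∀ v ∈ V, x * v = v * x → v = 1 := by
  have h16 : Nat.card V ≤ 16 := by
    have := hr V ⊥ (elem_bot hV2)
    simpa using this
  have h1 := ActFour.five hV2 h16 hx5 (fun v hv => hVn.conj_mem v hv x) (fun h => by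
    obtain ⟨v, hv, hne⟩ := hne
    exact hne (mem_centralizer_singleton_iff.mp (h hv)).symm)
  refine ⟨h1.1, fun v hv h => ?_⟩
  have h2 : v ∈ V ⊓ centralizer ({x} : Set X) := ⟨hv, mem_centralizer_singleton_iff.mpr h.symm⟩
  rw [h1.2] at h2
  exact mem_bot.mp h2

include hr hV2 hVn hVc hx5 hne in
/-- `Ω₁(Q) = V` -/
theorem omega {t : X} (htQ : t ∈ Q) (ht : t ^ 2 = 1) : t ∈ V := by
  by_contra h
  obtain ⟨Z, hZ, -, -, hc⟩ := exists_ext (elem_bot hV2) (b := t) (by
    rw [mem_bot, ← pow_two]; exact ht) (fun y hy => by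
      rw [mem_bot, ← hVc y hy t htQ]; group) h
  have h1 := hr _ _ hZ
  rw [hc, (card_V hr hVn hV2 hx5 hne).1] at h1
  simp at h1

include hr hV2 hVn hVc hx5 hne hQ in
/-- `C_Q(x) = 1` -/
theorem cent_Q {q : X} (hq : q ∈ Q) (h : x * q = q * x) : q = 1 := by
  by_contra hq1
  obtain ⟨n, hn⟩ := hQ ⟨q, hq⟩
  obtain ⟨k, h1, h2⟩ := exists_involution hq1 (n := n) (by
    have := congrArg Subtype.val hn
    simpa using this)
  exact h1 ((card_V hr hVn hV2 hx5 hne).2 _ (omega hr hVn hV2 hVc hx5 hne (Q.pow_mem hq k) h2)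
    (Commute.pow_right h k))

include hr hV2 hVn hVc hx5 hne hQ hQn in
/-- An element inverting `x` modulo `Q`, with square in `Q`, lifts to an involution inverting `x`. -/
theorem exists_inv (haa : a * a ∈ Q) (hax : a * x * a⁻¹ * x ∈ Q) :
    ∃ q ∈ Q, (q * a) * (q * a) = 1 ∧ (q * a) * x * (q * a)⁻¹ = x⁻¹ := by
  have c := fun (q : X) (hq : q ∈ Q) (h : x * q = q * x) =>
    cent_Q hr hVn hQ hV2 hVc hx5 hne hq h
  obtain ⟨q, hq, h1⟩ := exists_conj_eq hQn (x := x⁻¹) (y := a * x * a⁻¹) (fun q hq h => c q hq (by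
    calc x * q = x * (q * x⁻¹) * x := by group
      _ = x * (x⁻¹ * q) * x := by rw [h]
      _ = q * x := by group)) (by rw [inv_inv]; exact hax)
  have h2 : (q⁻¹ * a) * x * (q⁻¹ * a)⁻¹ = x⁻¹ := by
    calc (q⁻¹ * a) * x * (q⁻¹ * a)⁻¹ = q⁻¹ * (a * x * a⁻¹) * q := by group
      _ = q⁻¹ * (q * x⁻¹ * q⁻¹) * q := by rw [h1]
      _ = x⁻¹ := by group
  refine ⟨q⁻¹, Q.inv_mem hq, ?_, h2⟩
  apply c
  · have h3 : (q⁻¹ * a) * (q⁻¹ * a) = q⁻¹ * (a * q⁻¹ * a⁻¹) * (a * a) := by group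
    rw [h3]
    exact Q.mul_mem (Q.mul_mem (Q.inv_mem hq) (hQn.conj_mem _ (Q.inv_mem hq) a)) haa
  · set b := q⁻¹ * a with hb
    have h3 : b * x⁻¹ * b⁻¹ = x := by
      have := congrArg (·⁻¹) h2
      simpa [mul_assoc] using this
    have h4 : (b * b) * x * (b * b)⁻¹ = x := by
      calc (b * b) * x * (b * b)⁻¹ = b * (b * x * b⁻¹) * b⁻¹ := by group
        _ = b * x⁻¹ * b⁻¹ := by rw [h2]
        _ = x := h3
    calc x * (b * b) = (b * b) * x * (b * b)⁻¹ * (b * b) := by rw [h4]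
      _ = b * b * x := by group

omit [Finite X] in
/-- The subgroup of the central elements of `Q` of order dividing 2. -/
def omegaCenter (Q : Subgroup X) : Subgroup X where
  carrier := {z | z ∈ Q ∧ z ^ 2 = 1 ∧ ∀ q ∈ Q, z * q = q * z}
  one_mem' := ⟨Q.one_mem, one_pow 2, fun q _ => by rw [one_mul, mul_one]⟩
  mul_mem' := by
    rintro z w ⟨hz, hz2, hzc⟩ ⟨hw, hw2, hwc⟩
    refine ⟨Q.mul_mem hz hw, ?_, fun q hq => ?_⟩
    · have h : Commute z w := hzc w hw
      rw [h.mul_pow, hz2, hw2, one_mul]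
    · rw [mul_assoc, hwc q hq, ← mul_assoc, hzc q hq, mul_assoc]
  inv_mem' := by
    rintro z ⟨hz, hz2, hzc⟩
    refine ⟨Q.inv_mem hz, by rw [inv_pow, hz2, inv_one], fun q hq => ?_⟩
    have h : Commute z q := hzc q hq
    exact h.inv_left

omit [Finite X] in
theorem omegaCenter_conj {Q : Subgroup X} (hQn : Q.Normal) {z : X} (hz : z ∈ omegaCenter Q) (g : X) :
    g * z * g⁻¹ ∈ omegaCenter Q := by
  obtain ⟨hz, hz2, hzc⟩ := hz
  refine ⟨hQn.conj_mem z hz g, by rw [conj_pow, hz2, mul_one, mul_inv_cancel], fun q hq => ?_⟩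
  have h := hzc (g⁻¹ * q * g) (by simpa using hQn.conj_mem q hq g⁻¹)
  calc g * z * g⁻¹ * q = g * (z * (g⁻¹ * q * g)) * g⁻¹ := by group
    _ = g * ((g⁻¹ * q * g) * z) * g⁻¹ := by rw [h]
    _ = q * (g * z * g⁻¹) := by group

theorem omegaCenter_ne_bot {Q : Subgroup X} (hQ : IsPGroup 2 Q) (hne : Q ≠ ⊥) :
    omegaCenter Q ≠ ⊥ := by
  have : Nontrivial Q := (Subgroup.nontrivial_iff_ne_bot Q).mpr hne
  have h2 : Fact (Nat.Prime 2) := ⟨Nat.prime_two⟩
  have := hQ.center_nontrivial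
  obtain ⟨z, hz⟩ := exists_ne (1 : center Q)
  have hz1 : ((z : Q) : X) ≠ 1 := fun h => hz (Subtype.ext (Subtype.ext h))
  obtain ⟨n, hn⟩ := hQ z
  obtain ⟨k, h1, h3⟩ := exists_involution hz1 (n := n) (by
    have := congrArg Subtype.val hn
    simpa using this)
  intro h
  have h4 : ((z : Q) : X) ^ k ∈ omegaCenter Q := by
    refine ⟨Q.pow_mem (z : Q).2 k, h3, fun q hq => ?_⟩
    have h5 := mem_center_iff.mp z.2 ⟨q, hq⟩
    have h6 : q * ((z : Q) : X) = ((z : Q) : X) * q := congrArg Subtype.val h5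
    exact (Commute.pow_left h6.symm k)
  rw [h] at h4
  exact h1 (mem_bot.mp h4)

include hr hV2 hVn hx5 hne in
/-- `|C_V(b)| ≤ 4` for an involution `b` inverting `x`. -/
theorem card_cent_le {b : X} (hbb : b * b = 1) (hbx : b * x * b⁻¹ = x⁻¹) :
    Nat.card (V ⊓ centralizer ({b} : Set X) : Subgroup X) ≤ 4 := by
  set N := V ⊓ centralizer ({b} : Set X) with hN
  obtain ⟨hc16, hcx⟩ := card_V hr hVn hV2 hx5 hne
  have hb1 : b⁻¹ = b := inv_eq_of_mul_eq_one_left hbb
  have hfix : ∀ u ∈ V, b * u = u * b → x * b * x⁻¹ * u = u * (x * b * x⁻¹) → u = 1 := by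
    intro u hu h1 h2
    apply hcx u hu
    have e1 : b * x⁻¹ * b⁻¹ = x := by
      have := congrArg (·⁻¹) hbx
      simpa [mul_assoc] using this
    have e2 : (x * b * x⁻¹) * b = x ^ 2 := by
      calc (x * b * x⁻¹) * b = x * (b * x⁻¹ * b⁻¹) * (b * b) := by group
        _ = x ^ 2 := by rw [e1, hbb, mul_one, pow_two]
    have h3 : Commute (x ^ 2) u := by
      rw [← e2]
      exact Commute.mul_left h2 h1
    have e3 : x = (x ^ 2) ^ 3 := by
      rw [← pow_mul]
      calc x = x ^ 5 * x := by rw [hx5, one_mul]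
        _ = x ^ (2 * 3) := by group
    rw [e3]
    exact h3.pow_left 3
  have hNV : ∀ n : N, (n : X) ∈ V := fun n => n.2.1
  have hNb : ∀ n : N, b * (n : X) = n * b := fun n => (mem_centralizer_singleton_iff.mp n.2.2).symm
  let f : N × N → V := fun p => ⟨p.1 * (x * p.2 * x⁻¹), V.mul_mem (hNV p.1) (hVn.conj_mem _ (hNV p.2) x)⟩
  have hf : Function.Injective f := by
    rintro ⟨n, m⟩ ⟨n', m'⟩ h
    have h1 : (n : X) * (x * m * x⁻¹) = n' * (x * m' * x⁻¹) := congrArg Subtype.val h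
    have h2 : (n' : X)⁻¹ * n = x * (m' * (m : X)⁻¹) * x⁻¹ := by
      calc (n' : X)⁻¹ * n = (n' : X)⁻¹ * (n * (x * m * x⁻¹)) * (x * (m : X)⁻¹ * x⁻¹) := by group
        _ = (n' : X)⁻¹ * (n' * (x * m' * x⁻¹)) * (x * (m : X)⁻¹ * x⁻¹) := by rw [h1]
        _ = _ := by group
    have h3 : (n' : X)⁻¹ * n = 1 := by
      apply hfix _ (V.mul_mem (V.inv_mem (hNV n')) (hNV n))
      · exact (Commute.inv_right (hNb n')).mul_right (hNb n)
      · rw [h2]
        have h4 : Commute b ((m' : X) * (m : X)⁻¹) := (show Commute b (m' : X) from hNb m').mul_right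
          (Commute.inv_right (hNb m))
        exact h4.conj x
    have h5 : (n : X) = n' := (inv_mul_eq_one.mp h3).symm
    have h6 : (m : X) = m' := by
      rw [h5] at h1
      have h7 := mul_left_cancel h1
      exact mul_left_cancel (mul_right_cancel h7)
    exact Prod.ext (Subtype.ext h5) (Subtype.ext h6)
  have h1 := Nat.card_le_card_of_injective f hf
  rw [Nat.card_prod, hc16] at h1
  by_contra h5
  have h6 : 5 ≤ Nat.card N := by omega
  have h7 := Nat.mul_le_mul h6 h6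
  omega

include hr hV2 hVn hVc hx5 hne hQ hQn hVQ in
/-- **Theorem T1.** -/
theorem eq_V (haa : a * a ∈ Q) (hax : a * x * a⁻¹ * x ∈ Q) : Q = V := by
  by_contra hQV
  obtain ⟨hc16, hcx⟩ := card_V hr hVn hV2 hx5 hne
  have hcQ := fun (q : X) (hq : q ∈ Q) (h : x * q = q * x) => cent_Q hr hVn hQ hV2 hVc hx5 hne hq h
  obtain ⟨q, hq, hbb, hbx⟩ := exists_inv hr hQn hVn hQ hV2 hVc hx5 hne haa hax
  set b := q * a with hb
  have hb1 : b⁻¹ = b := inv_eq_of_mul_eq_one_left hbb
  -- `b ∉ Q`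
  have hbQ : b ∉ Q := by
    intro hbQ
    have h1 : x ^ 2 ∈ Q := by
      have h2 : x ^ 2 = (x * b * x⁻¹) * b := by
        have e1 : b * x⁻¹ * b⁻¹ = x := by
          have := congrArg (·⁻¹) hbx
          simpa [mul_assoc] using this
        calc x ^ 2 = x * (b * x⁻¹ * b⁻¹) * (b * b) := by rw [e1, hbb, mul_one, pow_two]
          _ = (x * b * x⁻¹) * b := by group
      rw [h2]
      exact Q.mul_mem (hQn.conj_mem b hbQ x) hbQ
    have h2 : x ∈ Q := by
      have e3 : x = (x ^ 2) ^ 3 := by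
        rw [← pow_mul]
        calc x = x ^ 5 * x := by rw [hx5, one_mul]
          _ = x ^ (2 * 3) := by group
      rw [e3]
      exact Q.pow_mem h1 3
    obtain ⟨v, hv, h3⟩ := hne
    exact h3 (hVc v hv x h2).symm
  -- the quotient by `V`
  let π : X →* X ⧸ V := QuotientGroup.mk' V
  have hπ : ∀ g : X, π g = 1 ↔ g ∈ V := fun g => by
    rw [QuotientGroup.mk'_apply, QuotientGroup.eq_one_iff]
  have hπs : Function.Surjective π := QuotientGroup.mk'_surjective V
  have hQbn : (Q.map π).Normal := hQn.map π hπs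
  have hQb2 : IsPGroup 2 (Q.map π) := hQ.map π
  have hQbne : Q.map π ≠ ⊥ := by
    intro h
    apply hQV
    refine le_antisymm (fun g hg => ?_) hVQ
    have h1 : π g ∈ Q.map π := mem_map_of_mem π hg
    rw [h] at h1
    exact (hπ g).mp (mem_bot.mp h1)
  set W := omegaCenter (Q.map π) with hW
  have hWne : W ≠ ⊥ := omegaCenter_ne_bot hQb2 hQbne
  have hW2 : ∀ w ∈ W, w ^ 2 = 1 := fun w hw => hw.2.1
  have hWc : ∀ v ∈ W, ∀ w ∈ W, v * w = w * v := fun v hv w hw => hv.2.2 w hw.1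
  have hmemQ : ∀ g : X, π g ∈ Q.map π → g ∈ Q := by
    intro g hg
    obtain ⟨q, hq, h1⟩ := mem_map.mp hg
    have h2 : q⁻¹ * g ∈ V := by
      rw [← hπ, map_mul, map_inv, h1, inv_mul_cancel]
    have h3 := Q.mul_mem hq (hVQ h2)
    simpa using h3
  have hWQ : ∀ g : X, π g ∈ W → g ∈ Q := fun g hg => hmemQ g hg.1
  have hWn : ∀ g : X ⧸ V, g ∈ normalizer (W : Set (X ⧸ V)) := by
    intro g
    rw [mem_normalizer_iff]
    intro w
    constructor
    · intro hw
      exact omegaCenter_conj hQbn hw g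
    · intro hw
      have := omegaCenter_conj hQbn hw g⁻¹
      simpa [mul_assoc] using this
  -- `C_W(x) = 1`
  have hWx : ∀ w : X, π w ∈ W → π x * π w = π w * π x → π w = 1 := by
    intro w hw h
    rw [hπ]
    have h1 : w⁻¹ * x * w * x⁻¹ ∈ V := by
      rw [← hπ, map_mul, map_mul, map_mul, map_inv, map_inv]
      calc (π w)⁻¹ * π x * π w * (π x)⁻¹ = (π w)⁻¹ * (π x * π w) * (π x)⁻¹ := by group
        _ = (π w)⁻¹ * (π w * π x) * (π x)⁻¹ := by rw [h]
        _ = 1 := by group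
    obtain ⟨v, hv, h2⟩ := exists_conj_eq hVn (x := x) (y := w⁻¹ * x * w) hcx h1
    have h3 := hcQ (w * v) (Q.mul_mem (hWQ w hw) (hVQ hv)) (by
      calc x * (w * v) = w * (w⁻¹ * x * w) * v := by group
        _ = w * (v * x * v⁻¹) * v := by rw [h2]
        _ = w * v * x := by group)
    rw [mul_eq_one_iff_eq_inv.mp h3]
    exact V.inv_mem hv
  have hr' := r4_quotient hr V
  have hW16 : Nat.card W ≤ 16 := by
    have := hr' W ⊥ (elem_bot hW2)
    simpa using this
  have hcW : Nat.card W = 16 := by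
    refine (ActFour.five hW2 hW16 (x := π x) (by rw [← map_pow, hx5, map_one])
      (fun w hw => omegaCenter_conj hQbn hw _) (fun h => hWne ?_)).1
    rw [eq_bot_iff]
    intro w hw
    obtain ⟨g, rfl⟩ := hπs w
    exact mem_bot.mpr (hWx g hw (mem_centralizer_singleton_iff.mp (h hw)).symm)
  -- the fixed points of `b`
  set W0 := W ⊓ centralizer ({π b} : Set (X ⧸ V)) with hW0
  have hcW0 : 4 ≤ Nat.card W0 := by
    have h1 := ActFour.card_le_sq hWc hW2 (hWn (π b)) (by
      rw [← map_pow, pow_two, hbb, map_one]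
      exact one_mem _)
    rw [hcW] at h1
    nlinarith
  set Y := W0.comap π with hY
  have hcY : 64 ≤ Nat.card Y := by
    have h1 := GH.Rank.card_comap_of_surjective π hπs W0
    have h2 : π.ker = V := QuotientGroup.ker_mk' V
    rw [h2, hc16] at h1
    rw [hY, h1]
    omega
  have hYQ : Y ≤ Q := fun y hy => hWQ y hy.1
  set N := V ⊓ centralizer ({b} : Set X) with hN
  have hcN : Nat.card N ≤ 4 := card_cent_le hr hVn hV2 hx5 hne hbb hbx
  have hVY : V ≤ Y := fun v hv => by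
    have : π v = 1 := (hπ v).mpr hv
    show π v ∈ W0
    rw [this]
    exact W0.one_mem
  have hmemN : ∀ v ∈ V, b * v * b⁻¹ = v → v ∈ N := fun v hv h =>
    ⟨hv, mem_centralizer_singleton_iff.mpr (by
      calc v * b = b * v * b⁻¹ * b := by rw [h]
        _ = b * v := by group)⟩
  have hinv : ∀ v ∈ V, v⁻¹ = v := fun v hv => inv_eq_of_mul_eq_one_left (by
    have := hV2 v hv
    rwa [pow_two] at this)
  -- `[b, y] ∈ N`
  have hcV : ∀ y ∈ Y, b * y * b⁻¹ * y⁻¹ ∈ V := by
    intro y hy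
    rw [← hπ, map_mul, map_mul, map_mul, map_inv, map_inv]
    have h1 : π y * π b = π b * π y := mem_centralizer_singleton_iff.mp hy.2
    rw [← h1]
    group
  have hcN' : ∀ y ∈ Y, b * y * b⁻¹ * y⁻¹ ∈ N := by
    intro y hy
    apply hmemN _ (hcV y hy)
    have s1 : b * (b * y * b⁻¹ * y⁻¹) * b⁻¹ = (b * b) * (y * b⁻¹ * y⁻¹ * b⁻¹) := by group
    have s2 : (b * y * b⁻¹ * y⁻¹)⁻¹ = y * b * y⁻¹ * b⁻¹ := by group
    rw [s1, hbb, one_mul, ← hinv _ (hcV y hy), s2, hb1]
  have hby : ∀ y ∈ Y, b * y * b⁻¹ = (b * y * b⁻¹ * y⁻¹) * y := fun y _ => by group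
  have hYsec : ElemSection 2 Y N := by
    refine ⟨inf_le_left.trans hVY, fun y hy z hz => ?_, fun y hy => ?_⟩
    · have h1 : y * z * y⁻¹ * z⁻¹ ∈ V := by
        rw [← hπ, map_mul, map_mul, map_mul, map_inv, map_inv, hWc _ hy.1 _ hz.1]
        group
      apply hmemN _ h1
      set c := b * y * b⁻¹ * y⁻¹ with hc
      set d := b * z * b⁻¹ * z⁻¹ with hd
      have hcc : ∀ q ∈ Q, c * q = q * c := hVc c (hcV y hy)
      have hdc : ∀ q ∈ Q, d * q = q * d := hVc d (hcV z hz)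
      calc b * (y * z * y⁻¹ * z⁻¹) * b⁻¹
          = (b * y * b⁻¹) * (b * z * b⁻¹) * (b * y * b⁻¹)⁻¹ * (b * z * b⁻¹)⁻¹ := by group
        _ = (c * y) * (d * z) * (c * y)⁻¹ * (d * z)⁻¹ := by rw [hby y hy, hby z hz]
        _ = y * z * y⁻¹ * z⁻¹ := by
          have e1 : Commute c y := hcc y (hYQ hy)
          have e2 : Commute c z := hcc z (hYQ hz)
          have e3 : Commute c d := hcc d (hVQ (hcV z hz))
          have e4 : Commute d y := hdc y (hYQ hy)
          have e5 : Commute d z := hdc z (hYQ hz)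
          have t1 : (c * y) * (d * z) * (c * y)⁻¹ = (d * z) * (z⁻¹ * (y * z * y⁻¹)) := by
            have s1 : Commute c (d * z) := e3.mul_right e2
            calc (c * y) * (d * z) * (c * y)⁻¹ = (c * (y * (d * z) * y⁻¹) * c⁻¹) := by group
              _ = c * (d * (y * z * y⁻¹)) * c⁻¹ := by
                rw [show y * (d * z) * y⁻¹ = d * (y * z * y⁻¹) by
                  rw [← mul_assoc y d z, ← e4.eq]; group]
              _ = d * (y * z * y⁻¹) := by
                have s2 : Commute c (d * (y * z * y⁻¹)) :=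
                  e3.mul_right ((e1.mul_right e2).mul_right e1.inv_right)
                rw [s2.eq]; group
              _ = (d * z) * (z⁻¹ * (y * z * y⁻¹)) := by group
          rw [t1]
          have s3 : Commute d (z⁻¹ * (y * z * y⁻¹)) :=
            e5.inv_right.mul_right ((e4.mul_right e5).mul_right e4.inv_right)
          calc d * z * (z⁻¹ * (y * z * y⁻¹)) * (d * z)⁻¹
              = d * (y * z * y⁻¹ * z⁻¹) * d⁻¹ := by group
            _ = y * z * y⁻¹ * z⁻¹ := by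
              have s4 : Commute d (y * z * y⁻¹ * z⁻¹) :=
                ((e4.mul_right e5).mul_right e4.inv_right).mul_right e5.inv_right
              rw [s4.eq]; group
    · have h1 : y ^ 2 ∈ V := by
        rw [← hπ, map_pow]
        exact hW2 _ hy.1
      apply hmemN _ h1
      set c := b * y * b⁻¹ * y⁻¹ with hc
      have e1 : Commute c y := hVc c (hcV y hy) y (hYQ hy)
      calc b * y ^ 2 * b⁻¹ = (b * y * b⁻¹) ^ 2 := by rw [conj_pow]
        _ = (c * y) ^ 2 := by rw [hby y hy]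
        _ = y ^ 2 := by rw [e1.mul_pow, hV2 c (hcV y hy), one_mul]
  obtain ⟨Z, hZ, -, -, hcZ⟩ := exists_ext hYsec (b := b) (by rw [hbb]; exact N.one_mem) hcN'
    (fun h => hbQ (hYQ h))
  have := hr Z N hZ
  omega

end T1

end Cfsg.Agent.GH.C2Five
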