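import Mathlib
import Cfsg.Agent.GH.C2ThreeNat
import Cfsg.Agent.Lib.FrattiniPGroup
import Cfsg.Agent.GH.Rank
import Cfsg.Agent.Lib.DihedralRecog
set_option linter.all false

-- part: GH/C2ThreeK0
section
/-!
# GH-C2 (T3): the case `Q = V` natural of order 8, and tools
-/

set_option autoImplicit false
set_option maxHeartbeats 800000

namespace Cfsg.Agent.GH.C2ThreeK0

open Subgroup Cfsg.Agent.TwoFusion.SectionalRank Cfsg.Agent.GH.C2Base Cfsg.Agent.GH.C2Five
open Cfsg.Agent.GH.C2ThreeNat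

variable {X : Type*} [Group X]

theorem mem_or_of_card [Finite X] {Y Z : Subgroup X} {b : X} (hYZ : Y ≤ Z) (hb : b ∈ Z) (hbY : b ∉ Y)
    (hc : Nat.card Z = 2 * Nat.card Y) {z : X} (hz : z ∈ Z) : z ∈ Y ∨ b⁻¹ * z ∈ Y := by
  have h1 : (Y.subgroupOf Z).index = 2 := by
    have h2 : Nat.card Z = Y.relIndex Z * Nat.card Y := card_eq_relIndex_mul Z Y hYZ
    rw [hc] at h2
    exact (Nat.eq_of_mul_eq_mul_right Nat.card_pos h2).symm
  have h2 := Subgroup.mul_mem_iff_of_index_two h1 (a := (⟨b, hb⟩ : Z)⁻¹) (b := ⟨z, hz⟩)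
  simp only [mem_subgroupOf] at h2
  by_cases h3 : z ∈ Y
  · exact Or.inl h3
  · right
    have h4 : ¬ ((⟨b, hb⟩ : Z)⁻¹ : Z).1 ∈ Y := by
      intro h5
      exact hbY (by simpa using Y.inv_mem h5)
    exact h2.2 ⟨fun h5 => absurd h5 h4, fun h5 => absurd h5 h3⟩

/-- An elementary section of order 8 extended by two elements. -/
theorem five [Finite X] (hr : R4 X) {Y N : Subgroup X} (h : ElemSection 2 Y N)
    (hc : 8 * Nat.card N ≤ Nat.card Y) {x1 x2 : X} (h11 : x1 * x1 ∈ N) (h22 : x2 * x2 ∈ N)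
    (h1 : ∀ y ∈ Y, x1 * y * x1⁻¹ * y⁻¹ ∈ N) (h2 : ∀ y ∈ Y, x2 * y * x2⁻¹ * y⁻¹ ∈ N)
    (h21 : x2 * x1 * x2⁻¹ * x1⁻¹ ∈ N) (hx1 : x1 ∉ Y) (hx2 : x2 ∉ Y) (hx12 : x1⁻¹ * x2 ∉ Y) :
    False := by
  obtain ⟨Z1, hZ1, hY1, hb1, hc1⟩ := exists_ext h h11 h1 hx1
  have hmem : ∀ z ∈ Z1, z ∈ Y ∨ x1⁻¹ * z ∈ Y := fun z hz => mem_or_of_card hY1 hb1 hx1 hc1 hz
  obtain ⟨Z2, hZ2, -, -, hc2⟩ := exists_ext hZ1 h22 (fun y hy => by
    rcases hmem y hy with h3 | h3
    · exact h2 y h3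
    · have h4 : x2 * y * x2⁻¹ * y⁻¹ = (x2 * x1 * x2⁻¹ * x1⁻¹) *
          (x1 * (x2 * (x1⁻¹ * y) * x2⁻¹ * (x1⁻¹ * y)⁻¹) * x1⁻¹) := by group
      rw [h4]
      exact N.mul_mem h21 (hZ1.conj_mem hb1 (h2 _ h3))) (fun h3 => by
    rcases hmem _ h3 with h4 | h4
    · exact hx2 h4
    · exact hx12 h4)
  have h3 := hr _ _ hZ2
  have h4 : 0 < Nat.card N := Nat.card_pos
  omega

/-! ### `L32` passes to quotients -/

theorem L32.map {Q : Subgroup X} (hQ : L32 Q) (N : Subgroup X) [hN : N.Normal] (hNQ : N ≤ Q) :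
    L32 (Q.map (QuotientGroup.mk' N)) := by
  have hQn := hQ.normal
  have hker : (QuotientGroup.mk' N).ker ≤ Q := by rw [QuotientGroup.ker_mk']; exact hNQ
  refine ⟨hQn.map _ (QuotientGroup.mk'_surjective N), hQ.two.map _, ?_, ?_⟩
  · rw [index_map_eq _ (QuotientGroup.mk'_surjective N) hker, hQ.index]
  · intro M hM hQM
    have h1 := hQ.simple (M.comap (QuotientGroup.mk' N)) (hM.comap _) (map_le_iff_le_comap.1 hQM)
    rcases h1 with h1 | h1
    · left
      rw [← h1, map_comap_eq_self_of_surjective (QuotientGroup.mk'_surjective N)]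
    · right
      rw [← map_comap_eq_self_of_surjective (QuotientGroup.mk'_surjective N) M, h1,
        map_top_of_surjective _ (QuotientGroup.mk'_surjective N)]

theorem mk_mem_zpowers {N : Subgroup X} [N.Normal] {x e : X}
    (h : (x : X ⧸ N) ∈ zpowers (e : X ⧸ N)) : x ∈ N ⊔ zpowers e := by
  obtain ⟨k, hk⟩ := mem_zpowers_iff.1 h
  have h1 : ((e ^ k : X) : X ⧸ N) = x := by
    rw [QuotientGroup.mk_zpow]
    exact hk
  have h2 : (e ^ k)⁻¹ * x ∈ N := QuotientGroup.eq.1 h1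
  have h3 : x = e ^ k * ((e ^ k)⁻¹ * x) := by group
  rw [h3]
  exact mul_mem (mem_sup_right (zpow_mem (mem_zpowers e) k)) (mem_sup_left h2)

/-! ### The case `Q = V` -/

section K0

variable {Q : Subgroup X} {w : T3 → X}

theorem mem_zpowers_w {V : Subgroup X} (h : Coord V w) {p : T3} {v : X} :
    v ∈ zpowers (w p) ↔ v = 1 ∨ v = w p := by
  constructor
  · intro hv
    obtain ⟨k, rfl⟩ := mem_zpowers_iff.1 hv
    rcases Int.even_or_odd' k with ⟨l, rfl | rfl⟩
    · left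
      rw [zpow_mul]
      have : w p ^ (2 : ℤ) = 1 := by
        rw [zpow_ofNat, pow_two, h.sq]
      rw [this, one_zpow]
    · right
      rw [zpow_add, zpow_mul, zpow_one]
      have : w p ^ (2 : ℤ) = 1 := by
        rw [zpow_ofNat, pow_two, h.sq]
      rw [this, one_zpow, one_mul]
  · rintro (rfl | rfl)
    · exact one_mem _
    · exact mem_zpowers _

theorem w_mem_zpowers {V : Subgroup X} (h : Coord V w) {p q : T3} :
    w q ∈ zpowers (w p) ↔ q = 0 ∨ q = p := by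
  rw [mem_zpowers_w h, ← h.zero, h.injective.eq_iff, h.injective.eq_iff]

variable (h : NatMod Q Q w)

include h

theorem k0_a0 {x : X} (hx : Acts w x (mR 0 1)) : x * x ∈ zpowers (w e1) := by
  obtain ⟨y, hy⟩ := h.real mc mc_bas
  have hy2 : Acts w (y * y) (mR 0 1) := by
    have := hy.mul hy
    rwa [mc_sq] at this
  have hq := h.same hx hy2
  obtain ⟨p, hp⟩ := (h.coord.mem _).1 hq
  have hy4 : y * y * (y * y) ∈ Q := by
    rw [h.mem_iff (hy2.mul hy2), mR_mul]
    decide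
  obtain ⟨r, hr⟩ := (h.coord.mem _).1 hy4
  have hr1 : lin mc r = r := by
    rw [← hy.comm_iff h.coord, hr]
    group
  have hx1 : x = w p * (y * y) := by rw [hp]; group
  have hxx : x * x = w (p + lin (mR 0 1) p + r) := by
    rw [h.coord.mul, h.coord.mul, ← hy2 p, hr, hx1]
    generalize y * y = t
    group
  rw [hxx, w_mem_zpowers h.coord]
  clear hxx hx1 hr hp
  revert p r
  decide

theorem k0_sq {x : X} {i j : ZMod 2} (hx : Acts w x (mR i j)) [Finite X] (hQ : IsPGroup 2 Q) :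
    x * x ∈ zpowers (w e1) := by
  obtain ⟨d, hd3, hd⟩ := h.exists_ord3 hQ md_bas md_cube
  have hdi : Acts w d⁻¹ (cmp md md) := hd.inv md_cube
  have hde : d * w e1 * d⁻¹ = w e1 := by
    rw [hd]
    rfl
  have hconj : ∀ {x : X} {i j : ZMod 2}, Acts w x (mR i j) → Acts w (d * x * d⁻¹) (mR (i + j) i) := by
    intro x i j hx
    have h1 := (hd.mul (hx.mul hdi))
    rw [md_conj] at h1
    rwa [← mul_assoc] at h1
  have hback : ∀ {x : X}, (d * x * d⁻¹) * (d * x * d⁻¹) ∈ zpowers (w e1) → x * x ∈ zpowers (w e1) := by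
    intro x hx
    have h1 : (d * x * d⁻¹) * (d * x * d⁻¹) = d * (x * x) * d⁻¹ := by group
    rw [h1, mem_zpowers_w h.coord] at hx
    rw [mem_zpowers_w h.coord]
    rcases hx with hx | hx
    · left
      have : x * x = d⁻¹ * (d * (x * x) * d⁻¹) * d := by group
      rw [this, hx]
      group
    · right
      have : x * x = d⁻¹ * (d * (x * x) * d⁻¹) * d := by group
      rw [this, hx]
      nth_rw 1 [← hde]
      group
  rcases z2 i with rfl | rfl <;> rcases z2 j with rfl | rfl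
  · have hxQ : x ∈ Q := (h.mem_iff hx).2 rfl
    rw [h.coord.sq_mem hxQ]
    exact one_mem _
  · exact k0_a0 h hx
  · have h1 := hconj (hconj hx)
    have h2 : ((1 : ZMod 2) + 0 + 1) = 0 := by decide
    rw [h2] at h1
    exact hback (hback (k0_a0 h h1))
  · have h1 := hconj hx
    have h2 : ((1 : ZMod 2) + 1) = 0 := by decide
    rw [h2] at h1
    exact hback (k0_a0 h h1)

theorem comm_e1 {x : X} {i j : ZMod 2} (hx : Acts w x (mR i j)) : x * w e1 = w e1 * x :=
  (hx.comm_iff h.coord).2 (by clear hx; revert i j; decide)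

theorem k0_comm {x y : X} {i j k l : ZMod 2} (hx : Acts w x (mR i j)) (hy : Acts w y (mR k l))
    [Finite X] (hQ : IsPGroup 2 Q) : x * y * x⁻¹ * y⁻¹ ∈ zpowers (w e1) := by
  have h1 := k0_sq h hx hQ
  have h2 := k0_sq h hy hQ
  have hxy := hx.mul hy
  rw [mR_mul] at hxy
  have h3 := k0_sq h hxy hQ
  have h4 : x * y * x⁻¹ * y⁻¹ = (x * y * (x * y)) * (y⁻¹ * (x * x)⁻¹ * y) * (y * y)⁻¹ := by group
  rw [h4]
  have h5 : y⁻¹ * (x * x)⁻¹ * y = (x * x)⁻¹ := by
    have h6 : (x * x)⁻¹ ∈ zpowers (w e1) := inv_mem h1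
    rcases (mem_zpowers_w h.coord).1 h6 with h7 | h7
    · rw [h7]; group
    · rw [h7, mul_assoc, ← comm_e1 h hy]; group
  rw [h5]
  exact mul_mem (mul_mem h3 (inv_mem h1)) (inv_mem h2)

theorem k0_inv : ∃ x, Acts w x (mR 0 1) ∧ x * x = 1 := by
  obtain ⟨x, hx⟩ := h.real (mR 0 1) (mR_bas 0 1)
  rcases (mem_zpowers_w h.coord).1 (k0_a0 h hx) with h1 | h1
  · exact ⟨x, hx, h1⟩
  · refine ⟨x * w e3, h.acts_mul_right hx (h.coord.mem_w e3), ?_⟩
    have h2 : x * w e3 * (x * w e3) = (x * x) * ((x⁻¹ * w e3 * x) * w e3) := by group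
    have h3 : x⁻¹ * w e3 * x = w (e1 + e3) := by
      have h4 := hx (e1 + e3)
      have h5 : lin (mR 0 1) (e1 + e3) = e3 := by decide
      rw [h5] at h4
      rw [← h4]
      group
    rw [h2, h3, h1, ← h.coord.mul, ← h.coord.mul]
    have h6 : e1 + (e1 + e3 + e3) = 0 := by decide
    rw [h6, h.coord.zero]

theorem k0_prod {x d : X} (hd : Acts w d md) (hd3 : d ^ 3 = 1) (hx : Acts w x (mR 0 1)) :
    x * (d * x * d⁻¹) * (d * (d * x * d⁻¹) * d⁻¹) ∈ zpowers (w e1) := by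
  have hdi : Acts w d⁻¹ (cmp md md) := hd.inv md_cube
  have hx2 : Acts w (d * x * d⁻¹) (mR 1 0) := by
    have h1 := (hd.mul (hx.mul hdi))
    rw [md_conj] at h1
    rwa [← mul_assoc] at h1
  have hx3 : Acts w (d * (d * x * d⁻¹) * d⁻¹) (mR 1 1) := by
    have h1 := (hd.mul (hx2.mul hdi))
    rw [md_conj] at h1
    rwa [← mul_assoc] at h1
  set u := x * (d * x * d⁻¹) * (d * (d * x * d⁻¹) * d⁻¹) with hu
  have huQ : u ∈ Q := by
    rw [h.mem_iff ((hx.mul hx2).mul hx3)]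
    decide
  obtain ⟨p, hp⟩ := (h.coord.mem u).1 huQ
  have h4 : d * u * d⁻¹ = x⁻¹ * u * x := by
    have h5 : d * (d * (d * x * d⁻¹) * d⁻¹) * d⁻¹ = x := by
      calc d * (d * (d * x * d⁻¹) * d⁻¹) * d⁻¹ = d ^ 3 * x * (d ^ 3)⁻¹ := by
            rw [pow_succ, pow_two]; group
        _ = x := by rw [hd3]; group
    calc d * u * d⁻¹ = (d * x * d⁻¹) * (d * (d * x * d⁻¹) * d⁻¹) *
          (d * (d * (d * x * d⁻¹) * d⁻¹) * d⁻¹) := by rw [hu]; group
      _ = (d * x * d⁻¹) * (d * (d * x * d⁻¹) * d⁻¹) * x := by rw [h5]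
      _ = x⁻¹ * u * x := by rw [hu]; group
  have h6 : x * (d * w p * d⁻¹) * x⁻¹ = w p := by
    rw [hp, h4]
    group
  rw [hd, hx] at h6
  have h7 := h.coord.injective h6
  rw [← hp, w_mem_zpowers h.coord]
  clear h6 hp
  revert p
  decide

end K0

end Cfsg.Agent.GH.C2ThreeK0
end

-- part: GH/C2ThreeOneS
section
/-!
# GH-C2 (T3), statement ONE: the central cases

`SS Q π w e`: `ker π` is central, `Q / ker π` is the natural module with coordinates `w`, `e` is
a lift of `w e1` commuting with the transvections of centre `w e1`.  `SS.kill`: sectional rank ≥ 5.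
-/

set_option autoImplicit false
set_option maxHeartbeats 800000

namespace Cfsg.Agent.GH.C2ThreeOne

open Subgroup Cfsg.Agent.TwoFusion.SectionalRank Cfsg.Agent.GH.C2Base Cfsg.Agent.GH.C2Five
open Cfsg.Agent.GH.C2ThreeNat Cfsg.Agent.GH.C2ThreeK0

/-- The basic identity for `x, x^d, x^dd`. -/
theorem ident {G : Type*} [Group G] {x d x2 x3 ε ζ : G} (h2 : x2 = d * x * d⁻¹)
    (h3 : x3 = d * x2 * d⁻¹) (hε : ε = x * x2 * x⁻¹ * x2⁻¹) (hζ : ζ = x * x2 * x3)
    (hsd : d * (x * x) = (x * x) * d) (hs2 : x2 * (x * x) = (x * x) * x2)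
    (hε1 : x * ε = ε * x) (hζ3 : x3 * ζ = ζ * x3) :
    ε * ε = 1 ∧ x * x * (x * x) * (x * x) = ε * (ζ * ζ) ∧ x2 * x2 = x * x := by
  have hx2 : x2 * x2 = x * x := by
    calc x2 * x2 = d * (x * x) * d⁻¹ := by rw [h2]; group
      _ = x * x := by rw [hsd]; group
  have hx3 : x3 * x3 = x * x := by
    calc x3 * x3 = d * (x2 * x2) * d⁻¹ := by rw [h3]; group
      _ = d * (x * x) * d⁻¹ := by rw [hx2]
      _ = x * x := by rw [hsd]; group
  have h12 : x * x2 = ε * x2 * x := by rw [hε]; group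
  have hεε : ε * ε = 1 := by
    have e1 : x * x * x2 = ε * ε * x2 * (x * x) := by
      calc x * x * x2 = x * (x * x2) := by group
        _ = x * ε * x2 * x := by rw [h12]; group
        _ = ε * (x * x2) * x := by rw [hε1]; group
        _ = ε * ε * x2 * (x * x) := by rw [h12]; group
    have e2 : ε * ε * (x * x * x2) = 1 * (x * x * x2) := by
      calc ε * ε * (x * x * x2) = ε * ε * (x2 * (x * x)) := by rw [hs2]
        _ = ε * ε * x2 * (x * x) := by group
        _ = x * x * x2 := e1.symm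
        _ = 1 * (x * x * x2) := (one_mul _).symm
    exact mul_right_cancel e2
  refine ⟨hεε, ?_, hx2⟩
  have e3 : (x * x2) * (x * x2) = ε * (x * x) * (x * x) := by
    calc (x * x2) * (x * x2) = ε * x2 * x * (x * x2) := by rw [← h12]
      _ = ε * (x2 * (x * x)) * x2 := by group
      _ = ε * (x * x) * (x2 * x2) := by rw [hs2]; group
      _ = ε * (x * x) * (x * x) := by rw [hx2]
  have e4 : x * x2 = ζ * x3⁻¹ := by rw [hζ]; group
  have e5 : x3⁻¹ * ζ = ζ * x3⁻¹ := by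
    calc x3⁻¹ * ζ = x3⁻¹ * (ζ * x3) * x3⁻¹ := by group
      _ = x3⁻¹ * (x3 * ζ) * x3⁻¹ := by rw [hζ3]
      _ = ζ * x3⁻¹ := by group
  have e6 : (x * x2) * (x * x2) = ζ * ζ * (x * x)⁻¹ := by
    calc (x * x2) * (x * x2) = ζ * (x3⁻¹ * ζ) * x3⁻¹ := by rw [e4]; group
      _ = ζ * ζ * (x3 * x3)⁻¹ := by rw [e5]; group
      _ = ζ * ζ * (x * x)⁻¹ := by rw [hx3]
  rw [e3] at e6
  calc x * x * (x * x) * (x * x) = (ε * ε)⁻¹ * ε * (ε * (x * x) * (x * x)) * (x * x) := by group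
    _ = ε * (ζ * ζ) := by rw [e6, hεε]; group

variable {X Y : Type*} [Group X] [Group Y]

/-- A lift of order 3 modulo a normal 2-subgroup. -/
theorem lift_ord3 (π : X →* Y) (hπ : Function.Surjective π) (hZ : IsPGroup 2 π.ker) {d : Y}
    (hd : d ^ 3 = 1) : ∃ t : X, t ^ 3 = 1 ∧ π t = d := by
  obtain ⟨x, rfl⟩ := hπ d
  have hx3 : x ^ 3 ∈ π.ker := by
    rw [MonoidHom.mem_ker, map_pow]
    exact hd
  obtain ⟨n, hn⟩ := hZ ⟨_, hx3⟩
  have hn' : (x ^ 3) ^ 2 ^ n = 1 := by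
    have := congrArg Subtype.val hn
    simpa using this
  refine ⟨x ^ (4 ^ n), ?_, ?_⟩
  · have e2 : (x ^ 4 ^ n) ^ 3 = ((x ^ 3) ^ 2 ^ n) ^ 2 ^ n := by
      rw [← pow_mul, ← pow_mul, ← pow_mul]
      congr 1
      have : (4 : ℕ) ^ n = 2 ^ n * 2 ^ n := by
        rw [← mul_pow]
        norm_num
      rw [this]
      ring
    rw [e2, hn', one_pow]
  · obtain ⟨k, hk⟩ : ∃ k, 4 ^ n = 3 * k + 1 := by
      refine ⟨(4 ^ n - 1) / 3, ?_⟩
      have h5 : 4 ^ n % 3 = 1 := by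
        rw [Nat.pow_mod]
        simp
      generalize 4 ^ n = N at h5 ⊢
      omega
    rw [hk, map_pow, pow_add, pow_mul, hd, one_pow, one_mul, pow_one]

theorem mem_ker_sup {π : X →* Y} {a e : X} (h : π a ∈ zpowers (π e)) : a ∈ π.ker ⊔ zpowers e := by
  obtain ⟨k, hk⟩ := mem_zpowers_iff.1 h
  have h2 : a * (e ^ k)⁻¹ ∈ π.ker := by
    rw [MonoidHom.mem_ker, map_mul, map_inv, map_zpow, hk, mul_inv_cancel]
  have h3 : a = (a * (e ^ k)⁻¹) * e ^ k := by group
  rw [h3]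
  exact mul_mem (mem_sup_left h2) (mem_sup_right (zpow_mem (mem_zpowers e) k))

/-- `ker π` central, `Q / ker π` natural, `e` a good lift of `w e1`. -/
structure SS (Q : Subgroup X) (π : X →* Y) (w : T3 → Y) (e : X) : Prop where
  two : IsPGroup 2 Q
  surj : Function.Surjective π
  zle : π.ker ≤ Q
  zc : ∀ z ∈ π.ker, ∀ x, x * z = z * x
  nat : NatMod (Q.map π) (Q.map π) w
  ee : π e = w e1
  eR : ∀ (x : X) (i j : ZMod 2), Acts w (π x) (mR i j) → x * e = e * x
  ed : ∀ d : X, d ^ 3 = 1 → Acts w (π d) md → d * e = e * d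

namespace SS

variable {Q : Subgroup X} {π : X →* Y} {w : T3 → Y} {e : X} (h : SS Q π w e)

include h

theorem memQ {x : X} : x ∈ Q ↔ π x ∈ Q.map π := by
  constructor
  · intro hx
    exact ⟨x, hx, rfl⟩
  · rintro ⟨q, hq, hqx⟩
    have h1 : q⁻¹ * x ∈ π.ker := by
      rw [MonoidHom.mem_ker, map_mul, map_inv, hqx, inv_mul_cancel]
    have h2 : x = q * (q⁻¹ * x) := by group
    rw [h2]
    exact Q.mul_mem hq (h.zle h1)

theorem commE {x : X} (hx : x * e = e * x) {a : X} (ha : a ∈ π.ker ⊔ zpowers e) : x * a = a * x := by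
  have h1 : π.ker ⊔ zpowers e ≤ centralizer ({x} : Set X) := by
    refine sup_le (fun z hz => ?_) ?_
    · rw [mem_centralizer_singleton_iff]
      exact (h.zc z hz x).symm
    · rw [zpowers_le, mem_centralizer_singleton_iff]
      exact hx.symm
  exact (mem_centralizer_singleton_iff.1 (h1 ha)).symm

theorem e_mem : e ∈ Q := by
  rw [h.memQ, h.ee]
  exact h.nat.coord.mem_w e1

/-- The triple over `mR 0 1`, `mR 1 0`, `mR 1 1`. -/
theorem trip [Finite X] [Finite Y] {x : X} (hx : Acts w (π x) (mR 0 1)) :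
    ∃ x2 ε ζ : X, Acts w (π x2) (mR 1 0) ∧ x2 * x2 = x * x ∧ x * x ∈ π.ker ⊔ zpowers e ∧
      ε = x * x2 * x⁻¹ * x2⁻¹ ∧ ε ∈ π.ker ⊔ zpowers e ∧ ζ ∈ π.ker ⊔ zpowers e ∧ ε * ε = 1 ∧
      x * x * (x * x) * (x * x) = ε * (ζ * ζ) := by
  have hQ2 : IsPGroup 2 (Q.map π) := h.two.map _
  obtain ⟨d0, hd03, hd0⟩ := h.nat.exists_ord3 hQ2 md_bas md_cube
  obtain ⟨d, hd3, rfl⟩ := lift_ord3 π h.surj (h.two.to_le h.zle) hd03
  have hdi : Acts w (π d)⁻¹ (cmp md md) := hd0.inv md_cube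
  have hconj : ∀ {x : X} {i j : ZMod 2}, Acts w (π x) (mR i j) →
      Acts w (π (d * x * d⁻¹)) (mR (i + j) i) := by
    intro x i j hx
    have h1 := (hd0.mul (hx.mul hdi))
    rw [md_conj, ← mul_assoc, ← map_inv, ← map_mul, ← map_mul] at h1
    exact h1
  have hx2 : Acts w (π (d * x * d⁻¹)) (mR 1 0) := by
    have := hconj hx
    rwa [zero_add] at this
  have hx3 : Acts w (π (d * (d * x * d⁻¹) * d⁻¹)) (mR 1 1) := by
    have := hconj hx2
    rwa [add_zero] at this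
  have hlift : ∀ {a : X}, π a ∈ zpowers (w e1) → a ∈ π.ker ⊔ zpowers e := by
    intro a ha
    rw [← h.ee] at ha
    exact mem_ker_sup ha
  have hs : x * x ∈ π.ker ⊔ zpowers e := hlift (by
    rw [map_mul]
    exact k0_sq h.nat hx hQ2)
  have hε : x * (d * x * d⁻¹) * x⁻¹ * (d * x * d⁻¹)⁻¹ ∈ π.ker ⊔ zpowers e :=
    hlift (by
      rw [map_mul, map_mul, map_mul, map_inv, map_inv]
      exact k0_comm h.nat hx hx2 hQ2)
  have hζ : x * (d * x * d⁻¹) * (d * (d * x * d⁻¹) * d⁻¹) ∈ π.ker ⊔ zpowers e :=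
    hlift (by
      have := k0_prod h.nat hd0 hd03 hx
      simpa only [map_mul, map_inv] using this)
  have hed := h.ed d hd3 hd0
  obtain ⟨i1, i2, i3⟩ := ident (x := x) (d := d) rfl rfl rfl rfl (h.commE hed hs)
    (h.commE (h.eR _ _ _ hx2) hs) (h.commE (h.eR _ _ _ hx) hε) (h.commE (h.eR _ _ _ hx3) hζ)
  exact ⟨_, _, _, hx2, i3, hs, rfl, hε, hζ, i1, i2⟩

/-- The main application: sectional rank at least 5. -/
theorem kill [Finite X] (hr : R4 X) {D : Subgroup X} (hD : ElemSection 2 Q D)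
    (hc : 8 * Nat.card D ≤ Nat.card Q)
    (hcomm : ∀ (x : X) (i j : ZMod 2), Acts w (π x) (mR i j) → ∀ q ∈ Q, x * q * x⁻¹ * q⁻¹ ∈ D)
    {x x2 : X} (hx : Acts w (π x) (mR 0 1)) (hx2 : Acts w (π x2) (mR 1 0))
    (h11 : x * x ∈ D) (h22 : x2 * x2 ∈ D) (h12 : x * x2 * x⁻¹ * x2⁻¹ ∈ D) : False := by
  refine five hr hD hc h11 h22 (hcomm x _ _ hx) (hcomm x2 _ _ hx2) ?_ ?_ ?_ ?_
  · have h3 : x2 * x * x2⁻¹ * x⁻¹ = (x * x2 * x⁻¹ * x2⁻¹)⁻¹ := by group
    rw [h3]
    exact D.inv_mem h12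
  · rw [h.memQ, h.nat.mem_iff hx]
    decide
  · rw [h.memQ, h.nat.mem_iff hx2]
    decide
  · intro h4
    have h5 : Acts w (π (x * x2)) (mR 1 1) := by
      have := hx.mul hx2
      rwa [mR_mul, ← map_mul] at this
    have hs : x * x ∈ Q := hD.le h11
    have h6 : x * x2 ∈ Q := by
      have h7 : x * x2 = (x * x) * (x⁻¹ * x2) := by group
      rw [h7]
      exact Q.mul_mem hs h4
    rw [h.memQ, h.nat.mem_iff h5] at h6
    revert h6
    decide

end SS

end Cfsg.Agent.GH.C2ThreeOne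
end

-- part: GH/C2ThreeOneC
section
/-!
# GH-C2 (T3), statement ONE: `Q = W × ⟨g⟩` with `g` central

`central_four`: `g² ≠ 1` is impossible; `central_two`: if `g² = 1 ≠ g`, all involutions lie in `Q`.
-/

set_option autoImplicit false
set_option maxHeartbeats 800000

set_option linter.unusedSectionVars false
set_option linter.unusedVariables false

namespace Cfsg.Agent.GH.C2ThreeOne

open Subgroup Cfsg.Agent.TwoFusion.SectionalRank Cfsg.Agent.GH.C2Base Cfsg.Agent.GH.C2Five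
open Cfsg.Agent.GH.C2ThreeNat Cfsg.Agent.GH.C2ThreeK0

variable {X Y : Type*} [Group X] [Group Y]

/-! ### 2-elements and cyclic groups -/

/-- In a 2-group: if `g² ≠ 1` and `g^(2i) = 1`, then `i` is even. -/
theorem even_of_zpow {g : X} {n : ℕ} (hn : g ^ 2 ^ n = 1) (hg : g * g ≠ 1) {i : ℤ}
    (hi : g ^ i * g ^ i = 1) : Even i := by
  by_contra hodd
  rw [Int.not_even_iff_odd] at hodd
  apply hg
  obtain ⟨j, rfl⟩ := hodd
  -- `g² ` has odd order and 2-power order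
  have h1 : (g * g) ^ (2 * j + 1) = 1 := by
    rw [(Commute.refl g).mul_zpow]
    exact hi
  have h2 : (orderOf (g * g) : ℤ) ∣ 2 * j + 1 := orderOf_dvd_iff_zpow_eq_one.2 h1
  have h3 : orderOf (g * g) ∣ 2 ^ n := orderOf_dvd_of_pow_eq_one (by
    rw [(Commute.refl g).mul_pow, hn, one_mul])
  obtain ⟨m, -, hm⟩ := (Nat.dvd_prime_pow Nat.prime_two).1 h3
  rw [← orderOf_eq_one_iff, hm]
  rcases Nat.eq_zero_or_pos m with h4 | h4
  · rw [h4, pow_zero]
  · exfalso
    obtain ⟨k, rfl⟩ := Nat.exists_eq_add_of_le' h4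
    rw [hm] at h2
    have h5 : (2 : ℤ) ∣ ((2 ^ (k + 1) : ℕ) : ℤ) := by
      rw [pow_succ]
      exact ⟨2 ^ k, by push_cast; ring⟩
    have h6 := h5.trans h2
    omega

theorem exists_pow_of_mem {Q : Subgroup X} (hQ : IsPGroup 2 Q) {g : X} (hg : g ∈ Q) :
    ∃ n : ℕ, g ^ 2 ^ n = 1 := by
  obtain ⟨n, hn⟩ := hQ ⟨g, hg⟩
  refine ⟨n, ?_⟩
  have := congrArg Subtype.val hn
  simpa using this

/-- `g ∉ ⟨g²⟩` for a 2-element `g ≠ 1`. -/
theorem not_mem_sq {g : X} {n : ℕ} (hn : g ^ 2 ^ n = 1) (hg : g ≠ 1) : g ∉ zpowers (g * g) := by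
  intro h
  obtain ⟨k, hk⟩ := mem_zpowers_iff.1 h
  apply hg
  -- `g^(2k-1) = 1`
  have h1 : g ^ (2 * k - 1) = 1 := by
    rw [zpow_sub, zpow_mul, zpow_one, zpow_ofNat, pow_two, hk, mul_inv_cancel]
  have h2 : (orderOf g : ℤ) ∣ 2 * k - 1 := orderOf_dvd_iff_zpow_eq_one.2 h1
  have h3 : orderOf g ∣ 2 ^ n := orderOf_dvd_of_pow_eq_one hn
  obtain ⟨m, -, hm⟩ := (Nat.dvd_prime_pow Nat.prime_two).1 h3
  rw [← orderOf_eq_one_iff, hm]
  rcases Nat.eq_zero_or_pos m with h4 | h4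
  · rw [h4, pow_zero]
  · exfalso
    obtain ⟨k, rfl⟩ := Nat.exists_eq_add_of_le' h4
    rw [hm] at h2
    have h5 : (2 : ℤ) ∣ ((2 ^ (k + 1) : ℕ) : ℤ) := by
      rw [pow_succ]
      exact ⟨2 ^ k, by push_cast; ring⟩
    have h6 := h5.trans h2
    omega

theorem two_mul_card_sq [Finite X] {g : X} {n : ℕ} (hn : g ^ 2 ^ n = 1) (hg : g ≠ 1) :
    2 * Nat.card (zpowers (g * g)) ≤ Nat.card (zpowers g) := by
  have hle : zpowers (g * g) ≤ zpowers g := by
    rw [zpowers_le]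
    exact mul_mem (mem_zpowers g) (mem_zpowers g)
  obtain ⟨k, hk⟩ := card_dvd_of_le hle
  have hpos : 0 < Nat.card (zpowers g) := Nat.card_pos
  rcases k with _ | _ | k
  · rw [hk] at hpos
    simp at hpos
  · exfalso
    have h1 : zpowers (g * g) = zpowers g := Subgroup.eq_of_le_of_card_ge hle (by rw [hk]; simp)
    exact not_mem_sq hn hg (h1 ▸ mem_zpowers g)
  · rw [hk, mul_comm]
    exact Nat.mul_le_mul_left _ (by omega)

theorem card_zpowers_le_two {e : X} (he : e * e = 1) : Nat.card (zpowers e) ≤ 2 := by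
  rw [Nat.card_zpowers]
  exact Nat.le_of_dvd (by norm_num) (orderOf_dvd_of_pow_eq_one (by rw [pow_two]; exact he))

theorem card_sup_le [Finite X] (N K : Subgroup X) [N.Normal] :
    Nat.card (N ⊔ K : Subgroup X) ≤ Nat.card K * Nat.card N := by
  have h1 : Nat.card (N ⊔ K : Subgroup X) = N.relIndex (N ⊔ K) * Nat.card N :=
    card_eq_relIndex_mul _ _ le_sup_left
  rw [h1, relIndex_sup_left]
  exact Nat.mul_le_mul_right _ (Nat.le_of_dvd Nat.card_pos (relIndex_dvd_card _ _))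

theorem normal_of_central {g : X} (hg : ∀ x, x * g = g * x) : (zpowers g).Normal := by
  refine ⟨fun z hz x => ?_⟩
  obtain ⟨k, rfl⟩ := mem_zpowers_iff.1 hz
  have h1 : x * g ^ k = g ^ k * x := ((show Commute x g from hg x).zpow_right k)
  rw [h1, mul_inv_cancel_right]
  exact hz

theorem central_sq {g : X} (hg : ∀ x, x * g = g * x) (x : X) : x * (g * g) = (g * g) * x :=
  (show Commute x g from hg x).mul_right (hg x)

/-! ### Fixed vectors -/

theorem exists_move : ∀ p : T3, p = 0 ∨ ∃ m : M3, IsBas m ∧ lin m p ≠ p := by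
  intro p
  revert p
  decide +kernel

theorem mR_add : ∀ (i j : ZMod 2) (p : T3), lin (mR i j) p + p = 0 ∨ lin (mR i j) p + p = e1 := by
  decide

theorem mR_e1 : ∀ (i j : ZMod 2), lin (mR i j) e1 = e1 := by decide

theorem md_e1 : lin md e1 = e1 := by decide

theorem Acts.map {w : T3 → X} {x : X} {m : M3} (h : Acts w x m) (π : X →* Y) :
    Acts (fun p => π (w p)) (π x) m := by
  intro p
  show π x * π (w p) * (π x)⁻¹ = π (w (lin m p))
  rw [← h p, map_mul, map_mul, map_inv]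

section

variable {Q W : Subgroup X} {w : T3 → X} (h : NatMod Q W w) {π : X →* Y}
  (hπ : Function.Surjective π) (hkQ : π.ker ≤ Q) (hkc : ∀ z ∈ π.ker, ∀ x, x * z = z * x)
  (hQW : ∀ q ∈ Q, ∃ v ∈ W, v⁻¹ * q ∈ π.ker)

include h hkc

/-- A central element of `W` is trivial. -/
theorem eq_zero_of_ker {p : T3} (hp : w p ∈ π.ker) : p = 0 := by
  rcases exists_move p with h1 | ⟨m, hm, h1⟩
  · exact h1
  · exfalso
    obtain ⟨x, hx⟩ := h.real m hm
    apply h1
    rw [← hx.comm_iff h.coord]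
    exact hkc _ hp x

include hπ hQW hkQ

theorem nat_map : NatMod (Q.map π) (Q.map π) (fun p => π (w p)) := by
  have hmap : Q.map π = W.map π := by
    apply le_antisymm
    · rintro _ ⟨q, hq, rfl⟩
      obtain ⟨v, hv, hvq⟩ := hQW q hq
      refine ⟨v, hv, ?_⟩
      rw [MonoidHom.mem_ker, map_mul, map_inv] at hvq
      exact inv_mul_eq_one.1 hvq
    · exact map_mono h.le
  have hco : Coord (Q.map π) (fun p => π (w p)) := by
    refine ⟨fun a b => ?_, fun a ha => ?_, fun v => ?_⟩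
    · show π (w (a + b)) = π (w a) * π (w b)
      rw [h.coord.mul, map_mul]
    · exact eq_zero_of_ker h hkc ha
    · rw [hmap]
      constructor
      · rintro ⟨v, hv, rfl⟩
        obtain ⟨a, rfl⟩ := (h.coord.mem v).1 hv
        exact ⟨a, rfl⟩
      · rintro ⟨a, rfl⟩
        exact ⟨_, h.coord.mem_w a, rfl⟩
  refine ⟨?_, le_rfl, hco, fun x => ?_, fun m hm => ?_⟩
  · rw [hmap]
    exact h.normal.map π hπ
  · obtain ⟨x, rfl⟩ := hπ x
    constructor
    · intro hx
      refine ⟨x, (h.cent x).1 fun v hv => ?_, rfl⟩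
      obtain ⟨m, -, hm⟩ := h.acts x
      obtain ⟨p, rfl⟩ := (h.coord.mem v).1 hv
      rw [hm.comm_iff h.coord]
      have h1 := hx (π (w p)) (hco.mem_w p)
      have h2 := (Acts.map hm π).comm_iff hco (p := p)
      exact h2.1 h1
    · rintro ⟨q, hq, hqx⟩ v hv
      rw [← hqx]
      obtain ⟨p, rfl⟩ := (hco.mem v).1 hv
      show π q * π (w p) = π (w p) * π q
      rw [← map_mul, ← map_mul, h.comm_of_mem hq]
  · obtain ⟨x, hx⟩ := h.real m hm
    exact ⟨π x, Acts.map hx π⟩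

theorem acts_of_map {x : X} {m : M3} (hx : Acts (fun p => π (w p)) (π x) m) : Acts w x m := by
  obtain ⟨n, -, hn⟩ := h.acts x
  have h1 := (Acts.map hn π).unique (nat_map h hπ hkQ hkc hQW).coord hx
  rwa [h1] at hn

theorem ss_of (hQ2 : IsPGroup 2 Q) : SS Q π (fun p => π (w p)) (w e1) where
  two := hQ2
  surj := hπ
  zle := hkQ
  zc := hkc
  nat := nat_map h hπ hkQ hkc hQW
  ee := rfl
  eR x i j hx := ((acts_of_map h hπ hkQ hkc hQW hx).comm_iff h.coord).2 (mR_e1 i j)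
  ed d _ hd := ((acts_of_map h hπ hkQ hkc hQW hd).comm_iff h.coord).2 md_e1

end

/-! ### `Q = W × ⟨g⟩`, `g` central -/

structure Cen (Q W : Subgroup X) (w : T3 → X) (g : X) : Prop where
  two : IsPGroup 2 Q
  nat : NatMod Q W w
  gQ : g ∈ Q
  gc : ∀ x, x * g = g * x
  dec : ∀ q ∈ Q, ∃ v ∈ W, ∃ k : ℤ, q = v * g ^ k

namespace Cen

variable {Q W : Subgroup X} {w : T3 → X} {g : X} (h : Cen Q W w g)

include h

theorem change {m : M3} (hm : IsBas m) : Cen Q W (fun p => w (lin m p)) g :=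
  ⟨h.two, h.nat.change hm, h.gQ, h.gc, h.dec⟩

theorem kc {z : X} (hz : z ∈ zpowers g) (x : X) : x * z = z * x := by
  obtain ⟨k, rfl⟩ := mem_zpowers_iff.1 hz
  exact (show Commute x g from h.gc x).zpow_right k

theorem comm {a b : X} (ha : a ∈ Q) (hb : b ∈ Q) : a * b = b * a := by
  obtain ⟨v, hv, k, rfl⟩ := h.dec a ha
  have h1 : v * b = b * v := ((h.nat.cent b).2 hb v hv).symm
  have h2 : b * g ^ k = g ^ k * b := h.kc (zpow_mem (mem_zpowers g) k) b
  calc v * g ^ k * b = v * (b * g ^ k) := by rw [h2]; group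
    _ = b * (v * g ^ k) := by rw [← mul_assoc, h1, mul_assoc]

theorem ss {π : X →* Y} (hπ : Function.Surjective π) (hk : π.ker = zpowers g) :
    SS Q π (fun p => π (w p)) (w e1) := by
  refine ss_of h.nat hπ ?_ ?_ ?_ h.two
  · rw [hk, zpowers_le]
    exact h.gQ
  · intro z hz
    rw [hk] at hz
    exact h.kc hz
  · intro q hq
    obtain ⟨v, hv, k, rfl⟩ := h.dec q hq
    refine ⟨v, hv, ?_⟩
    rw [hk, inv_mul_cancel_left]
    exact zpow_mem (mem_zpowers g) k

theorem inf {p : T3} (hp : w p ∈ zpowers g) : p = 0 := by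
  rcases exists_move p with h1 | ⟨m, hm, h1⟩
  · exact h1
  · exfalso
    obtain ⟨x, hx⟩ := h.nat.real m hm
    apply h1
    rw [← hx.comm_iff h.nat.coord]
    exact h.kc hp x

theorem card_le [Finite X] : 8 * Nat.card (zpowers g) ≤ Nat.card Q := by
  have h8 : Nat.card T3 = 8 := by
    rw [Nat.card_eq_fintype_card]
    decide
  have hle : zpowers g ≤ Q := by
    rw [zpowers_le]
    exact h.gQ
  rw [← h8, ← Nat.card_prod]
  refine Nat.card_le_card_of_injective (fun a : T3 × zpowers g =>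
    (⟨w a.1 * a.2, Q.mul_mem (h.nat.le (h.nat.coord.mem_w _)) (hle a.2.2)⟩ : Q)) ?_
  rintro ⟨a, c, hc⟩ ⟨b, d, hd⟩ hab
  have h1 : w a * c = w b * d := congrArg Subtype.val hab
  have h2 : w (b + a) ∈ zpowers g := by
    have h3 : w (b + a) = d * c⁻¹ := by
      calc w (b + a) = w b * w a := h.nat.coord.mul _ _
        _ = w b * (w a * c) * c⁻¹ := by group
        _ = w b * w b * (d * c⁻¹) := by rw [h1]; group
        _ = d * c⁻¹ := by rw [h.nat.coord.sq, one_mul]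
    rw [h3]
    exact mul_mem hd (inv_mem hc)
  have h3 := h.inf h2
  have h4 : b = a := by
    have h5 : b = b + a + a := by rw [add_assoc, add_self, add_zero]
    rw [h5, h3, zero_add]
  subst h4
  have h5 : c = d := mul_left_cancel h1
  subst h5
  rfl

/-- the subgroup `D = ⟨g², e⟩` -/
def D (w : T3 → X) (g : X) : Subgroup X := zpowers (g * g) ⊔ zpowers (w e1)

theorem e_mem : w e1 ∈ D w g := mem_sup_right (mem_zpowers _)

theorem sq_mem : g * g ∈ D w g := mem_sup_left (mem_zpowers _)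

theorem D_le : D w g ≤ Q := by
  refine sup_le ?_ ?_
  · rw [zpowers_le]
    exact Q.mul_mem h.gQ h.gQ
  · rw [zpowers_le]
    exact h.nat.le (h.nat.coord.mem_w _)

theorem sec : ElemSection 2 Q (D w g) where
  le := h.D_le
  comm a ha b hb := by
    have h1 : a * b * a⁻¹ * b⁻¹ = 1 := by
      rw [h.comm ha hb]
      group
    rw [h1]
    exact one_mem _
  pow a ha := by
    obtain ⟨v, hv, k, rfl⟩ := h.dec a ha
    have h1 : (v * g ^ k) ^ 2 = (g * g) ^ k := by
      have h2 : v * g ^ k = g ^ k * v := h.kc (zpow_mem (mem_zpowers g) k) v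
      rw [pow_two, (Commute.refl g).mul_zpow]
      calc v * g ^ k * (v * g ^ k) = v * (g ^ k * v) * g ^ k := by group
        _ = v * v * (g ^ k * g ^ k) := by rw [← h2]; group
        _ = g ^ k * g ^ k := by rw [h.nat.coord.sq_mem hv, one_mul]
    rw [h1]
    exact mem_sup_left (zpow_mem (mem_zpowers _) k)

theorem card_D [Finite X] (hg1 : g ≠ 1) : 8 * Nat.card (D w g) ≤ Nat.card Q := by
  obtain ⟨n, hn⟩ := exists_pow_of_mem h.two h.gQ
  have h1 := two_mul_card_sq hn hg1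
  have h2 := h.card_le
  have hN : (zpowers (g * g)).Normal := normal_of_central (central_sq h.gc)
  have h3 := card_sup_le (zpowers (g * g)) (zpowers (w e1))
  have h4 := card_zpowers_le_two (h.nat.coord.sq e1)
  have h5 : Nat.card (zpowers (w e1)) * Nat.card (zpowers (g * g)) ≤
      2 * Nat.card (zpowers (g * g)) := Nat.mul_le_mul_right _ h4
  unfold D
  omega

theorem comm_D {x : X} {i j : ZMod 2} (hx : Acts w x (mR i j)) {q : X} (hq : q ∈ Q) :
    x * q * x⁻¹ * q⁻¹ ∈ D w g := by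
  obtain ⟨v, hv, k, rfl⟩ := h.dec q hq
  obtain ⟨p, rfl⟩ := (h.nat.coord.mem v).1 hv
  have h1 : x * g ^ k = g ^ k * x := h.kc (zpow_mem (mem_zpowers g) k) x
  have h2 : x * (w p * g ^ k) * x⁻¹ * (w p * g ^ k)⁻¹ = w (lin (mR i j) p + p) := by
    calc x * (w p * g ^ k) * x⁻¹ * (w p * g ^ k)⁻¹
        = x * w p * (g ^ k * x⁻¹) * (g ^ k)⁻¹ * (w p)⁻¹ := by group
      _ = x * w p * (x⁻¹ * (x * g ^ k) * x⁻¹) * (g ^ k)⁻¹ * (w p)⁻¹ := by group
      _ = (x * w p * x⁻¹) * (w p)⁻¹ := by rw [h1]; group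
      _ = w (lin (mR i j) p + p) := by rw [hx, h.nat.coord.inv, h.nat.coord.mul]
  rw [h2]
  rcases mR_add i j p with h3 | h3
  · rw [h3, h.nat.coord.zero]
    exact one_mem _
  · rw [h3]
    exact e_mem h

/-- Elements of `E = ⟨g, e⟩`. -/
theorem mem_E {a : X} (ha : a ∈ zpowers g ⊔ zpowers (w e1)) :
    ∃ i j : ℤ, a = g ^ i * w e1 ^ j := by
  have hN : (zpowers g).Normal := normal_of_central h.gc
  obtain ⟨b, hb, c, hc, rfl⟩ := mem_sup_of_normal_left.1 ha
  obtain ⟨i, rfl⟩ := mem_zpowers_iff.1 hb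
  obtain ⟨j, rfl⟩ := mem_zpowers_iff.1 hc
  exact ⟨i, j, rfl⟩

theorem E_sq {i j : ℤ} : (g ^ i * w e1 ^ j) * (g ^ i * w e1 ^ j) = g ^ i * g ^ i := by
  have h1 : w e1 ^ j * g ^ i = g ^ i * w e1 ^ j :=
    h.kc (zpow_mem (mem_zpowers g) i) _
  have h2 : w e1 ^ j * w e1 ^ j = 1 := by
    rw [← (Commute.refl (w e1)).mul_zpow, h.nat.coord.sq, one_zpow]
  calc (g ^ i * w e1 ^ j) * (g ^ i * w e1 ^ j) = g ^ i * (w e1 ^ j * g ^ i) * w e1 ^ j := by group
    _ = g ^ i * g ^ i * (w e1 ^ j * w e1 ^ j) := by rw [h1]; group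
    _ = g ^ i * g ^ i := by rw [h2, mul_one]

theorem sq_mem_D {a : X} (ha : a ∈ zpowers g ⊔ zpowers (w e1)) : a * a ∈ D w g := by
  obtain ⟨i, j, rfl⟩ := h.mem_E ha
  rw [h.E_sq, ← (Commute.refl g).mul_zpow]
  exact mem_sup_left (zpow_mem (mem_zpowers _) i)

theorem inv_mem_D {a : X} (hg2 : g * g ≠ 1) (ha : a ∈ zpowers g ⊔ zpowers (w e1)) (haa : a * a = 1) :
    a ∈ D w g := by
  obtain ⟨i, j, rfl⟩ := h.mem_E ha
  rw [h.E_sq] at haa
  obtain ⟨n, hn⟩ := exists_pow_of_mem h.two h.gQ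
  obtain ⟨k, rfl⟩ := even_of_zpow hn hg2 haa
  refine mul_mem (mem_sup_left ?_) (mem_sup_right (zpow_mem (mem_zpowers _) j))
  rw [zpow_add, ← (Commute.refl g).mul_zpow]
  exact zpow_mem (mem_zpowers _) k

/-- `g² ≠ 1` is impossible. -/
theorem four [Finite X] (hr : R4 X) : g * g = 1 := by
  by_contra hg2
  have hg1 : g ≠ 1 := fun h0 => hg2 (by rw [h0, mul_one])
  have hN : (zpowers g).Normal := normal_of_central h.gc
  have hs := h.ss (QuotientGroup.mk'_surjective (zpowers g)) (QuotientGroup.ker_mk' _)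
  obtain ⟨x, hx⟩ := h.nat.real (mR 0 1) (mR_bas 0 1)
  obtain ⟨x2, ε, ζ, hx2, h22, hs1, hε, hεE, hζE, hεε, h3⟩ := hs.trip (Acts.map hx _)
  rw [QuotientGroup.ker_mk'] at hs1 hεE hζE
  have hεD := h.inv_mem_D hg2 hεE hεε
  have hsD : x * x ∈ D w g := by
    have h4 : x * x * (x * x) ∈ D w g := h.sq_mem_D hs1
    have h5 : ε * (ζ * ζ) ∈ D w g := mul_mem hεD (h.sq_mem_D hζE)
    rw [← h3] at h5
    have h6 := mul_mem (inv_mem h4) h5
    rwa [inv_mul_cancel_left] at h6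
  refine hs.kill hr h.sec (h.card_D hg1) (fun y i j hy q hq => ?_) (Acts.map hx _) hx2 hsD
    (h22 ▸ hsD) (hε ▸ hεD)
  exact h.comm_D (acts_of_map h.nat (QuotientGroup.mk'_surjective (zpowers g))
    hs.zle hs.zc (fun q hq => by
      obtain ⟨v, hv, k, rfl⟩ := h.dec q hq
      refine ⟨v, hv, ?_⟩
      rw [QuotientGroup.ker_mk', inv_mul_cancel_left]
      exact zpow_mem (mem_zpowers g) k) hy) hq

/-- If `g` is an involution, all involutions lie in `Q`. -/
theorem two_inv [Finite X] (hr : R4 X) (hg2 : g * g = 1) (hg1 : g ≠ 1) {u : X} (hu : u * u = 1) :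
    u ∈ Q := by
  by_contra huQ
  obtain ⟨n, hn, hx⟩ := h.nat.exists_adapt (x := u) (by rw [hu]; exact Q.one_mem) huQ
  have h' := h.change hn
  have hN : (zpowers g).Normal := normal_of_central h.gc
  have hs := h'.ss (QuotientGroup.mk'_surjective (zpowers g)) (QuotientGroup.ker_mk' _)
  obtain ⟨x2, ε, ζ, hx2, h22, hs1, hε, hεE, hζE, hεε, h3⟩ := hs.trip (Acts.map hx _)
  rw [QuotientGroup.ker_mk'] at hs1 hεE hζE
  have hζζ : ζ * ζ = 1 := by
    obtain ⟨i, j, rfl⟩ := h'.mem_E hζE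
    rw [h'.E_sq, ← (Commute.refl g).mul_zpow, hg2, one_zpow]
  have hε1 : ε = 1 := by
    rw [hu, hζζ] at h3
    simpa using h3.symm
  refine hs.kill hr h'.sec (h'.card_D hg1) (fun y i j hy q hq => ?_) (Acts.map hx _) hx2
    (by rw [hu]; exact one_mem _) (by rw [h22, hu]; exact one_mem _)
    (by rw [← hε, hε1]; exact one_mem _)
  exact h'.comm_D (acts_of_map h'.nat (QuotientGroup.mk'_surjective (zpowers g))
    hs.zle hs.zc (fun q hq => by
      obtain ⟨v, hv, k, rfl⟩ := h'.dec q hq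
      refine ⟨v, hv, ?_⟩
      rw [QuotientGroup.ker_mk', inv_mul_cancel_left]
      exact zpow_mem (mem_zpowers g) k) hy) hq

/-- Squares of lifts of the standard transvection. -/
theorem sq_mem_E [Finite X] {x : X} (hx : Acts w x (mR 0 1)) :
    x * x ∈ zpowers g ⊔ zpowers (w e1) := by
  have hN : (zpowers g).Normal := normal_of_central h.gc
  have hs := h.ss (QuotientGroup.mk'_surjective (zpowers g)) (QuotientGroup.ker_mk' _)
  obtain ⟨x2, ε, ζ, hx2, h22, hs1, hε, hεE, hζE, hεε, h3⟩ := hs.trip (Acts.map hx _)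
  rwa [QuotientGroup.ker_mk'] at hs1

end Cen

end Cfsg.Agent.GH.C2ThreeOne
end

-- part: GH/C2ThreeOneB
section
/-!
# GH-C2 (T3), statement ONE: general facts

`Hyp Q W y`: the hypotheses of statement ONE.  Then `Q` centralises `W`, `Q = W C_Q(y)`, `C_Q(y)` is
cyclic, `Q` is abelian and `[X, Q] ≤ W`.
-/

set_option autoImplicit false
set_option maxHeartbeats 800000
set_option linter.unusedSectionVars false
set_option linter.unusedVariables false

namespace Cfsg.Agent.GH.C2ThreeOne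

open Subgroup Cfsg.Agent.TwoFusion.SectionalRank Cfsg.Agent.GH.C2Base Cfsg.Agent.GH.C2Five
open Cfsg.Agent.GH.C2ThreeNat Cfsg.Agent.GH.C2ThreeK0
open scoped commutatorElement

variable {X : Type*} [Group X]

/-- A 2-group of sectional rank at most 1 is cyclic. -/
theorem isCyclic_of_le_one {P : Type*} [Group P] [Finite P] (hP : IsPGroup 2 P)
    (h : Cfsg.SectionalPRankLE 2 1 P) : IsCyclic P := by
  have hp : Fact (Nat.Prime 2) := ⟨Nat.prime_two⟩
  have h1 : Nat.card (P ⧸ frattini P) ≤ 2 ^ 1 := by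
    refine Rank.card_le (Rank.of_quotient h _) ?_ ?_
    · intro a b
      obtain ⟨a, rfl⟩ := QuotientGroup.mk'_surjective _ a
      obtain ⟨b, rfl⟩ := QuotientGroup.mk'_surjective _ b
      rw [← commutatorElement_eq_one_iff_mul_comm, ← map_commutatorElement]
      exact (QuotientGroup.eq_one_iff _).mpr (Lib.FrattiniPGroup.commutator_mem_frattini hP a b)
    · intro a
      obtain ⟨a, rfl⟩ := QuotientGroup.mk'_surjective _ a
      rw [← map_pow]
      exact (QuotientGroup.eq_one_iff _).mpr (Lib.FrattiniPGroup.pow_mem_frattini hP a)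
  have h2 : IsCyclic (P ⧸ frattini P) := by
    have h3 : 0 < Nat.card (P ⧸ frattini P) := Nat.card_pos
    rcases (show Nat.card (P ⧸ frattini P) = 1 ∨ Nat.card (P ⧸ frattini P) = 2 by omega) with h | h
    · have := (Nat.card_eq_one_iff_unique.mp h).1
      infer_instance
    · exact isCyclic_of_prime_card h
  obtain ⟨g, hg⟩ := h2.exists_generator
  obtain ⟨g, rfl⟩ := QuotientGroup.mk'_surjective _ g
  have h3 : zpowers g ⊔ frattini P = ⊤ := by
    rw [eq_top_iff]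
    intro x _
    obtain ⟨n, hn⟩ := hg (QuotientGroup.mk' _ x)
    have h4 : (g ^ n)⁻¹ * x ∈ frattini P := by
      rw [← QuotientGroup.eq_one_iff]
      change QuotientGroup.mk' (frattini P) ((g ^ n)⁻¹ * x) = 1
      rw [map_mul, map_inv, map_zpow, ← hn]
      exact inv_mul_cancel _
    have h5 : x = g ^ n * ((g ^ n)⁻¹ * x) := by group
    rw [h5]
    exact mul_mem (mem_sup_left ⟨n, rfl⟩) (mem_sup_right h4)
  have h4 := frattini_nongenerating h3
  refine ⟨g, fun x => ?_⟩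
  have h5 : x ∈ zpowers g := h4 ▸ mem_top x
  exact h5

/-- `[Q, W] < W` for a 2-group `Q ≥ W ≠ 1`. -/
theorem commutator_lt [Finite X] {P M : Subgroup X} (hP : IsPGroup 2 P) (hMP : M ≤ P)
    (hM : M.Normal) (hM1 : M ≠ ⊥) : ⁅M, P⁆ < M := by
  have hp : Fact (Nat.Prime 2) := ⟨Nat.prime_two⟩
  have hle : ⁅M, P⁆ ≤ M := commutator_le_left M P
  refine lt_of_le_of_ne hle ?_
  intro h
  have hP' : Group.IsNilpotent P := hP.isNilpotent
  obtain ⟨n, hn⟩ := (Subgroup.isNilpotent_iff_lowerCentralSeries P).1 hP'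
  have key : ∀ k : ℕ, M ≤ P.lowerCentralSeries k := by
    intro k
    induction k with
    | zero => exact hMP
    | succ k ih =>
      rw [Subgroup.lowerCentralSeries_succ, ← h]
      exact commutator_mono ih le_rfl
  have := key n
  rw [hn] at this
  exact hM1 (le_bot_iff.1 this)

/-- If `y⁷ = 1`, `u² = 1`, `y` commutes with `u` and `[y, a] = u`, then `u = 1`. -/
theorem fix_of_comm {y a u : X} (hy : y ^ 7 = 1) (hu : u * u = 1) (hyu : y * u = u * y)
    (h : y * a * y⁻¹ * a⁻¹ = u) : u = 1 := by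
  have h0 : y * a * y⁻¹ = u * a := by rw [← h]; group
  have key : ∀ n : ℕ, y ^ n * a * (y ^ n)⁻¹ = u ^ n * a := by
    intro n
    induction n with
    | zero => simp
    | succ n ih =>
      have h1 : y * u ^ n = u ^ n * y := (show Commute y u from hyu).pow_right n
      calc y ^ (n + 1) * a * (y ^ (n + 1))⁻¹ = y * (y ^ n * a * (y ^ n)⁻¹) * y⁻¹ := by
            rw [pow_succ']; group
        _ = (y * u ^ n) * a * y⁻¹ := by rw [ih]; group
        _ = u ^ n * (y * a * y⁻¹) := by rw [h1]; group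
        _ = u ^ (n + 1) * a := by rw [h0, pow_succ]; group
  have h7 := key 7
  rw [hy] at h7
  have h8 : u ^ 7 = 1 := by
    have h9 : (1 : X) * a = u ^ 7 * a := by rw [← h7]; group
    exact (mul_right_cancel h9).symm
  calc u = u ^ 7 * ((u * u) * (u * u) * (u * u))⁻¹ := by group
    _ = 1 := by rw [h8, hu]; group

/-- Hypotheses of statement ONE. -/
structure Hyp (Q W : Subgroup X) (y : X) : Prop where
  l : L32 Q
  hy : y ^ 7 = 1
  wn : W.Normal
  wq : W ≤ Q
  w2 : ∀ v ∈ W, v * v = 1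
  ne : ∃ v ∈ W, y * v ≠ v * y
  min : ∀ N : Subgroup X, N.Normal → N < W → ∀ v ∈ N, y * v = v * y
  one : ∀ q ∈ Q, y * q * y⁻¹ * q⁻¹ ∈ W

namespace Hyp

variable {Q W : Subgroup X} {y : X} (h : Hyp Q W y)

include h

theorem wcomm {a b : X} (ha : a ∈ W) (hb : b ∈ W) : a * b = b * a :=
  comm_of_sq_one h.w2 a ha b hb

theorem winv {a : X} (ha : a ∈ W) : a⁻¹ = a := inv_eq_of_mul_eq_one_left (h.w2 a ha)

theorem yQ : y ∉ Q := by
  intro hyQ
  obtain ⟨n, hn⟩ := exists_pow_of_mem h.l.two hyQ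
  obtain ⟨v, -, hv⟩ := h.ne
  apply hv
  have h1 : orderOf y ∣ 2 ^ n := orderOf_dvd_of_pow_eq_one hn
  have h2 : orderOf y ∣ 7 := orderOf_dvd_of_pow_eq_one h.hy
  have h3 : Nat.Coprime (2 ^ n) 7 := Nat.Coprime.pow_left n (by norm_num)
  have h4 : orderOf y = 1 := Nat.eq_one_of_dvd_coprimes h3 h1 h2
  rw [orderOf_eq_one_iff] at h4
  rw [h4, one_mul, mul_one]

theorem top {N : Subgroup X} (hN : N.Normal) (hQ : Q ≤ N) (hy : y ∈ N) : N = ⊤ := by
  rcases h.l.simple N hN hQ with h1 | h1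
  · exact absurd (h1 ▸ hy) h.yQ
  · exact h1

/-- `Q` centralises `W`. -/
theorem cent [Finite X] {q v : X} (hq : q ∈ Q) (hv : v ∈ W) : q * v = v * q := by
  have hWn := h.wn
  have hQn := h.l.normal
  have hW1 : W ≠ ⊥ := by
    rintro rfl
    obtain ⟨v, hv, hv2⟩ := h.ne
    rw [mem_bot] at hv
    subst hv
    exact hv2 (by rw [mul_one, one_mul])
  have hlt := commutator_lt h.l.two h.wq h.wn hW1
  have hK := h.min ⁅W, Q⁆ inferInstance hlt
  set W0 : Subgroup X := W ⊓ centralizer (Q : Set X) with hW0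
  have hW0n : W0.Normal := inferInstance
  have key : ∀ v ∈ W, y * v * y⁻¹ * v⁻¹ ∈ W0 := by
    intro v hv
    have hv' : y * v * y⁻¹ ∈ W := hWn.conj_mem v hv y
    refine mem_inf.2 ⟨W.mul_mem hv' (W.inv_mem hv), mem_centralizer_iff.2 fun q hq => ?_⟩
    have hq : q ∈ Q := hq
    have ha : y * q * y⁻¹ * q⁻¹ ∈ W := h.one q hq
    set a := y * q * y⁻¹ * q⁻¹ with hadef
    set v' := y * v * y⁻¹ with hv'def
    have hf : q * v * q⁻¹ * v⁻¹ ∈ ⁅W, Q⁆ := by
      rw [commutator_comm]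
      exact commutator_mem_commutator hq hv
    have h1 := hK _ hf
    have h2 : y * (q * v * q⁻¹ * v⁻¹) * y⁻¹ = q * v * q⁻¹ * v⁻¹ := by rw [h1]; group
    have h3 : y * (q * v * q⁻¹ * v⁻¹) * y⁻¹ = a * (q * v' * q⁻¹) * a⁻¹ * v'⁻¹ := by
      rw [hadef, hv'def]
      group
    have h4 : a * (q * v' * q⁻¹) = (q * v' * q⁻¹) * a := h.wcomm ha (hWn.conj_mem _ hv' q)
    have h5 : q * v' * q⁻¹ * v'⁻¹ = q * v * q⁻¹ * v⁻¹ := by
      rw [← h2, h3, h4]
      group
    -- `q (v' v⁻¹) q⁻¹ = v' v⁻¹`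
    have h6 : q * v' * q⁻¹ * (q * v * q⁻¹)⁻¹ = v' * v⁻¹ := by
      have h7 : q * v' * q⁻¹ = (q * v * q⁻¹ * v⁻¹) * v' := by rw [← h5]; group
      have h8 : (q * v * q⁻¹ * v⁻¹) ∈ W := commutator_le_left W Q hf
      have h9 : q * v * q⁻¹ = (q * v * q⁻¹ * v⁻¹) * v := by group
      rw [h7]
      nth_rewrite 2 [h9]
      generalize q * v * q⁻¹ * v⁻¹ = c at h8
      calc c * v' * (c * v)⁻¹ = c * (v' * v⁻¹) * c⁻¹ := by group
        _ = (v' * v⁻¹) * c * c⁻¹ := by
            rw [h.wcomm h8 (W.mul_mem hv' (W.inv_mem hv))]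
        _ = v' * v⁻¹ := by group
    calc q * (v' * v⁻¹) = (q * v' * q⁻¹ * (q * v * q⁻¹)⁻¹) * q := by group
      _ = v' * v⁻¹ * q := by rw [h6]
  have hW0W : W0 = W := by
    by_contra hne
    have hlt2 : W0 < W := lt_of_le_of_ne inf_le_left hne
    have h1 := h.min W0 hW0n hlt2
    obtain ⟨v, hv, hv2⟩ := h.ne
    have h2 := key v hv
    have h3 := fix_of_comm h.hy (h.w2 _ h2.1) (h1 _ h2) rfl
    apply hv2
    calc y * v = (y * v * y⁻¹ * v⁻¹) * (v * y) := by group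
      _ = v * y := by rw [h3, one_mul]
  have h1 : v ∈ W0 := by rw [hW0W]; exact hv
  exact (mem_centralizer_iff.1 h1.2) q hq

/-- `Q = W C_Q(y)` -/
theorem exists_cent [Finite X] {q : X} (hq : q ∈ Q) : ∃ a ∈ W, y * (a * q) = (a * q) * y := by
  have hWn := h.wn
  set b := y * q * y⁻¹ * q⁻¹ with hb
  have hbW : b ∈ W := h.one q hq
  -- the norm of `b`
  have hN : (y ^ 6 * b * (y ^ 6)⁻¹) * (y ^ 5 * b * (y ^ 5)⁻¹) * (y ^ 4 * b * (y ^ 4)⁻¹) *
      (y ^ 3 * b * (y ^ 3)⁻¹) * (y ^ 2 * b * (y ^ 2)⁻¹) * (y * b * y⁻¹) * b = 1 := by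
    have h1 : (y ^ 6 * b * (y ^ 6)⁻¹) * (y ^ 5 * b * (y ^ 5)⁻¹) * (y ^ 4 * b * (y ^ 4)⁻¹) *
      (y ^ 3 * b * (y ^ 3)⁻¹) * (y ^ 2 * b * (y ^ 2)⁻¹) * (y * b * y⁻¹) * b =
        y ^ 7 * (y⁻¹ * b) ^ 7 := by
      simp only [pow_succ, pow_zero, one_mul]
      group
    have h2 : y⁻¹ * b = q * y⁻¹ * q⁻¹ := by rw [hb]; group
    have h3 : (q * y⁻¹ * q⁻¹) ^ 7 = q * (y⁻¹) ^ 7 * q⁻¹ := conj_pow
    rw [h1, h2, h3, inv_pow, h.hy]
    group
  have m : ∀ n : ℕ, y ^ n * b * (y ^ n)⁻¹ ∈ W := fun n => hWn.conj_mem b hbW _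
  have m1 : y * b * y⁻¹ ∈ W := hWn.conj_mem b hbW _
  set b1 := y * b * y⁻¹ with hb1
  set b2 := y ^ 2 * b * (y ^ 2)⁻¹ with hb2
  set b3 := y ^ 3 * b * (y ^ 3)⁻¹ with hb3
  set b4 := y ^ 4 * b * (y ^ 4)⁻¹ with hb4
  set b5 := y ^ 5 * b * (y ^ 5)⁻¹ with hb5
  set b6 := y ^ 6 * b * (y ^ 6)⁻¹ with hb6
  refine ⟨b5 * b3 * b1, W.mul_mem (W.mul_mem (m 5) (m 3)) m1, ?_⟩
  have e1 : y * (b5 * b3 * b1) * y⁻¹ = b6 * b4 * b2 := by
    rw [hb5, hb3, hb1, hb6, hb4, hb2]
    group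
  have e2 : y * q * y⁻¹ = b * q := by rw [hb]; group
  have e3 : b6 * b4 * b2 * b = b5 * b3 * b1 := by
    have e4 : (b5 * b3 * b1)⁻¹ * (b6 * b4 * b2 * b) = 1 := by
      rw [h.winv (W.mul_mem (W.mul_mem (m 5) (m 3)) m1)]
      rw [← hN]
      have c56 := h.wcomm (m 5) (m 6)
      have c34 := h.wcomm (m 3) (m 4)
      have c12 := h.wcomm m1 (m 2)
      have c36 := h.wcomm (m 3) (m 6)
      have c16 := h.wcomm m1 (m 6)
      have c14 := h.wcomm m1 (m 4)
      simp only [← hb2, ← hb3, ← hb4, ← hb5, ← hb6] at c56 c34 c12 c36 c16 c14 ⊢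
      calc b5 * b3 * b1 * (b6 * b4 * b2 * b) = b5 * b3 * (b1 * b6) * b4 * b2 * b := by group
        _ = b5 * (b3 * b6) * (b1 * b4) * b2 * b := by rw [c16]; group
        _ = (b5 * b6) * (b3 * b4) * (b1 * b2) * b := by rw [c36, c14]; group
        _ = b6 * b5 * b4 * b3 * b2 * b1 * b := by rw [c56, c34, c12]; group
    exact (inv_mul_eq_one.1 e4).symm
  have e5 : y * (b5 * b3 * b1 * q) * y⁻¹ = b5 * b3 * b1 * q := by
    calc y * (b5 * b3 * b1 * q) * y⁻¹ = (y * (b5 * b3 * b1) * y⁻¹) * (y * q * y⁻¹) := by group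
      _ = (b6 * b4 * b2 * b) * q := by rw [e1, e2]; group
      _ = b5 * b3 * b1 * q := by rw [e3]
  calc y * (b5 * b3 * b1 * q) = (y * (b5 * b3 * b1 * q) * y⁻¹) * y := by group
    _ = b5 * b3 * b1 * q * y := by rw [e5]

/-- `C_Q(y)` -/
def C (Q : Subgroup X) (y : X) : Subgroup X := Q ⊓ centralizer ({y} : Set X)

omit h in
theorem mem_C {x : X} : x ∈ C Q y ↔ x ∈ Q ∧ y * x = x * y := by
  rw [C, mem_inf, mem_centralizer_singleton_iff]
  exact ⟨fun h => ⟨h.1, h.2.symm⟩, fun h => ⟨h.1, h.2.symm⟩⟩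

theorem card_sup [Finite X] (h8 : 8 * Nat.card (W ⊓ C Q y : Subgroup X) ≤ Nat.card W)
    {A : Subgroup X} (hA : A ≤ C Q y) : 8 * Nat.card A ≤ Nat.card (W ⊔ A : Subgroup X) := by
  have hWn := h.wn
  have h1 : Nat.card (W ⊔ A : Subgroup X) = W.relIndex (W ⊔ A) * Nat.card W :=
    card_eq_relIndex_mul _ _ le_sup_left
  have h2 : Nat.card A = (W ⊓ A).relIndex A * Nat.card (W ⊓ A : Subgroup X) :=
    card_eq_relIndex_mul _ _ inf_le_right
  rw [relIndex_sup_left] at h1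
  rw [inf_relIndex_right] at h2
  have h3 : Nat.card (W ⊓ A : Subgroup X) ≤ Nat.card (W ⊓ C Q y : Subgroup X) :=
    Nat.card_le_card_of_injective _ (inclusion_injective (inf_le_inf_left W hA))
  rw [h1, h2]
  calc 8 * (W.relIndex A * Nat.card (W ⊓ A : Subgroup X))
      = W.relIndex A * (8 * Nat.card (W ⊓ A : Subgroup X)) := by ring
    _ ≤ W.relIndex A * Nat.card W := Nat.mul_le_mul_left _ (by omega)

/-- `C_Q(y)` is cyclic. -/
theorem exists_gen [Finite X] (hr : R4 X)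
    (h8 : 8 * Nat.card (W ⊓ C Q y : Subgroup X) ≤ Nat.card W) : ∃ g, C Q y = zpowers g := by
  have hWn := h.wn
  have hCQ : C Q y ≤ Q := inf_le_left
  have hr1 : Cfsg.SectionalPRankLE 2 1 (C Q y) := by
    rw [sectionalPRankLE_iff]
    intro A B hAB
    have h1 := hAB.map (C Q y).subtype
    have hA : A.map (C Q y).subtype ≤ C Q y := map_subtype_le A
    have hc1 : Nat.card (A.map (C Q y).subtype) = Nat.card A :=
      Nat.card_congr (A.equivMapOfInjective _ (C Q y).subtype_injective).toEquiv.symm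
    have hc2 : Nat.card (B.map (C Q y).subtype) = Nat.card B :=
      Nat.card_congr (B.equivMapOfInjective _ (C Q y).subtype_injective).toEquiv.symm
    rw [← hc1, ← hc2]
    generalize A.map (C Q y).subtype = A' at h1 hA
    generalize B.map (C Q y).subtype = B' at h1
    have h2 := h.card_sup h8 hA
    have hsec : ElemSection 2 (W ⊔ A') B' := by
      refine ⟨h1.le.trans le_sup_right, fun a ha b hb => ?_, fun a ha => ?_⟩
      · obtain ⟨v, hv, a, haA, rfl⟩ := mem_sup_of_normal_left.1 ha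
        obtain ⟨v', hv', b, hbA, rfl⟩ := mem_sup_of_normal_left.1 hb
        have h3 := h1.comm a haA b hbA
        have c1 : a * v' = v' * a := h.cent (hCQ (hA haA)) hv'
        have c2 : b * v = v * b := h.cent (hCQ (hA hbA)) hv
        have c3 : v * v' = v' * v := h.wcomm hv hv'
        have e1 : v * a * (v' * b) * (v * a)⁻¹ * (v' * b)⁻¹ = a * b * a⁻¹ * b⁻¹ := by
          have e2 : v * a * (v' * b) = v * v' * (a * b) := by
            calc v * a * (v' * b) = v * (a * v') * b := by group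
              _ = v * v' * (a * b) := by rw [c1]; group
          have e3 : v' * b * (v * a) = v * v' * (b * a) := by
            calc v' * b * (v * a) = v' * (b * v) * a := by group
              _ = (v' * v) * (b * a) := by rw [c2]; group
              _ = v * v' * (b * a) := by rw [c3]
          have hab : a * b * a⁻¹ * b⁻¹ ∈ Q :=
            Q.mul_mem (Q.mul_mem (Q.mul_mem (hCQ (hA haA)) (hCQ (hA hbA))) (Q.inv_mem (hCQ (hA haA))))
              (Q.inv_mem (hCQ (hA hbA)))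
          have e4 : a * b * a⁻¹ * b⁻¹ * (v * v') = v * v' * (a * b * a⁻¹ * b⁻¹) :=
            h.cent hab (W.mul_mem hv hv')
          calc v * a * (v' * b) * (v * a)⁻¹ * (v' * b)⁻¹
              = v * a * (v' * b) * (v' * b * (v * a))⁻¹ := by group
            _ = v * v' * (a * b * a⁻¹ * b⁻¹) * (v * v')⁻¹ := by rw [e2, e3]; group
            _ = a * b * a⁻¹ * b⁻¹ := by rw [← e4]; group
        rw [e1]
        exact h3
      · obtain ⟨v, hv, a, haA, rfl⟩ := mem_sup_of_normal_left.1 ha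
        have c1 : a * v = v * a := h.cent (hCQ (hA haA)) hv
        have e1 : (v * a) ^ 2 = a ^ 2 := by
          rw [pow_two, pow_two]
          calc v * a * (v * a) = v * (a * v) * a := by group
            _ = v * v * (a * a) := by rw [c1]; group
            _ = a * a := by rw [h.w2 v hv, one_mul]
        rw [e1]
        exact h1.pow a haA
    have h3 := hr _ _ hsec
    omega
  have hP : IsPGroup 2 (C Q y) := h.l.two.to_le hCQ
  obtain ⟨g, hg⟩ := (isCyclic_of_le_one hP hr1).exists_generator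
  refine ⟨g, le_antisymm (fun x hx => ?_) ?_⟩
  · obtain ⟨k, hk⟩ := hg ⟨x, hx⟩
    exact ⟨k, congrArg Subtype.val hk⟩
  · rw [zpowers_le]
    exact g.2

end Hyp

end Cfsg.Agent.GH.C2ThreeOne
end

-- part: GH/C2ThreeOneD
section
/-!
# GH-C2 (T3), statement ONE: the orbit of a generator of `C_Q(y)`; the case `|W| = 8`
-/

set_option autoImplicit false
set_option maxHeartbeats 800000
set_option linter.unusedSectionVars false
set_option linter.unusedVariables false

namespace Cfsg.Agent.GH.C2ThreeOne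

open Subgroup Cfsg.Agent.TwoFusion.SectionalRank Cfsg.Agent.GH.C2Base Cfsg.Agent.GH.C2Five
open Cfsg.Agent.GH.C2ThreeNat Cfsg.Agent.GH.C2ThreeK0

variable {X : Type*} [Group X]

/-! ### powers of matrices -/

def pw (n : M3) : ℕ → M3
  | 0 => idm
  | (k + 1) => cmp n (pw n k)

def P7 (n : M3) : Prop := pw n 7 = idm ∧ n ≠ idm

instance (n : M3) : Decidable (P7 n) := by unfold P7; infer_instance

theorem trans7_aux : ∀ n : M3, ¬ P7 n ∨ ∀ p q : T3, p = 0 ∨ q = 0 ∨
    ∃ i : Fin 7, lin (pw n i) p = q := by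
  decide +kernel

theorem trans7 {n : M3} (h1 : pw n 7 = idm) (h2 : n ≠ idm) {p q : T3} (hp : p ≠ 0) (hq : q ≠ 0) :
    ∃ i : ℕ, lin (pw n i) p = q := by
  have h3 := (trans7_aux n).resolve_left (not_not.2 ⟨h1, h2⟩)
  obtain ⟨i, hi⟩ := ((h3 p q).resolve_left hp).resolve_left hq
  exact ⟨i, hi⟩

theorem acts_pow {w : T3 → X} {x : X} {m : M3} (hx : Acts w x m) (n : ℕ) :
    Acts w (x ^ n) (pw m n) := by
  induction n with
  | zero =>
    rw [pow_zero]
    exact Acts.one w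
  | succ n ih =>
    rw [pow_succ']
    exact hx.mul ih

/-- `y` of order 7 acts transitively on the nonzero vectors. -/
theorem NatTrans {Q W : Subgroup X} {w : T3 → X} (h : NatMod Q W w) {y : X} (hy : y ^ 7 = 1)
    (hyQ : y ∉ Q) {p q : T3} (hp : p ≠ 0) (hq : q ≠ 0) :
    ∃ i : ℕ, y ^ i * w p * (y ^ i)⁻¹ = w q := by
  obtain ⟨n, hn, hn2⟩ := h.acts y
  have h1 : pw n 7 = idm := by
    have h2 := acts_pow hn2 7
    rw [hy] at h2
    exact h2.unique h.coord (Acts.one w)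
  have h2 : n ≠ idm := fun h0 => hyQ ((h.mem_iff hn2).2 h0)
  obtain ⟨i, hi⟩ := trans7 h1 h2 hp hq
  exact ⟨i, by rw [acts_pow hn2 i, hi]⟩

theorem exists_other : ∀ p : T3, ∃ q : T3, q ≠ 0 ∧ q ≠ p := by decide

/-- `y` has no nonzero fixed vector. -/
theorem NatFix {Q W : Subgroup X} {w : T3 → X} (h : NatMod Q W w) {y : X} (hy : y ^ 7 = 1)
    (hyQ : y ∉ Q) {v : X} (hv : v ∈ W) (hyv : y * v = v * y) : v = 1 := by
  obtain ⟨p, rfl⟩ := (h.coord.mem v).1 hv
  by_contra hne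
  have hp : p ≠ 0 := by
    rintro rfl
    exact hne h.coord.zero
  obtain ⟨q, hq, hpq⟩ := exists_other p
  obtain ⟨i, hi⟩ := NatTrans h hy hyQ hp hq
  apply hpq
  apply h.coord.injective
  rw [← hi]
  have h1 : y ^ i * w p = w p * y ^ i := (show Commute y (w p) from hyv).pow_left i
  rw [h1]
  group

/-! ### the orbit of `a` -/

section Dich

variable {Q W : Subgroup X} {w : T3 → X} (h : NatMod Q W w) (hQ : Q.Normal) (hidx : Q.index = 168)
  (hQc : ∀ a ∈ Q, ∀ b ∈ Q, a * b = b * a) {y a : X} (hy : y ^ 7 = 1) (hyQ : y ∉ Q) (haQ : a ∈ Q)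
  (hya : y * a = a * y) (hxa : ∀ x, x * a * x⁻¹ * a⁻¹ ∈ W)

include h hy hyQ hya hxa

theorem orbit_all (hne : ¬ ∀ x, x * a = a * x) {v : X} (hv : v ∈ W) : ∃ x, x * a * x⁻¹ = v * a := by
  push Not at hne
  obtain ⟨x0, hx0⟩ := hne
  obtain ⟨q, rfl⟩ := (h.coord.mem v).1 hv
  by_cases hq : q = 0
  · refine ⟨1, ?_⟩
    rw [hq, h.coord.zero]
    group
  obtain ⟨p, hp⟩ := (h.coord.mem _).1 (hxa x0)
  have hp0 : p ≠ 0 := by
    rintro rfl
    rw [h.coord.zero] at hp
    apply hx0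
    calc x0 * a = (x0 * a * x0⁻¹ * a⁻¹) * a * x0 := by group
      _ = a * x0 := by rw [← hp, one_mul]
  obtain ⟨i, hi⟩ := NatTrans h hy hyQ hp0 hq
  refine ⟨y ^ i * x0, ?_⟩
  have h1 : y ^ i * a = a * y ^ i := (show Commute y a from hya).pow_left i
  calc y ^ i * x0 * a * (y ^ i * x0)⁻¹ = y ^ i * (x0 * a * x0⁻¹ * a⁻¹) * a * (y ^ i)⁻¹ := by group
    _ = y ^ i * w p * (a * y ^ i) * (y ^ i)⁻¹ * (y ^ i)⁻¹ := by rw [← hp]; group
    _ = y ^ i * w p * (y ^ i * a) * (y ^ i)⁻¹ * (y ^ i)⁻¹ := by rw [h1]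
    _ = (y ^ i * w p * (y ^ i)⁻¹) * (y ^ i) * (y ^ i * a) * (y ^ i)⁻¹ * (y ^ i)⁻¹ := by group
    _ = w q * (y ^ i) * (a * y ^ i) * (y ^ i)⁻¹ * (y ^ i)⁻¹ := by rw [hi, h1]
    _ = w q * (y ^ i * a) * (y ^ i)⁻¹ := by group
    _ = w q * a := by rw [h1]; group

include hQ hidx hQc haQ

/-- The centraliser of `a` has index 8. -/
theorem index_eight [Finite X] (hne : ¬ ∀ x, x * a = a * x) :
    (centralizer ({a} : Set X)).index = 8 := by
  set S := centralizer ({a} : Set X) with hS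
  have hmem : ∀ x, x ∈ S ↔ x * a = a * x := fun x => by
    rw [hS, mem_centralizer_singleton_iff]
  have h1 : ∀ x, ∃ p, w p = x * a * x⁻¹ * a⁻¹ := fun x => (h.coord.mem _).1 (hxa x)
  choose t ht using h1
  have hts : ∀ x z, t x = t z ↔ x⁻¹ * z ∈ S := by
    intro x z
    rw [hmem]
    constructor
    · intro hxz
      have h2 := ht x
      rw [hxz, ht z] at h2
      have h3 : z * a * z⁻¹ = x * a * x⁻¹ := mul_right_cancel h2
      calc x⁻¹ * z * a = x⁻¹ * (z * a * z⁻¹) * z := by group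
        _ = a * (x⁻¹ * z) := by rw [h3]; group
    · intro hxz
      apply h.coord.injective
      rw [ht, ht]
      congr 1
      calc x * a * x⁻¹ = x * (a * (x⁻¹ * z)) * z⁻¹ := by group
        _ = x * (x⁻¹ * z * a) * z⁻¹ := by rw [hxz]
        _ = z * a * z⁻¹ := by group
  let F : X ⧸ S → T3 := fun q => Quotient.liftOn' q t
    (fun a b hab => (hts a b).2 (QuotientGroup.leftRel_apply.1 hab))
  have hF : Function.Bijective F := by
    constructor
    · intro a b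
      refine Quotient.inductionOn₂' a b ?_
      intro a b hab
      exact QuotientGroup.eq.2 ((hts a b).1 hab)
    · intro p
      obtain ⟨x, hx⟩ := orbit_all h hy hyQ hya hxa hne (h.coord.mem_w p)
      refine ⟨(x : X ⧸ S), ?_⟩
      show t x = p
      apply h.coord.injective
      rw [ht, hx]
      group
  have h8 : Nat.card T3 = 8 := by
    rw [Nat.card_eq_fintype_card]
    decide
  rw [← h8]
  exact Nat.card_congr (Equiv.ofBijective F hF)

/-- No element of order 2 modulo `Q` fixes a point of `W a`. -/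
theorem no_fix [Finite X] (hne : ¬ ∀ x, x * a = a * x) {x v : X} (hx : x * x ∈ Q) (hv : v ∈ W)
    (hxv : x * (v * a) = (v * a) * x) : x ∈ Q := by
  have h8 := index_eight h hQ hidx hQc hy hyQ haQ hya hxa hne
  set S := centralizer ({a} : Set X) with hS
  have hmem : ∀ x, x ∈ S ↔ x * a = a * x := fun x => by
    rw [hS, mem_centralizer_singleton_iff]
  have hQS : Q ≤ S := fun q hq => (hmem q).2 (hQc q hq a haQ)
  have h21 : Q.relIndex S = 21 := by
    have := relIndex_mul_index hQS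
    rw [hidx, h8] at this
    omega
  have key : ∀ x ∈ S, x * x ∈ Q → x ∈ Q := by
    intro x hx hxx
    have h1 : (Q.subgroupOf S).Normal := inferInstance
    have h2 := (Q.subgroupOf S).pow_index_mem ⟨x, hx⟩
    have h3 : (Q.subgroupOf S).index = 21 := h21
    rw [h3, mem_subgroupOf] at h2
    have h4 : x ^ 21 ∈ Q := h2
    have h5 : x = x ^ 21 * ((x * x) ^ 10)⁻¹ := by
      have h6 : (x * x) ^ 10 = x ^ 20 := by
        rw [← pow_two, ← pow_mul]
      rw [h6]
      calc x = x ^ 21 * (x ^ 20)⁻¹ := by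
            rw [show (21 : ℕ) = 20 + 1 by norm_num, pow_succ']
            group
        _ = _ := rfl
    rw [h5]
    exact Q.mul_mem h4 (Q.inv_mem (Q.pow_mem hxx 10))
  obtain ⟨g, hg⟩ := orbit_all h hy hyQ hya hxa hne hv
  have h1 : g⁻¹ * x * g ∈ S := by
    rw [hmem]
    have h2 : x * (g * a * g⁻¹) = (g * a * g⁻¹) * x := by rw [hg, hxv]
    calc g⁻¹ * x * g * a = g⁻¹ * (x * (g * a * g⁻¹)) * g := by group
      _ = a * (g⁻¹ * x * g) := by rw [h2]; group
  have h2 : g⁻¹ * x * g ∈ Q := key _ h1 (by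
    have h3 := hQ.conj_mem _ hx g⁻¹
    have h4 : g⁻¹ * x * g * (g⁻¹ * x * g) = g⁻¹ * (x * x) * g⁻¹⁻¹ := by group
    rwa [h4])
  have h3 := hQ.conj_mem _ h2 g
  have h4 : g * (g⁻¹ * x * g) * g⁻¹ = x := by group
  rwa [h4] at h3

end Dich

/-! ### more general facts -/

namespace Hyp

variable {Q W : Subgroup X} {y g : X} (h : Hyp Q W y)

include h

theorem dec [Finite X] (hg : C Q y = zpowers g) {q : X} (hq : q ∈ Q) :
    ∃ v ∈ W, ∃ k : ℤ, q = v * g ^ k := by
  obtain ⟨a, ha, haq⟩ := h.exists_cent hq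
  have h1 : a * q ∈ C Q y := mem_C.2 ⟨Q.mul_mem (h.wq ha) hq, haq⟩
  rw [hg] at h1
  obtain ⟨k, hk⟩ := mem_zpowers_iff.1 h1
  refine ⟨a⁻¹, W.inv_mem ha, k, ?_⟩
  rw [hk]
  group

theorem gC (hg : C Q y = zpowers g) : g ∈ Q ∧ y * g = g * y :=
  mem_C.1 (hg ▸ mem_zpowers g)

theorem qcomm [Finite X] (hg : C Q y = zpowers g) {a b : X} (ha : a ∈ Q) (hb : b ∈ Q) :
    a * b = b * a := by
  obtain ⟨v, hv, k, rfl⟩ := h.dec hg ha
  obtain ⟨v', hv', l, rfl⟩ := h.dec hg hb
  have hgQ := (h.gC hg).1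
  have c1 : g ^ k * v' = v' * g ^ k := h.cent (Q.zpow_mem hgQ k) hv'
  have c2 : g ^ l * v = v * g ^ l := h.cent (Q.zpow_mem hgQ l) hv
  have c3 : v * v' = v' * v := h.wcomm hv hv'
  have c4 : g ^ k * g ^ l = g ^ l * g ^ k := (Commute.refl g).zpow_zpow k l
  calc v * g ^ k * (v' * g ^ l) = v * (g ^ k * v') * g ^ l := by group
    _ = (v * v') * (g ^ k * g ^ l) := by rw [c1]; group
    _ = v' * (v * g ^ l) * g ^ k := by rw [c3, c4]; group
    _ = v' * g ^ l * (v * g ^ k) := by rw [← c2]; group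

/-- `[X, Q] ≤ W` -/
theorem xw [Finite X] (hg : C Q y = zpowers g) (x : X) {q : X} (hq : q ∈ Q) :
    x * q * x⁻¹ * q⁻¹ ∈ W := by
  have hWn := h.wn
  have hQn := h.l.normal
  set N : Subgroup X := (centralizer (Q.map (QuotientGroup.mk' W) : Set (X ⧸ W))).comap
    (QuotientGroup.mk' W) with hN
  have hmapn : (Q.map (QuotientGroup.mk' W)).Normal := hQn.map _ (QuotientGroup.mk'_surjective W)
  have hNn : N.Normal := by
    rw [hN]
    infer_instance
  have hmem : ∀ x, x ∈ N ↔ ∀ q ∈ Q, x * q * x⁻¹ * q⁻¹ ∈ W := by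
    intro x
    rw [hN, mem_comap, mem_centralizer_iff]
    constructor
    · intro h1 q hq
      have h2 := h1 (QuotientGroup.mk' W q) ⟨q, hq, rfl⟩
      rw [← QuotientGroup.eq_one_iff]
      change QuotientGroup.mk' W (x * q * x⁻¹ * q⁻¹) = 1
      rw [map_mul, map_mul, map_mul, map_inv, map_inv, ← h2]
      group
    · rintro h1 _ ⟨q, hq, rfl⟩
      have h2 := h1 q hq
      rw [← QuotientGroup.eq_one_iff] at h2
      change QuotientGroup.mk' W (x * q * x⁻¹ * q⁻¹) = 1 at h2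
      rw [map_mul, map_mul, map_mul, map_inv, map_inv, mul_inv_eq_one, mul_inv_eq_iff_eq_mul] at h2
      exact h2.symm
  have htop : N = ⊤ := by
    refine h.top hNn (fun q hq => ?_) ?_
    · rw [hmem]
      intro q' hq'
      rw [h.qcomm hg hq hq']
      have : q' * q * q⁻¹ * q'⁻¹ = 1 := by group
      rw [this]
      exact W.one_mem
    · rw [hmem]
      exact fun q hq => h.one q hq
  exact (hmem x).1 (htop ▸ mem_top x) q hq

end Hyp

end Cfsg.Agent.GH.C2ThreeOne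
end

-- part: GH/C2ThreeTr
section
/-!
# GH-C2 (T3): a transfer lemma

`X / Q = L₃(2)`, `N` normal in `X`, `|Q : N| = 2`; if every square in `Q` lies in `N` then `X` has a normal subgroup
of index 2 meeting `Q` in `N`.
-/

set_option autoImplicit false

namespace Cfsg.Agent.GH.C2ThreeTr

open Subgroup Cfsg.Agent.GH.C2ThreeNat Cfsg.Agent.Lib.DihedralRecog

/-- powers of the element of order 4 -/
def mpow : ℕ → M3
  | 0 => idm
  | n + 1 => cmp (mpow n) (cmp (mR 1 0) mt)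

theorem mpow_ne (n : ℕ) (hn : n < 4) (h0 : n ≠ 0) : mpow n ≠ idm := by
  interval_cases n
  · exact absurd rfl h0
  · decide
  · decide
  · decide

theorem mR_mpow_ne : ∀ n : ℕ, n < 4 → cmp (mR 1 0) (mpow n) ≠ idm := by decide

theorem mR_sq : cmp (mR 1 0) (mR 1 0) = idm := by decide

theorem mt_sq : cmp mt mt = idm := by decide

theorem mpow_four : cmp (cmp (cmp (mR 1 0) mt) (cmp (mR 1 0) mt))
    (cmp (cmp (mR 1 0) mt) (cmp (mR 1 0) mt)) = idm := by decide

variable {X : Type*} [Group X]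

theorem acts_mpow {w : T3 → X} {x : X} (hx : Acts w x (cmp (mR 1 0) mt)) (n : ℕ) :
    Acts w (x ^ n) (mpow n) := by
  induction n with
  | zero => rw [pow_zero]; exact Acts.one w
  | succ n ih => rw [pow_succ]; exact ih.mul hx

theorem zpw_val {G : Type*} [Group G] (r : G) (hr : r ^ 4 = 1) (i : ZMod 4) :
    zpw r hr i = r ^ i.val := by
  have h1 : i = ((i.val : ℤ) : ZMod 4) := by
    rw [Int.cast_natCast, ZMod.natCast_val, ZMod.cast_id]
  nth_rewrite 1 [h1]
  rw [zpw_intCast, zpow_natCast]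

/-- A central involution outside an index 16 complement-type subgroup: the transfer. -/
theorem transfer_split {Y : Type*} [Group Y] [Finite Y] {ζ : Y} (hζ : ∀ y, ζ * y = y * ζ)
    (hζ2 : ζ * ζ = 1) (hζ1 : ζ ≠ 1) {D : Type*} [Group D] [Finite D] (f : D →* Y)
    (hf : Function.Injective f) (hfζ : ∀ d, f d ≠ ζ)
    (hodd : ¬ 2 ∣ Nat.card Y / (Nat.card D * 2)) : ∃ Y1 : Subgroup Y, Y1.Normal ∧ Y1.index = 2 ∧ ζ ∉ Y1 := by
  classical
  have ho : orderOf ζ = 2 := orderOf_eq_prime (by rw [pow_two, hζ2]) hζ1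
  have hcardC : Nat.card (zpowers ζ) = 2 := by rw [Nat.card_zpowers, ho]
  have memC : ∀ c ∈ zpowers ζ, c = 1 ∨ c = ζ := by
    rintro c ⟨n, rfl⟩
    have h2 : ζ ^ (2 : ℤ) = 1 := by rw [zpow_two, hζ2]
    rcases Int.even_or_odd n with hn | hn
    · obtain ⟨m, rfl⟩ := hn
      left
      show ζ ^ (m + m) = 1
      rw [← two_mul, zpow_mul, h2, one_zpow]
    · obtain ⟨m, rfl⟩ := hn
      right
      show ζ ^ (2 * m + 1) = ζ
      rw [zpow_add, zpow_mul, h2, one_zpow, one_mul, zpow_one]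
  have hcomm : ∀ (d : D) (c : zpowers ζ), Commute (f d) ((zpowers ζ).subtype c) := by
    intro d c
    rcases memC c c.2 with h | h
    · show f d * (c : Y) = c * f d
      rw [h, one_mul, mul_one]
    · show f d * (c : Y) = c * f d
      rw [h, hζ]
  let F : D × zpowers ζ →* Y := MonoidHom.noncommCoprod f (zpowers ζ).subtype hcomm
  have hFapp : ∀ p : D × zpowers ζ, F p = f p.1 * (p.2 : Y) := fun p => rfl
  have hF : Function.Injective F := by
    rw [injective_iff_map_eq_one]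
    rintro ⟨d, c⟩ h
    rw [hFapp] at h
    rcases memC c c.2 with hc | hc
    · have hc' : c = 1 := Subtype.ext hc
      rw [hc, mul_one] at h
      have hd : d = 1 := hf (by rw [h, map_one])
      rw [hd, hc']
      rfl
    · exfalso
      rw [hc] at h
      apply hfζ d
      rw [eq_inv_of_mul_eq_one_left h]
      exact inv_eq_of_mul_eq_one_left hζ2
  let e : (D × zpowers ζ) ≃* F.range := MonoidHom.ofInjective hF
  let χ : F.range →* zpowers ζ := (MonoidHom.snd D (zpowers ζ)).comp e.symm.toMonoidHom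
  have hcardR : Nat.card F.range = Nat.card D * 2 := by
    rw [← Nat.card_congr e.toEquiv, Nat.card_prod, hcardC]
  have hidx : F.range.index = Nat.card Y / (Nat.card D * 2) := by
    rw [← hcardR]
    exact (Nat.div_eq_of_eq_mul_right Nat.card_pos (F.range.card_mul_index).symm).symm
  have hζR : ζ ∈ F.range := ⟨(1, ⟨ζ, mem_zpowers ζ⟩), by rw [hFapp, map_one, one_mul]⟩
  have hχζ : χ ⟨ζ, hζR⟩ = ⟨ζ, mem_zpowers ζ⟩ := by
    have h1 : e (1, ⟨ζ, mem_zpowers ζ⟩) = ⟨ζ, hζR⟩ := by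
      apply Subtype.ext
      show F (1, ⟨ζ, mem_zpowers ζ⟩) = ζ
      rw [hFapp, map_one, one_mul]
    show (e.symm ⟨ζ, hζR⟩).2 = _
    rw [← h1, MulEquiv.symm_apply_apply]
  have hpow : ∀ n : ℕ, ¬ 2 ∣ n → ζ ^ n = ζ := by
    intro n hn
    obtain ⟨m, rfl⟩ := Nat.odd_iff.mpr (Nat.two_dvd_ne_zero.mp hn)
    rw [pow_add, pow_mul, pow_two, hζ2, one_pow, one_mul, pow_one]
  have hpc : ∀ n : ℕ, ∀ y : Y, y⁻¹ * ζ ^ n * y = ζ ^ n := by
    intro n y
    have h1 : Commute ζ y := hζ y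
    rw [mul_assoc, (h1.pow_left n).eq, ← mul_assoc, inv_mul_cancel, one_mul]
  have hodd' : ¬ 2 ∣ F.range.index := by rw [hidx]; exact hodd
  let _ : CommGroup (zpowers ζ) :=
    { (zpowers ζ).toGroup with
      mul_comm := fun a b => by
        rcases memC a a.2 with h | h
        · have h' : a = 1 := Subtype.ext h
          rw [h', one_mul, mul_one]
        · exact Subtype.ext (by
            show (a : Y) * b = b * a
            rw [h, hζ]) }
  let τ : Y →* zpowers ζ := MonoidHom.transfer χ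
  have hτ : τ ζ = ⟨ζ, mem_zpowers ζ⟩ := by
    have h1 := MonoidHom.transfer_eq_pow χ ζ (fun n y _ => hpc n y)
    show MonoidHom.transfer χ ζ = _
    rw [h1, ← hχζ]
    congr 1
    exact Subtype.ext (hpow _ hodd')
  have hsurj : τ.range = ⊤ := by
    rw [eq_top_iff]
    rintro c -
    rcases memC c c.2 with hc | hc
    · have hc' : c = 1 := Subtype.ext hc
      rw [hc']
      exact one_mem _
    · have hc' : c = ⟨ζ, mem_zpowers ζ⟩ := Subtype.ext hc
      rw [hc', ← hτ]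
      exact ⟨ζ, rfl⟩
  refine ⟨τ.ker, inferInstance, ?_, ?_⟩
  · rw [index_ker, hsurj, card_top, hcardC]
  · rw [MonoidHom.mem_ker, hτ]
    intro h
    exact hζ1 (congrArg Subtype.val h)

/-- The transfer lemma. -/
theorem index_two [Finite X] {Q N V : Subgroup X} {w : T3 → X} (hQ : L32 Q)
    (hV : NatMod Q V w) (hN : N.Normal) (hNQ : N ≤ Q) (hrel : N.relIndex Q = 2)
    (hsq : ∀ x, x * x ∈ Q → x * x ∈ N) :
    ∃ X1 : Subgroup X, X1.Normal ∧ X1.index = 2 ∧ X1 ⊓ Q = N := by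
  -- the central involution of `X / N`
  obtain ⟨w0, hw0, hw0N⟩ : ∃ w0 ∈ Q, w0 ∉ N := by
    by_contra hcon
    push Not at hcon
    have h1 : N.relIndex Q = 1 := relIndex_eq_one.2 hcon
    omega
  have hidx2 : (N.subgroupOf Q).index = 2 := hrel
  have hmm : ∀ a ∈ Q, ∀ b ∈ Q, a ∉ N → b ∉ N → a * b ∈ N := by
    intro a ha b hb haN hbN
    have h1 := (mul_mem_iff_of_index_two hidx2 (a := ⟨a, ha⟩) (b := ⟨b, hb⟩)).2
      ⟨fun h => absurd h haN, fun h => absurd h hbN⟩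
    exact h1
  have hQn := hQ.normal
  let π : X →* X ⧸ N := QuotientGroup.mk' N
  have hπs : Function.Surjective π := QuotientGroup.mk'_surjective N
  have hπ1 : ∀ x, π x = 1 ↔ x ∈ N := fun x => QuotientGroup.eq_one_iff x
  have hζ : ∀ y, π w0 * y = y * π w0 := by
    intro y
    obtain ⟨x, rfl⟩ := hπs y
    rw [eq_comm, ← map_mul, ← map_mul, ← mul_inv_eq_one, ← map_inv, ← map_mul, hπ1]
    have h1 : x * w0 * (w0 * x)⁻¹ = (x * w0 * x⁻¹) * w0⁻¹ := by group
    rw [h1]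
    refine hmm _ (hQn.conj_mem _ hw0 x) _ (inv_mem hw0) (fun h => hw0N ?_)
      (fun h => hw0N (by simpa using inv_mem h))
    have h2 := hN.conj_mem _ h x⁻¹
    have h3 : x⁻¹ * (x * w0 * x⁻¹) * x⁻¹⁻¹ = w0 := by group
    rwa [h3] at h2
  have hζ2 : π w0 * π w0 = 1 := by
    rw [← map_mul, hπ1]
    exact hmm _ hw0 _ hw0 hw0N hw0N
  have hζ1 : π w0 ≠ 1 := fun h => hw0N ((hπ1 _).1 h)
  -- the dihedral group
  obtain ⟨s1, hs1⟩ := hV.real (mR 1 0) (mR_bas 1 0)
  obtain ⟨s2, hs2⟩ := hV.real mt mt_bas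
  have hsqN : ∀ {x : X} {m : M3}, Acts w x m → cmp m m = idm → π x * π x = 1 := by
    intro x m hx hm
    rw [← map_mul, hπ1]
    exact hsq x ((hV.mem_iff (hx.mul hx)).2 hm)
  have h11 : π s1 * π s1 = 1 := hsqN hs1 mR_sq
  have h22 : π s2 * π s2 = 1 := hsqN hs2 mt_sq
  have hρ : Acts w (s1 * s2) (cmp (mR 1 0) mt) := hs1.mul hs2
  have hρ4 : (π (s1 * s2)) ^ 4 = 1 := by
    have h1 := hsqN (hρ.mul hρ) mpow_four
    rw [map_mul π (s1 * s2) (s1 * s2)] at h1
    rw [pow_succ, pow_succ, pow_two]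
    simpa only [mul_assoc] using h1
  have hinv : π s1 * π (s1 * s2) * (π s1)⁻¹ = (π (s1 * s2))⁻¹ := by
    rw [map_mul, mul_inv_rev, ← mul_assoc, h11, one_mul, inv_eq_of_mul_eq_one_left h22]
  let f : DihedralGroup 4 →* X ⧸ N := dihedralHom (π (s1 * s2)) (π s1) hρ4 h11 hinv
  have hrep : ∀ a : DihedralGroup 4, ∃ x m, π x = f a ∧ Acts w x m ∧ (m = idm → a = 1) := by
    rintro (i | i)
    · refine ⟨(s1 * s2) ^ i.val, mpow i.val, ?_, acts_mpow hρ _, ?_⟩
      · rw [map_pow]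
        exact (zpw_val _ hρ4 i).symm
      · intro h
        have h1 : i.val = 0 := by
          by_contra h0
          exact mpow_ne _ (ZMod.val_lt i) h0 h
        have h2 : i = 0 := (ZMod.val_eq_zero i).1 h1
        rw [h2, DihedralGroup.one_def]
    · refine ⟨s1 * (s1 * s2) ^ i.val, cmp (mR 1 0) (mpow i.val), ?_, hs1.mul (acts_mpow hρ _), ?_⟩
      · rw [map_mul, map_pow]
        exact congrArg (fun t => π s1 * t) (zpw_val _ hρ4 i).symm
      · intro h
        exact absurd h (mR_mpow_ne _ (ZMod.val_lt i))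
  have hfQ : ∀ a : DihedralGroup 4, ∀ q ∈ Q, f a = π q → a = 1 := by
    intro a q hq h
    obtain ⟨x, m, hx, hm, ha⟩ := hrep a
    apply ha
    rw [← hV.mem_iff hm]
    have h1 : π (q⁻¹ * x) = 1 := by rw [map_mul, map_inv, hx, h, inv_mul_cancel]
    have h2 : q⁻¹ * x ∈ Q := hNQ ((hπ1 _).1 h1)
    have h3 := mul_mem hq h2
    rwa [mul_inv_cancel_left] at h3
  have hf : Function.Injective f := by
    rw [injective_iff_map_eq_one]
    intro a ha
    exact hfQ a 1 (one_mem _) (by rw [ha, map_one])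
  have hfζ : ∀ a, f a ≠ π w0 := by
    intro a ha
    have h1 := hfQ a w0 hw0 ha
    rw [h1, map_one] at ha
    exact hζ1 ha.symm
  have hcard : Nat.card (X ⧸ N) = 336 := by
    have h1 : N.relIndex Q * Q.index = N.index := relIndex_mul_index hNQ
    rw [hrel, hQ.index] at h1
    exact h1.symm
  have hcD : Nat.card (DihedralGroup 4) = 8 := by rw [DihedralGroup.nat_card]
  obtain ⟨Y1, hY1n, hY1i, hY1⟩ := transfer_split hζ hζ2 hζ1 f hf hfζ
    (by rw [hcard, hcD]; norm_num)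
  refine ⟨Y1.comap π, hY1n.comap π, ?_, ?_⟩
  · rw [index_comap_of_surjective _ hπs, hY1i]
  · apply le_antisymm
    · rintro x ⟨h1, h2⟩
      by_contra hxN
      apply hY1
      have h3 : x * w0 ∈ N := hmm x h2 w0 hw0 hxN hw0N
      have h4 : π x * π w0 = 1 := by rw [← map_mul, hπ1]; exact h3
      have h5 : π w0 = (π x)⁻¹ := eq_inv_of_mul_eq_one_right h4
      rw [h5]
      exact inv_mem h1
    · intro x hx
      refine ⟨?_, hNQ hx⟩
      show π x ∈ Y1
      rw [(hπ1 x).2 hx]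
      exact one_mem _

/-- If `X` is the normal closure of an element of order 7 then some square lies in `Q - N`. -/
theorem exists_sq [Finite X] {Q N V : Subgroup X} {w : T3 → X} (hQ : L32 Q)
    (hV : NatMod Q V w) (hN : N.Normal) (hNQ : N ≤ Q) (hrel : N.relIndex Q = 2)
    {y : X} (hy : y ^ 7 = 1) (hgen : normalClosure ({y} : Set X) = ⊤) :
    ∃ x, x * x ∈ Q ∧ x * x ∉ N := by
  by_contra hcon
  push Not at hcon
  obtain ⟨X1, hn, hi, -⟩ := index_two hQ hV hN hNQ hrel hcon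
  have h1 : y ∈ X1 := mem_of_pow (n := 7) (k := 1) hy (by decide) (by rw [hi, pow_one])
  have h2 : normalClosure ({y} : Set X) ≤ X1 := normalClosure_le_normal (by simpa using h1)
  rw [hgen, top_le_iff] at h2
  rw [h2, index_top] at hi
  norm_num at hi

end Cfsg.Agent.GH.C2ThreeTr
end

-- part: GH/C2ThreeOneE
section
/-!
# GH-C2 (T3), statement ONE: the case `|W| = 8`
-/

set_option autoImplicit false
set_option maxHeartbeats 800000
set_option linter.unusedSectionVars false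
set_option linter.unusedVariables false

namespace Cfsg.Agent.GH.C2ThreeOne

open Subgroup Cfsg.Agent.TwoFusion.SectionalRank Cfsg.Agent.GH.C2Base Cfsg.Agent.GH.C2Five
open Cfsg.Agent.GH.C2ThreeNat Cfsg.Agent.GH.C2ThreeK0

variable {X : Type*} [Group X]

/-- If `g ≠ 1` is a 2-element and `g^m = 1`, then `m` is even. -/
theorem even_of_zpow_eq_one {g : X} {n : ℕ} (hn : g ^ 2 ^ n = 1) (hg : g ≠ 1) {m : ℤ}
    (hm : g ^ m = 1) : Even m := by
  by_contra hodd
  rw [Int.not_even_iff_odd] at hodd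
  obtain ⟨j, rfl⟩ := hodd
  apply not_mem_sq hn hg
  refine ⟨-j, ?_⟩
  have h1 : (g * g) ^ (-j) * g⁻¹ = 1 := by
    rw [(Commute.refl g).mul_zpow, ← zpow_add, ← zpow_neg_one, ← zpow_add]
    have h2 : -j + -j + -1 = -(2 * j + 1) := by ring
    rw [h2, zpow_neg, hm, inv_one]
  show (g * g) ^ (-j) = g
  exact mul_inv_eq_one.1 h1

namespace Hyp

variable {Q W : Subgroup X} {y g : X} {w : T3 → X} (h : Hyp Q W y) (hn : NatMod Q W w)
  (hg : C Q y = zpowers g)

include h hn hg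

theorem inf8 {m : ℤ} (hm : g ^ m ∈ W) : g ^ m = 1 := by
  refine NatFix hn h.hy h.yQ hm ?_
  exact (show Commute y g from (h.gC hg).2).zpow_right m

theorem eq_of_g (hg1 : g ≠ 1) : g ∉ W := by
  intro hgW
  apply hg1
  have := h.inf8 hn hg (m := 1) (by rwa [zpow_one])
  rwa [zpow_one] at this

/-- `x g x⁻¹ = v g` -/
theorem gsq_central [Finite X] (x : X) : x * (g * g) = (g * g) * x := by
  have hgQ := (h.gC hg).1
  have h1 := h.xw hg x hgQ
  set v := x * g * x⁻¹ * g⁻¹ with hv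
  have h2 : x * g * x⁻¹ = v * g := by rw [hv]; group
  have h3 : g * v = v * g := h.cent hgQ h1
  have h4 : x * (g * g) * x⁻¹ = g * g := by
    calc x * (g * g) * x⁻¹ = (x * g * x⁻¹) * (x * g * x⁻¹) := by group
      _ = v * (g * v) * g := by rw [h2]; group
      _ = (v * v) * (g * g) := by rw [h3]; group
      _ = g * g := by rw [h.w2 v h1, one_mul]
  calc x * (g * g) = (x * (g * g) * x⁻¹) * x := by group
    _ = (g * g) * x := by rw [h4]

/-- Squares modulo `W`. -/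
theorem sq_of_not_mem [Finite X] (hg2 : g * g ≠ 1) {x : X} (hxx : x * x ∈ Q) (hxQ : x ∉ Q) :
    ∃ v ∈ W, ∃ k : ℤ, x * x = v * (g * g) ^ k := by
  have hWn := h.wn
  have hgQ := (h.gC hg).1
  have hg1 : g ≠ 1 := fun h0 => hg2 (by rw [h0, one_mul])
  obtain ⟨N, hN⟩ := exists_pow_of_mem h.l.two hgQ
  obtain ⟨n, hnb, hx⟩ := hn.exists_adapt hxx hxQ
  have hn' := hn.change hnb
  generalize (fun p => w (lin n p)) = w' at hx hn'
  obtain ⟨d, hd⟩ := hn'.real md md_bas
  have hdi : Acts w' d⁻¹ (cmp md md) := hd.inv md_cube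
  have hconj : ∀ {x : X} {i j : ZMod 2}, Acts w' x (mR i j) → Acts w' (d * x * d⁻¹) (mR (i + j) i) := by
    intro x i j hx
    have h1 := (hd.mul (hx.mul hdi))
    rw [md_conj, ← mul_assoc] at h1
    exact h1
  have hx2 : Acts w' (d * x * d⁻¹) (mR 1 0) := by
    have := hconj hx
    rwa [zero_add] at this
  have hx3 : Acts w' (d * (d * x * d⁻¹) * d⁻¹) (mR 1 1) := by
    have := hconj hx2
    rwa [add_zero] at this
  have hinv : ∀ {x : X} {i j : ZMod 2}, Acts w' x (mR i j) → Acts w' x⁻¹ (mR i j) := by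
    intro x i j hx
    refine hx.inv ?_
    rw [mR_mul]
    clear hx
    revert i j
    decide
  have hεQ : x * (d * x * d⁻¹) * x⁻¹ * (d * x * d⁻¹)⁻¹ ∈ Q := by
    rw [hn'.mem_iff (((hx.mul hx2).mul (hinv hx)).mul (hinv hx2))]
    decide
  have hζQ : x * (d * x * d⁻¹) * (d * (d * x * d⁻¹) * d⁻¹) ∈ Q := by
    rw [hn'.mem_iff ((hx.mul hx2).mul hx3)]
    decide
  set x2 := d * x * d⁻¹ with hx2d
  set x3 := d * x2 * d⁻¹ with hx3d
  -- in `X / W` elements of `Q` are central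
  let π := QuotientGroup.mk' W
  have hπ : ∀ a, π a = 1 ↔ a ∈ W := fun a => QuotientGroup.eq_one_iff a
  have hc : ∀ (a : X) {q : X}, q ∈ Q → π a * π q = π q * π a := by
    intro a q hq
    have h1 := (hπ _).2 (h.xw hg a hq)
    rw [map_mul, map_mul, map_mul, map_inv, map_inv, mul_inv_eq_one, mul_inv_eq_iff_eq_mul] at h1
    exact h1
  obtain ⟨i1, i2, -⟩ := ident (x := π x) (d := π d) (x2 := π x2) (x3 := π x3)
    (ε := π (x * x2 * x⁻¹ * x2⁻¹)) (ζ := π (x * x2 * x3))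
    (by rw [hx2d, map_mul, map_mul, map_inv]) (by rw [hx3d, map_mul, map_mul, map_inv])
    (by rw [map_mul, map_mul, map_mul, map_inv, map_inv]) (by rw [map_mul, map_mul])
    (by rw [← map_mul]; exact hc _ hxx) (by rw [← map_mul]; exact hc _ hxx)
    (hc _ hεQ) (hc _ hζQ)
  obtain ⟨v, hv, l, hl⟩ := h.dec hg hxx
  obtain ⟨v1, hv1, i, hi⟩ := h.dec hg hεQ
  obtain ⟨v2, hv2, j, hj⟩ := h.dec hg hζQ
  have e0 : ∀ {v : X} {k : ℤ}, v ∈ W → π (v * g ^ k) = π (g ^ k) := fun {v k} hv => by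
    rw [map_mul, (hπ v).2 hv, one_mul]
  rw [hi, e0 hv1, ← map_mul, hπ, ← zpow_add] at i1
  have i3 := h.inf8 hn hg i1
  rw [zpow_add] at i3
  have hie := even_of_zpow hN hg2 i3
  rw [← map_mul, hi, hj, hl, e0 hv, e0 hv1, e0 hv2, ← map_mul, ← map_mul, ← map_mul, ← map_mul] at i2
  have i4 : (g ^ l * g ^ l * g ^ l) * (g ^ i * (g ^ j * g ^ j))⁻¹ ∈ W := by
    rw [← hπ, map_mul, map_inv, i2, mul_inv_cancel]
  have i5 : (g ^ l * g ^ l * g ^ l) * (g ^ i * (g ^ j * g ^ j))⁻¹ = g ^ (l + l + l - (i + (j + j))) := by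
    rw [← zpow_add, ← zpow_add, ← zpow_add, ← zpow_add, ← zpow_sub]
  rw [i5] at i4
  have i6 := even_of_zpow_eq_one hN hg1 (h.inf8 hn hg i4)
  have hle : Even l := by
    rw [Int.even_iff] at hie i6 ⊢
    omega
  obtain ⟨k, rfl⟩ := hle
  refine ⟨v, hv, k, ?_⟩
  rw [hl, zpow_add, (Commute.refl g).mul_zpow]

theorem sq_of_mem [Finite X] {x : X} (hxQ : x ∈ Q) : ∃ k : ℤ, x * x = (g * g) ^ k := by
  obtain ⟨v, hv, k, rfl⟩ := h.dec hg hxQ
  refine ⟨k, ?_⟩
  have h1 : g ^ k * v = v * g ^ k := h.cent (Q.zpow_mem (h.gC hg).1 k) hv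
  calc v * g ^ k * (v * g ^ k) = v * (g ^ k * v) * g ^ k := by group
    _ = (v * v) * (g ^ k * g ^ k) := by rw [h1]; group
    _ = (g * g) ^ k := by rw [h.w2 v hv, one_mul, (Commute.refl g).mul_zpow]

/-- The subgroup `N = W ⟨g²⟩`. -/
theorem mem_N [Finite X] {x : X} : x ∈ W ⊔ zpowers (g * g) ↔ ∃ v ∈ W, ∃ k : ℤ, x = v * (g * g) ^ k := by
  have hWn := h.wn
  rw [mem_sup_of_normal_left]
  constructor
  · rintro ⟨v, hv, z, hz, rfl⟩
    obtain ⟨k, rfl⟩ := mem_zpowers_iff.1 hz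
    exact ⟨v, hv, k, rfl⟩
  · rintro ⟨v, hv, k, rfl⟩
    exact ⟨v, hv, _, zpow_mem (mem_zpowers _) k, rfl⟩

theorem g_not_N [Finite X] (hg1 : g ≠ 1) : g ∉ W ⊔ zpowers (g * g) := by
  intro hgN
  obtain ⟨N, hN⟩ := exists_pow_of_mem h.l.two (h.gC hg).1
  obtain ⟨v, hv, k, hk⟩ := (h.mem_N hn hg).1 hgN
  have h1 : g ^ (1 - (k + k)) = v := by
    rw [zpow_sub, zpow_one, zpow_add, ← (Commute.refl g).mul_zpow]
    nth_rewrite 1 [hk]
    group
  have h2 : v = 1 := by
    rw [← h1]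
    apply h.inf8 hn hg
    rw [h1]
    exact hv
  apply not_mem_sq hN hg1
  rw [h2, one_mul] at hk
  rw [hk]
  exact zpow_mem (by rw [← hk]; exact mem_zpowers _) k

theorem rel_N [Finite X] (hg1 : g ≠ 1) : (W ⊔ zpowers (g * g)).relIndex Q = 2 := by
  have hgQ := (h.gC hg).1
  show ((W ⊔ zpowers (g * g)).subgroupOf Q).index = 2
  rw [Subgroup.index_eq_two_iff]
  refine ⟨⟨g, hgQ⟩, fun q => ?_⟩
  rw [mem_subgroupOf, mem_subgroupOf]
  show Xor ((q : X) * g ∈ W ⊔ zpowers (g * g)) ((q : X) ∈ W ⊔ zpowers (g * g))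
  obtain ⟨v, hv, k, hk⟩ := h.dec hg q.2
  have hno := h.g_not_N hn hg hg1
  rcases Int.even_or_odd' k with ⟨l, rfl | rfl⟩
  · have h1 : (q : X) ∈ W ⊔ zpowers (g * g) := by
      rw [h.mem_N hn hg]
      refine ⟨v, hv, l, ?_⟩
      rw [hk, (Commute.refl g).mul_zpow, ← zpow_add]
      congr 2
      ring
    right
    refine ⟨h1, fun h2 => hno ?_⟩
    have h3 := mul_mem (inv_mem h1) h2
    rwa [inv_mul_cancel_left] at h3
  · have h1 : (q : X) * g ∈ W ⊔ zpowers (g * g) := by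
      rw [h.mem_N hn hg]
      refine ⟨v, hv, l + 1, ?_⟩
      rw [hk, (Commute.refl g).mul_zpow, ← zpow_add, mul_assoc]
      congr 1
      rw [← zpow_add_one]
      congr 1
      ring
    left
    refine ⟨h1, fun h2 => hno ?_⟩
    have h3 := mul_mem (inv_mem h2) h1
    rwa [inv_mul_cancel_left] at h3

theorem normal_N [Finite X] : (W ⊔ zpowers (g * g)).Normal := by
  have hWn := h.wn
  have hZ : (zpowers (g * g)).Normal := normal_of_central (h.gsq_central hn hg)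
  infer_instance

theorem N_le [Finite X] : W ⊔ zpowers (g * g) ≤ Q := by
  refine sup_le h.wq ?_
  rw [zpowers_le]
  exact Q.mul_mem (h.gC hg).1 (h.gC hg).1

theorem cen (hgc : ∀ x, x * g = g * x) [Finite X] : Cen Q W w g :=
  ⟨h.l.two, hn, (h.gC hg).1, hgc, fun q hq => h.dec hg hq⟩

end Hyp

end Cfsg.Agent.GH.C2ThreeOne
end

-- part: GH/C2ThreeOneF
section
/-!
# GH-C2 (T3), statement ONE: the case `|W| = 8`, end
-/

set_option autoImplicit false
set_option maxHeartbeats 800000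
set_option linter.unusedSectionVars false
set_option linter.unusedVariables false

namespace Cfsg.Agent.GH.C2ThreeOne

open Subgroup Cfsg.Agent.TwoFusion.SectionalRank Cfsg.Agent.GH.C2Base Cfsg.Agent.GH.C2Five
open Cfsg.Agent.GH.C2ThreeNat Cfsg.Agent.GH.C2ThreeK0

variable {X : Type*} [Group X]

/-- Second alternative of statement ONE. -/
def Two (Q W : Subgroup X) : Prop :=
  ∃ z0 ∈ Q, z0 ∉ W ∧ z0 * z0 = 1 ∧ (∀ x, x * z0 = z0 * x) ∧
    ∀ u : X, u * u = 1 → u ∈ W ∨ u * z0 ∈ W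

/-- Third alternative of statement ONE. -/
def Three (Q W : Subgroup X) : Prop :=
  Nat.card Q = 16 ∧ (∀ q ∈ Q, q * q = 1) ∧
    ∀ a ∈ Q, a ∉ W → ∀ b ∈ Q, b ∉ W → ∃ x, x * a * x⁻¹ = b

theorem mR01_e3 : lin (mR 0 1) e3 = e1 + e3 := by decide

namespace Hyp

variable {Q W : Subgroup X} {y g : X} {w : T3 → X} (h : Hyp Q W y) (hn : NatMod Q W w)
  (hg : C Q y = zpowers g)

include h hn hg

/-- `g` central. -/
theorem caseS [Finite X] (hr : R4 X) (hgc : ∀ x, x * g = g * x) : Q = W ∨ Two Q W := by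
  by_cases hg1 : g = 1
  · left
    refine le_antisymm (fun q hq => ?_) h.wq
    obtain ⟨v, hv, k, rfl⟩ := h.dec hg hq
    rw [hg1, one_zpow, mul_one]
    exact hv
  right
  have hc := h.cen hn hg hgc
  have hg2 := hc.four hr
  refine ⟨g, (h.gC hg).1, h.eq_of_g hn hg hg1, hg2, hgc, fun u hu => ?_⟩
  have huQ := hc.two_inv hr hg2 hg1 hu
  obtain ⟨v, hv, k, rfl⟩ := h.dec hg huQ
  rcases Int.even_or_odd' k with ⟨l, rfl | rfl⟩
  · left
    rw [zpow_mul, zpow_ofNat, pow_two, hg2, one_zpow, mul_one]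
    exact hv
  · right
    rw [mul_assoc, ← zpow_add_one]
    have h1 : 2 * l + 1 + 1 = 2 * (l + 1) := by ring
    rw [h1, zpow_mul, zpow_ofNat, pow_two, hg2, one_zpow, mul_one]
    exact hv

/-- `g` not central, `g² = 1`. -/
theorem caseN2 [Finite X] (hr : R4 X) (hgc : ¬ ∀ x, x * g = g * x) (hg2 : g * g = 1)
    (hcard : 8 * Nat.card (zpowers g) ≤ Nat.card Q) : Three Q W := by
  have hg1 : g ≠ 1 := by
    rintro rfl
    exact hgc fun x => by rw [mul_one, one_mul]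
  have hsq : ∀ q ∈ Q, q * q = 1 := by
    intro q hq
    obtain ⟨k, hk⟩ := h.sq_of_mem hn hg hq
    rw [hk, hg2, one_zpow]
  have hcoset : ∀ a ∈ Q, a ∉ W → ∃ v ∈ W, a = v * g := by
    intro a ha haW
    obtain ⟨v, hv, k, rfl⟩ := h.dec hg ha
    rcases Int.even_or_odd' k with ⟨l, rfl | rfl⟩
    · exfalso
      apply haW
      rw [zpow_mul, zpow_ofNat, pow_two, hg2, one_zpow, mul_one]
      exact hv
    · refine ⟨v, hv, ?_⟩
      rw [zpow_add_one, zpow_mul, zpow_ofNat, pow_two, hg2, one_zpow, one_mul]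
  refine ⟨?_, hsq, fun a ha haW b hb hbW => ?_⟩
  · have h1 : Nat.card Q ≤ 16 := by
      have := hr Q ⊥ (elem_bot fun v hv => by rw [pow_two]; exact hsq v hv)
      simpa using this
    have h2 : Nat.card (zpowers g) = 2 := by
      rw [Nat.card_zpowers]
      exact orderOf_eq_prime (by rw [pow_two, hg2]) hg1
    omega
  · obtain ⟨v, hv, rfl⟩ := hcoset a ha haW
    obtain ⟨v', hv', rfl⟩ := hcoset b hb hbW
    have hgQ := (h.gC hg).1
    have hya := (h.gC hg).2
    obtain ⟨x, hx⟩ := orbit_all hn h.hy h.yQ hya (fun x => h.xw hg x hgQ) hgc hv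
    obtain ⟨x', hx'⟩ := orbit_all hn h.hy h.yQ hya (fun x => h.xw hg x hgQ) hgc hv'
    refine ⟨x' * x⁻¹, ?_⟩
    rw [← hx, ← hx']
    group

/-- The subgroup of index 2. -/
theorem exists_X1 [Finite X] (hg2 : g * g ≠ 1) :
    ∃ X1 : Subgroup X, X1.Normal ∧ X1.index = 2 ∧ X1 ⊓ Q = W ⊔ zpowers (g * g) := by
  have hg1 : g ≠ 1 := fun h0 => hg2 (by rw [h0, one_mul])
  refine C2ThreeTr.index_two h.l hn (h.normal_N hn hg) (h.N_le hn hg) (h.rel_N hn hg hg1)
    (fun x hxx => ?_)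
  by_cases hxQ : x ∈ Q
  · obtain ⟨k, hk⟩ := h.sq_of_mem hn hg hxQ
    rw [hk]
    exact mem_sup_right (zpow_mem (mem_zpowers _) k)
  · obtain ⟨v, hv, k, hk⟩ := h.sq_of_not_mem hn hg hg2 hxx hxQ
    rw [h.mem_N hn hg]
    exact ⟨v, hv, k, hk⟩

theorem cen1 [Finite X] (hg1 : g ≠ 1) {X1 : Subgroup X} (hX1i : X1.index = 2)
    (hX1 : X1 ⊓ Q = W ⊔ zpowers (g * g)) (hWX : ∀ p, w p ∈ X1) (hgX : g * g ∈ X1) :
    Cen (Q.subgroupOf X1) (W.subgroupOf X1) (fun p => (⟨w p, hWX p⟩ : X1)) ⟨g * g, hgX⟩ where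
  two := h.l.two.comap_subtype
  gQ := by
    rw [mem_subgroupOf]
    exact Q.mul_mem (h.gC hg).1 (h.gC hg).1
  gc x := Subtype.ext (h.gsq_central hn hg x)
  dec q hq := by
    rw [mem_subgroupOf] at hq
    have h1 : (q : X) ∈ X1 ⊓ Q := mem_inf.2 ⟨q.2, hq⟩
    rw [hX1, h.mem_N hn hg] at h1
    obtain ⟨v, hv, k, hk⟩ := h1
    have hvX : v ∈ X1 := by
      obtain ⟨p, rfl⟩ := (hn.coord.mem v).1 hv
      exact hWX p
    refine ⟨⟨v, hvX⟩, mem_subgroupOf.2 hv, k, Subtype.ext ?_⟩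
    rw [hk]
    rfl
  nat := by
    have hgX1 : g ∉ X1 := fun h0 => h.g_not_N hn hg hg1 (hX1 ▸ mem_inf.2 ⟨h0, (h.gC hg).1⟩)
    refine ⟨?_, ?_, ⟨fun a b => Subtype.ext (hn.coord.mul a b),
      fun a ha => hn.coord.inj a (congrArg Subtype.val ha), fun v => ?_⟩, fun x => ?_,
      fun m hm => ?_⟩
    · have := hn.normal
      infer_instance
    · intro x hx
      rw [mem_subgroupOf] at hx ⊢
      exact h.wq hx
    · rw [mem_subgroupOf, hn.coord.mem]
      constructor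
      · rintro ⟨a, ha⟩
        exact ⟨a, Subtype.ext ha⟩
      · rintro ⟨a, ha⟩
        exact ⟨a, congrArg Subtype.val ha⟩
    · rw [mem_subgroupOf, ← hn.cent]
      constructor
      · intro h1 v hv
        obtain ⟨p, rfl⟩ := (hn.coord.mem v).1 hv
        exact congrArg Subtype.val (h1 ⟨w p, hWX p⟩ (mem_subgroupOf.2 hv))
      · intro h1 v hv
        exact Subtype.ext (h1 v (mem_subgroupOf.1 hv))
    · obtain ⟨x, hx⟩ := hn.real m hm
      by_cases hxX : x ∈ X1
      · exact ⟨⟨x, hxX⟩, fun p => Subtype.ext (hx p)⟩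
      · have h1 : x * g ∈ X1 := by
          rw [mul_mem_iff_of_index_two hX1i]
          exact ⟨fun h2 => absurd h2 hxX, fun h2 => absurd h2 hgX1⟩
        exact ⟨⟨x * g, h1⟩, fun p => Subtype.ext (hn.acts_mul_right hx (h.gC hg).1 p)⟩

/-- `g` not central, `g² ≠ 1`. -/
theorem caseN4 [Finite X] (hr : R4 X) (hgc : ¬ ∀ x, x * g = g * x) (hg2 : g * g ≠ 1) :
    Two Q W := by
  have hg1 : g ≠ 1 := fun h0 => hg2 (by rw [h0, one_mul])
  have hQn := h.l.normal
  have hgQ := (h.gC hg).1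
  obtain ⟨N, hN⟩ := exists_pow_of_mem h.l.two hgQ
  obtain ⟨X1, hX1n, hX1i, hX1⟩ := h.exists_X1 hn hg hg2
  have hle : W ⊔ zpowers (g * g) ≤ X1 := hX1 ▸ inf_le_left
  have hWX : ∀ v ∈ W, v ∈ X1 := fun v hv => hle (mem_sup_left hv)
  have hgX : g * g ∈ X1 := hle (mem_sup_right (mem_zpowers _))
  have hgX1 : g ∉ X1 := fun h0 => h.g_not_N hn hg hg1 (hX1 ▸ mem_inf.2 ⟨h0, hgQ⟩)
  have hc1 := h.cen1 hn hg hg1 hX1i hX1 (fun p => hWX _ (hn.coord.mem_w p)) hgX
  have hr1 : R4 X1 := r4_subgroup hr X1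
  have hz2 : g * g * (g * g) = 1 := congrArg Subtype.val (hc1.four hr1)
  have hz1 : (⟨g * g, hgX⟩ : X1) ≠ 1 := fun h0 => hg2 (congrArg Subtype.val h0)
  -- involutions lie in `Q`
  have key : ∀ u : X, u * u = 1 → u ∈ Q := by
    intro u hu
    by_cases huX : u ∈ X1
    · have h1 := hc1.two_inv hr1 (u := ⟨u, huX⟩) (hc1.four hr1) hz1 (Subtype.ext hu)
      exact mem_subgroupOf.1 h1
    by_contra huQ
    have hx'X : u * g⁻¹ ∈ X1 := by
      rw [mul_mem_iff_of_index_two hX1i]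
      exact ⟨fun h2 => absurd h2 huX, fun h2 => absurd (by simpa using X1.inv_mem h2) hgX1⟩
    set x' := u * g⁻¹ with hx'
    have hux : u = x' * g := by rw [hx']; group
    have hx'Q : x' ∉ Q := fun h2 => huQ (by rw [hux]; exact Q.mul_mem h2 hgQ)
    have hx'2 : x' * x' ∈ Q := by
      have h1 : x' * x' = (u * g⁻¹ * u⁻¹) * (u * u) * g⁻¹ := by rw [hx']; group
      rw [h1, hu, mul_one]
      exact Q.mul_mem (hQn.conj_mem _ (Q.inv_mem hgQ) u) (Q.inv_mem hgQ)
    obtain ⟨n, hnb, hx⟩ := hn.exists_adapt hx'2 hx'Q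
    have hn' := hn.change hnb
    have hc' := hc1.change hnb
    set w' : T3 → X := fun p => w (lin n p) with hw'
    -- the square of `x'`
    have h1 : (⟨x', hx'X⟩ * ⟨x', hx'X⟩ : X1) ∈ zpowers (⟨g * g, hgX⟩ : X1) ⊔
        zpowers (⟨w' e1, hWX _ (hn.coord.mem_w _)⟩ : X1) :=
      hc'.sq_mem_E (x := ⟨x', hx'X⟩) (fun p => Subtype.ext (hx p))
    obtain ⟨i, j, hij⟩ := hc'.mem_E h1
    have hij' : x' * x' = (g * g) ^ i * w' e1 ^ j := congrArg Subtype.val hij
    set m := x' * g * x'⁻¹ * g⁻¹ with hm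
    have hmW : m ∈ W := h.xw hg x' hgQ
    have e1' : m * (x' * x') * (g * g) = 1 := by
      have h2 : g * (x' * x') = (x' * x') * g := h.qcomm hg hgQ hx'2
      have h3 : u * u = 1 := hu
      rw [hux] at h3
      rw [← h3, hm]
      calc x' * g * x'⁻¹ * g⁻¹ * (x' * x') * (g * g)
          = x' * g * x'⁻¹ * g⁻¹ * ((x' * x') * g) * g := by group
        _ = x' * g * x'⁻¹ * g⁻¹ * (g * (x' * x')) * g := by rw [h2]
        _ = x' * g * (x' * g) := by group
    have f2 : (g * g) ^ (i + 1) ∈ W := by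
      have h2 : g * g * w' e1 ^ j = w' e1 ^ j * (g * g) := by
        rw [h.gsq_central hn hg]
      have h3 : m * ((g * g) ^ (i + 1) * w' e1 ^ j) = 1 := by
        rw [← e1', hij', zpow_add_one]
        calc m * ((g * g) ^ i * (g * g) * w' e1 ^ j) = m * (g * g) ^ i * (g * g * w' e1 ^ j) := by
              group
          _ = m * (g * g) ^ i * (w' e1 ^ j * (g * g)) := by rw [h2]
          _ = m * ((g * g) ^ i * w' e1 ^ j) * (g * g) := by group
      have h4 : (g * g) ^ (i + 1) = m⁻¹ * (w' e1 ^ j)⁻¹ := by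
        calc (g * g) ^ (i + 1) = m⁻¹ * (m * ((g * g) ^ (i + 1) * w' e1 ^ j)) * (w' e1 ^ j)⁻¹ := by
              group
          _ = m⁻¹ * (w' e1 ^ j)⁻¹ := by rw [h3, mul_one]
      rw [h4]
      exact W.mul_mem (W.inv_mem hmW) (W.inv_mem (W.zpow_mem (hn.coord.mem_w _) j))
    have f3 : (g * g) ^ (i + 1) = 1 := by
      rw [(Commute.refl g).mul_zpow, ← zpow_add] at f2 ⊢
      exact h.inf8 hn hg f2
    have e4 : m = (w' e1 ^ j)⁻¹ := by
      have h2 : m * ((g * g) ^ (i + 1) * w' e1 ^ j) = 1 := by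
        rw [← e1', hij', zpow_add_one]
        have h2 : g * g * w' e1 ^ j = w' e1 ^ j * (g * g) := by
          rw [h.gsq_central hn hg]
        calc m * ((g * g) ^ i * (g * g) * w' e1 ^ j) = m * (g * g) ^ i * (g * g * w' e1 ^ j) := by
              group
          _ = m * (g * g) ^ i * (w' e1 ^ j * (g * g)) := by rw [h2]
          _ = m * ((g * g) ^ i * w' e1 ^ j) * (g * g) := by group
      rw [f3, one_mul] at h2
      exact eq_inv_of_mul_eq_one_left h2
    have e5 : m = 1 ∨ m = w' e1 := by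
      have h2 : m ∈ zpowers (w' e1) := by
        rw [e4]
        exact inv_mem (zpow_mem (mem_zpowers _) j)
      exact (mem_zpowers_w hn'.coord).1 h2
    have hfix : ∃ v ∈ W, x' * (v * g) = (v * g) * x' := by
      rcases e5 with e5 | e5
      · refine ⟨1, W.one_mem, ?_⟩
        rw [one_mul]
        calc x' * g = m * g * x' := by rw [hm]; group
          _ = g * x' := by rw [e5, one_mul]
      · refine ⟨w' e3, hn'.coord.mem_w _, ?_⟩
        have h2 := hx e3
        rw [mR01_e3] at h2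
        change x' * w' e3 * x'⁻¹ = w' (e1 + e3) at h2
        calc x' * (w' e3 * g) = (x' * w' e3 * x'⁻¹) * (x' * g * x'⁻¹ * g⁻¹) * g * x' := by group
          _ = w' (e1 + e3) * w' e1 * g * x' := by rw [h2, ← hm, e5]
          _ = w' e3 * g * x' := by
              rw [← hn'.coord.mul]
              have h3 : e1 + e3 + e1 = e3 := by decide
              rw [h3]
    obtain ⟨v, hv, hxv⟩ := hfix
    exact hx'Q (no_fix hn hQn h.l.index (fun a ha b hb => h.qcomm hg ha hb) h.hy h.yQ hgQ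
      (h.gC hg).2 (fun x => h.xw hg x hgQ) hgc hx'2 hv hxv)
  refine ⟨g * g, Q.mul_mem hgQ hgQ, fun h0 => hg2 ?_, hz2, h.gsq_central hn hg, fun u hu => ?_⟩
  · have h1 : g ^ (2 : ℤ) = g * g := by rw [zpow_ofNat, pow_two]
    rw [← h1] at h0 ⊢
    exact h.inf8 hn hg h0
  · obtain ⟨v, hv, k, hk⟩ := h.dec hg (key u hu)
    obtain ⟨k', hk'⟩ := h.sq_of_mem hn hg (key u hu)
    have h1 : g ^ k * g ^ k = 1 := by
      have h2 : g ^ k * v = v * g ^ k := h.cent (Q.zpow_mem hgQ k) hv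
      have h3 : u * u = g ^ k * g ^ k := by
        rw [hk]
        calc v * g ^ k * (v * g ^ k) = v * (g ^ k * v) * g ^ k := by group
          _ = (v * v) * (g ^ k * g ^ k) := by rw [h2]; group
          _ = g ^ k * g ^ k := by rw [h.w2 v hv, one_mul]
      rw [← h3, hu]
    obtain ⟨l, rfl⟩ := even_of_zpow hN hg2 h1
    have h4 : g ^ (l + l) = (g * g) ^ l := by rw [zpow_add, (Commute.refl g).mul_zpow]
    rw [h4] at hk
    rcases Int.even_or_odd' l with ⟨r, rfl | rfl⟩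
    · left
      rw [hk, zpow_mul, zpow_ofNat, pow_two, hz2, one_zpow, mul_one]
      exact hv
    · right
      rw [hk, mul_assoc, ← zpow_add_one]
      have h5 : 2 * r + 1 + 1 = 2 * (r + 1) := by ring
      rw [h5, zpow_mul, zpow_ofNat, pow_two, hz2, one_zpow, mul_one]
      exact hv

end Hyp

/-- Statement ONE for `|W| = 8`. -/
theorem one8 [Finite X] (hr : R4 X) {Q W : Subgroup X} {y : X} (h : Hyp Q W y)
    (h8 : Nat.card W = 8) : Q = W ∨ Two Q W ∨ Three Q W := by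
  obtain ⟨w, hw⟩ := exists_coord h.w2 h8
  have hn := natMod_of h.l h.wn h.wq hw h.hy h.ne
  have hinf : W ⊓ Hyp.C Q y = ⊥ := by
    rw [eq_bot_iff]
    intro v hv
    exact mem_bot.2 (NatFix hn h.hy h.yQ hv.1 (Hyp.mem_C.1 hv.2).2)
  have hc : 8 * Nat.card (W ⊓ Hyp.C Q y : Subgroup X) ≤ Nat.card W := by
    rw [hinf, card_bot, h8]
  obtain ⟨g, hg⟩ := h.exists_gen hr hc
  by_cases hgc : ∀ x, x * g = g * x
  · rcases h.caseS hn hg hr hgc with h1 | h1
    · exact Or.inl h1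
    · exact Or.inr (Or.inl h1)
  · right
    by_cases hg2 : g * g = 1
    · right
      refine h.caseN2 hn hg hr hgc hg2 ?_
      have h1 := h.card_sup hc (A := zpowers g) (by rw [hg])
      have h2 : W ⊔ zpowers g ≤ Q := sup_le h.wq (by rw [← hg]; exact inf_le_left)
      exact h1.trans (Nat.card_le_card_of_injective _ (inclusion_injective h2))
    · exact Or.inl (h.caseN4 hn hg hr hgc hg2)

end Cfsg.Agent.GH.C2ThreeOne
end

-- part: GH/C2ThreeOneG
section
/-!
# GH-C2 (T3), statement ONE: the case `|W| = 16`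
-/

set_option autoImplicit false
set_option maxHeartbeats 800000
set_option linter.unusedSectionVars false
set_option linter.unusedVariables false

namespace Cfsg.Agent.GH.C2ThreeOne

open Subgroup Cfsg.Agent.TwoFusion.SectionalRank Cfsg.Agent.GH.C2Base Cfsg.Agent.GH.C2Five
open Cfsg.Agent.GH.C2ThreeNat Cfsg.Agent.GH.C2ThreeK0

variable {X : Type*} [Group X]

/-! ### moving an element by central elements -/

/-- `a e a⁻¹ = e r` with `r` central -/
def Mv (e a r : X) : Prop := (∀ x, x * r = r * x) ∧ a * e = e * r * a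

theorem Mv.mul {e a b r s : X} (h1 : Mv e a r) (h2 : Mv e b s) : Mv e (a * b) (r * s) := by
  refine ⟨fun x => ?_, ?_⟩
  · rw [← mul_assoc, h1.1, mul_assoc, h2.1, ← mul_assoc]
  · calc a * b * e = a * (b * e) := by group
      _ = (a * e) * s * b := by rw [h2.2]; group
      _ = e * r * (a * s) * b := by rw [h1.2]; group
      _ = e * (r * s) * (a * b) := by rw [h2.1 a]; group

theorem Mv.inv {e a r : X} (h1 : Mv e a r) : Mv e a⁻¹ r⁻¹ := by
  have hc : ∀ x, x * r⁻¹ = r⁻¹ * x := fun x => by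
    calc x * r⁻¹ = r⁻¹ * (r * x) * r⁻¹ := by group
      _ = r⁻¹ * (x * r) * r⁻¹ := by rw [h1.1]
      _ = r⁻¹ * x := by group
  refine ⟨hc, ?_⟩
  calc a⁻¹ * e = a⁻¹ * e * r * a * (a⁻¹ * r⁻¹) := by group
    _ = a⁻¹ * (a * e) * (a⁻¹ * r⁻¹) := by rw [h1.2]; group
    _ = e * (a⁻¹ * r⁻¹) := by group
    _ = e * r⁻¹ * a⁻¹ := by rw [hc]; group

theorem Mv.comm {e a b r s : X} (h1 : Mv e a r) (h2 : Mv e b s) :
    (a * b * a⁻¹ * b⁻¹) * e = e * (a * b * a⁻¹ * b⁻¹) := by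
  have h3 := ((h1.mul h2).mul h1.inv).mul h2.inv
  have h4 : r * s * r⁻¹ * s⁻¹ = 1 := by
    rw [h1.1 s |>.symm]
    group
  have h5 := h3.2
  rw [h4, mul_one] at h5
  exact h5

/-! ### matrices fixing `e1` -/

def PF (n : M3) : Prop := IsBas n ∧ n.1 = e1

instance (n : M3) : Decidable (PF n) := by unfold PF; infer_instance

theorem fix_e1_aux : ∀ n : M3, ¬ PF n ∨ ∃ i j : ZMod 2, ∃ k : Fin 3, ∃ l : Fin 2,
    n = cmp (mR i j) (cmp (pw md k) (pw mt l)) := by
  decide +kernel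

theorem mR_fix_aux : ∀ p : T3, ¬ lin (mR 0 1) p = p ∨ (p = 0 ∨ p = e1) ∨
    (IsBas (p, e1, e3) ∧ cmp (mR 0 1) (p, e1, e3) = cmp (p, e1, e3) mt) := by
  decide +kernel

theorem md_comm_mat (i j : ZMod 2) :
    cmp (cmp (cmp md (mR (i + j) i)) (cmp md md)) (mR (i + j) i) = mR i j := by
  revert i j
  decide

theorem mR_inv (i j : ZMod 2) : cmp (mR i j) (mR i j) = idm := by
  revert i j
  decide

/-! ### the set-up -/

/-- `|W| = 16`, `z` central. -/
structure H16 (Q W : Subgroup X) (y z : X) : Prop where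
  h : Hyp Q W y
  card : Nat.card W = 16
  zW : z ∈ W
  z1 : z ≠ 1
  zc : ∀ x, x * z = z * x
  fix : ∀ v ∈ W, y * v = v * y → v = 1 ∨ v = z

namespace H16

variable {Q W : Subgroup X} {y z : X} (H : H16 Q W y z)

include H

theorem zz : z * z = 1 := H.h.w2 z H.zW

theorem nz : (zpowers z).Normal := normal_of_central H.zc

theorem mem_z {x : X} : x ∈ zpowers z ↔ x = 1 ∨ x = z := by
  constructor
  · intro hx
    obtain ⟨k, rfl⟩ := mem_zpowers_iff.1 hx
    have h2 : z ^ (2 : ℤ) = 1 := by rw [zpow_ofNat, pow_two, H.zz]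
    rcases Int.even_or_odd' k with ⟨l, rfl | rfl⟩
    · left
      rw [zpow_mul, h2, one_zpow]
    · right
      rw [zpow_add, zpow_mul, h2, one_zpow, one_mul, zpow_one]
  · rintro (rfl | rfl)
    · exact one_mem _
    · exact mem_zpowers _

theorem card_zp : Nat.card (zpowers z) = 2 := by
  rw [Nat.card_zpowers]
  exact orderOf_eq_prime (by rw [pow_two, H.zz]) H.z1

theorem zle : zpowers z ≤ W := by
  rw [zpowers_le]
  exact H.zW

/-- The image of `a ↦ [y, a]`. -/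
theorem exists_U [Finite X] : ∃ U : Subgroup X, U ≤ W ∧ z ∉ U ∧ Nat.card W = 2 * Nat.card U ∧
    (∀ u ∈ U, y * u * y⁻¹ ∈ U) ∧ ∃ u ∈ U, y * u ≠ u * y := by
  have hWn := H.h.wn
  let φ : W →* X := MonoidHom.mk' (fun a => y * a * y⁻¹ * (a : X)⁻¹) (by
    intro a b
    have ha : y * a * y⁻¹ ∈ W := hWn.conj_mem _ a.2 y
    have hb : y * b * y⁻¹ ∈ W := hWn.conj_mem _ b.2 y
    have h1 : (y * b * y⁻¹ * (b : X)⁻¹) * (a : X)⁻¹ = (a : X)⁻¹ * (y * b * y⁻¹ * (b : X)⁻¹) :=
      H.h.wcomm (W.mul_mem hb (W.inv_mem b.2)) (W.inv_mem a.2)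
    show y * ((a * b : W) : X) * y⁻¹ * ((a * b : W) : X)⁻¹ = _
    rw [Subgroup.coe_mul]
    calc y * (a * b) * y⁻¹ * ((a : X) * b)⁻¹ = (y * a * y⁻¹) * ((y * b * y⁻¹ * (b : X)⁻¹) * (a : X)⁻¹) := by
          group
      _ = (y * a * y⁻¹ * (a : X)⁻¹) * (y * b * y⁻¹ * (b : X)⁻¹) := by rw [h1]; group)
  have hφ : ∀ a : W, φ a = y * a * y⁻¹ * (a : X)⁻¹ := fun a => rfl
  have hW : φ.range ≤ W := by
    rintro _ ⟨a, rfl⟩
    rw [hφ]
    exact W.mul_mem (hWn.conj_mem _ a.2 y) (W.inv_mem a.2)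
  have hker : φ.ker = zpowers (⟨z, H.zW⟩ : W) := by
    ext a
    rw [MonoidHom.mem_ker, hφ]
    constructor
    · intro ha
      have h1 : y * a = a * y := by
        calc y * (a : X) = (y * a * y⁻¹ * (a : X)⁻¹) * (a * y) := by group
          _ = a * y := by rw [ha, one_mul]
      rcases H.fix a a.2 h1 with h2 | h2
      · have : a = 1 := Subtype.ext h2
        rw [this]
        exact one_mem _
      · have : a = ⟨z, H.zW⟩ := Subtype.ext h2
        rw [this]
        exact mem_zpowers _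
    · intro ha
      obtain ⟨k, rfl⟩ := mem_zpowers_iff.1 ha
      have h1 : ((⟨z, H.zW⟩ ^ k : W) : X) = z ^ k := rfl
      rw [h1]
      have h2 : y * z ^ k = z ^ k * y := (show Commute y z from H.zc y).zpow_right k
      rw [h2]
      group
  have hck : Nat.card φ.ker = 2 := by
    rw [hker, Nat.card_zpowers]
    refine orderOf_eq_prime (Subtype.ext ?_) (fun h0 => H.z1 (congrArg Subtype.val h0))
    show z ^ 2 = 1
    rw [pow_two, H.zz]
  have hcr : Nat.card W = 2 * Nat.card φ.range := by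
    have h1 := card_mul_index φ.ker
    rw [hck, index_ker] at h1
    exact h1.symm
  have hfix : ∀ u ∈ φ.range, y * u = u * y → u = 1 := by
    rintro _ ⟨a, rfl⟩ hu
    exact fix_of_comm H.h.hy (H.h.w2 _ (hW ⟨a, rfl⟩)) hu (hφ a).symm
  refine ⟨φ.range, hW, fun hz => H.z1 (hfix z hz (H.zc y)), hcr, ?_, ?_⟩
  · rintro _ ⟨a, rfl⟩
    refine ⟨⟨y * a * y⁻¹, hWn.conj_mem _ a.2 y⟩, ?_⟩
    rw [hφ, hφ]
    group
  · by_contra hcon
    push Not at hcon
    obtain ⟨v, hv, hv2⟩ := H.h.ne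
    apply hv2
    have h1 := hfix (φ ⟨v, hv⟩) ⟨_, rfl⟩ (hcon _ ⟨_, rfl⟩)
    rw [hφ] at h1
    calc y * v = (y * v * y⁻¹ * v⁻¹) * (v * y) := by group
      _ = v * y := by
          have h2 : y * v * y⁻¹ * v⁻¹ = 1 := h1
          rw [h2, one_mul]

end H16

/-! ### modulo `⟨z⟩` -/

/-- additional data: natural coordinates of `W / ⟨z⟩`. -/
structure N16 (Q W : Subgroup X) (y z : X) {Y : Type*} [Group Y] (π : X →* Y) (w : T3 → Y) :
    Prop extends H16 Q W y z where
  surj : Function.Surjective π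
  ker : π.ker = zpowers z
  nat : NatMod (Q.map π) (W.map π) w

namespace N16

variable {Y : Type*} [Group Y] {Q W : Subgroup X} {y z : X} {π : X →* Y} {w : T3 → Y}
  (N : N16 Q W y z π w)

include N

theorem change {m : M3} (hm : IsBas m) : N16 Q W y z π (fun p => w (lin m p)) :=
  ⟨N.toH16, N.surj, N.ker, N.nat.change hm⟩

theorem eq_or {a b : X} (hab : π a = π b) : a = b ∨ a = b * z := by
  have h1 : b⁻¹ * a ∈ zpowers z := by
    rw [← N.ker, MonoidHom.mem_ker, map_mul, map_inv, hab, inv_mul_cancel]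
  rcases N.mem_z.1 h1 with h2 | h2
  · left
    exact (inv_mul_eq_one.1 h2).symm
  · right
    rw [← h2]
    group

theorem memQ {x : X} : x ∈ Q ↔ π x ∈ Q.map π := by
  constructor
  · intro hx
    exact ⟨x, hx, rfl⟩
  · rintro ⟨q, hq, hqx⟩
    rcases N.eq_or hqx.symm with h1 | h1
    · rw [h1]
      exact hq
    · rw [h1]
      exact Q.mul_mem hq (N.h.wq N.zW)

theorem lift (p : T3) : ∃ e ∈ W, π e = w p := by
  obtain ⟨e, he, h1⟩ := N.nat.coord.mem_w p
  exact ⟨e, he, h1⟩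

theorem central_z (x : X) : x * z = z * x := N.zc x

/-- If `x` fixes `π e`, then it moves `e` by a central element. -/
theorem mv {e x : X} (hx : π x * π e = π e * π x) : Mv e x 1 ∨ Mv e x z := by
  have h1 : π (x * e * x⁻¹) = π e := by
    rw [map_mul, map_mul, map_inv, hx]
    group
  rcases N.eq_or h1 with h2 | h2
  · left
    refine ⟨fun a => by rw [mul_one, one_mul], ?_⟩
    calc x * e = (x * e * x⁻¹) * x := by group
      _ = e * 1 * x := by rw [h2, mul_one]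
  · right
    refine ⟨N.zc, ?_⟩
    calc x * e = (x * e * x⁻¹) * x := by group
      _ = e * z * x := by rw [h2]

theorem mv' {e x : X} (hx : π x * π e = π e * π x) : ∃ r, Mv e x r := by
  rcases N.mv hx with h1 | h1
  · exact ⟨_, h1⟩
  · exact ⟨_, h1⟩

/-- elements of order 3 -/
theorem ed {e d : X} (hd : d ^ 3 = 1) (hde : π d * π e = π e * π d) : d * e = e * d := by
  rcases N.mv hde with h1 | h1
  · have := h1.2
    rwa [mul_one] at this
  · exfalso
    have h2 := ((h1.mul h1).mul h1).2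
    have h3 : d * d * d = 1 := by rw [← hd, pow_succ, pow_two]
    rw [h3, one_mul, mul_one] at h2
    apply N.z1
    have h4 : z * z * z = 1 := by
      have h5 : e * 1 = e * (z * z * z) := by rw [mul_one]; exact h2
      exact (mul_left_cancel h5).symm
    rwa [N.zz, one_mul] at h4

/-- `(*)₁` -/
theorem eR {e x : X} (heW : e ∈ W) (he : π e = w e1) {i j : ZMod 2}
    (hx : Acts w (π x) (mR i j)) [Finite X] : x * e = e * x := by
  obtain ⟨d', hd'⟩ := N.nat.real md md_bas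
  obtain ⟨d, rfl⟩ := N.surj d'
  obtain ⟨a', ha'⟩ := N.nat.real (mR (i + j) i) (mR_bas _ _)
  obtain ⟨a, rfl⟩ := N.surj a'
  have hde : π d * π e = π e * π d := by
    rw [he, hd'.comm_iff N.nat.coord]
    exact md_e1
  have hae : π a * π e = π e * π a := by
    rw [he, ha'.comm_iff N.nat.coord]
    exact mR_e1 _ _
  obtain ⟨r, hr⟩ := N.mv' hde
  obtain ⟨s, hs⟩ := N.mv' hae
  have h1 := hr.comm hs
  have hc : Acts w (π (d * a * d⁻¹ * a⁻¹)) (mR i j) := by
    have h2 := (((hd'.mul ha').mul (hd'.inv md_cube)).mul (ha'.inv (mR_inv _ _)))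
    rw [md_comm_mat] at h2
    rwa [map_mul, map_mul, map_mul, map_inv, map_inv]
  have h3 := N.nat.same hx hc
  rw [← map_inv, ← map_mul, ← N.memQ] at h3
  have h4 := N.h.cent h3 heW
  generalize d * a * d⁻¹ * a⁻¹ = c at h1 h4
  calc x * e = (x * c⁻¹) * (c * e) := by group
    _ = (x * c⁻¹ * e) * c := by rw [h1]; group
    _ = e * x := by rw [h4]; group

/-- nonsplitness: `W` is not the direct product of `⟨z⟩` and a normal subgroup. -/
theorem nonsplit [Finite X] {m : X} (hmW : m ∈ W) (hm1 : π m ≠ 1)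
    (hm : ∀ x, π x * π m = π m * π x → x * m = m * x) : False := by
  have hWn := N.h.wn
  obtain ⟨U, hUW, hzU, hcU, hUy, hUne⟩ := N.exists_U
  have hmem : ∀ v ∈ W, v ∈ U ∨ z⁻¹ * v ∈ U := fun v hv =>
    mem_or_of_card hUW N.zW hzU hcU hv
  have hy7 : (π y) ^ 7 = 1 := by rw [← map_pow, N.h.hy, map_one]
  have hyQ : π y ∉ Q.map π := fun h0 => N.h.yQ (N.memQ.2 h0)
  obtain ⟨p, hp⟩ : ∃ p, w p = π m := (N.nat.coord.mem _).1 ⟨m, hmW, rfl⟩
  have hp0 : p ≠ 0 := by
    rintro rfl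
    exact hm1 (by rw [← hp, N.nat.coord.zero])
  -- uniqueness of the representative in `U`
  have huniq : ∀ u ∈ U, ∀ u' ∈ U, π u = π u' → u = u' := by
    intro u hu u' hu' h1
    rcases N.eq_or h1 with h2 | h2
    · exact h2
    · exfalso
      apply hzU
      have h3 : z = u'⁻¹ * u := by rw [h2]; group
      rw [h3]
      exact U.mul_mem (U.inv_mem hu') hu
  have hUyn : ∀ n : ℕ, ∀ u ∈ U, y ^ n * u * (y ^ n)⁻¹ ∈ U := by
    intro n
    induction n with
    | zero =>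
      intro u hu
      simpa using hu
    | succ n ih =>
      intro u hu
      have h1 := hUy _ (ih u hu)
      have h2 : y ^ (n + 1) * u * (y ^ (n + 1))⁻¹ = y * (y ^ n * u * (y ^ n)⁻¹) * y⁻¹ := by
        rw [pow_succ']
        group
      rwa [h2]
  -- `m = u0 s`
  obtain ⟨u0, hu0, s, hs, hs1, hms⟩ : ∃ u0 ∈ U, ∃ s, (∀ x, x * s = s * x) ∧ π s = 1 ∧
      m = u0 * s := by
    have hπz : π z = 1 := by
      rw [← MonoidHom.mem_ker, N.ker]
      exact mem_zpowers z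
    rcases hmem m hmW with h1 | h1
    · exact ⟨m, h1, 1, fun x => by rw [mul_one, one_mul], map_one π, (mul_one m).symm⟩
    · refine ⟨_, h1, z, N.zc, hπz, ?_⟩
      rw [mul_assoc, N.zc m]
      group
  have hπu0 : π u0 = w p := by
    rw [hp, hms, map_mul, hs1, mul_one]
  have hUn : U.Normal := by
    refine ⟨fun u hu x => ?_⟩
    by_cases hu1 : π u = 1
    · have h1 : u = 1 := huniq u hu 1 U.one_mem (by rw [hu1, map_one])
      rw [h1, mul_one, mul_inv_cancel]
      exact U.one_mem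
    obtain ⟨q, hq⟩ : ∃ q, w q = π u := (N.nat.coord.mem _).1 ⟨u, hUW hu, rfl⟩
    have hq0 : q ≠ 0 := by
      rintro rfl
      exact hu1 (by rw [← hq, N.nat.coord.zero])
    obtain ⟨j, hj⟩ := NatTrans N.nat hy7 hyQ hp0 hq0
    have hu2 : u = y ^ j * u0 * (y ^ j)⁻¹ := by
      refine huniq _ hu _ (hUyn j u0 hu0) ?_
      rw [map_mul, map_mul, map_inv, map_pow, hπu0, hj, hq]
    set b := x * y ^ j with hb
    have hxu : x * u * x⁻¹ = b * u0 * b⁻¹ := by
      rw [hu2, hb]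
      group
    obtain ⟨q', hq'⟩ : ∃ q', w q' = π (b * m * b⁻¹) :=
      (N.nat.coord.mem _).1 ⟨_, hWn.conj_mem _ hmW b, rfl⟩
    have hq'0 : q' ≠ 0 := by
      rintro rfl
      apply hm1
      rw [N.nat.coord.zero, map_mul, map_mul, map_inv] at hq'
      have h1 : π m = (π b)⁻¹ * (π b * π m * (π b)⁻¹) * π b := by group
      rw [h1, ← hq']
      group
    obtain ⟨l, hl⟩ := NatTrans N.nat hy7 hyQ hp0 hq'0
    rw [hq', hp, map_mul, map_mul, map_inv] at hl
    have h2 : π ((y ^ l)⁻¹ * b) * π m = π m * π ((y ^ l)⁻¹ * b) := by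
      rw [map_mul, map_inv, map_pow]
      calc (π y ^ l)⁻¹ * π b * π m = (π y ^ l)⁻¹ * (π b * π m * (π b)⁻¹) * π b := by group
        _ = π m * ((π y ^ l)⁻¹ * π b) := by rw [← hl]; group
    have h3 := hm _ h2
    have h4 : b * m * b⁻¹ = y ^ l * m * (y ^ l)⁻¹ := by
      calc b * m * b⁻¹ = y ^ l * (((y ^ l)⁻¹ * b) * m) * b⁻¹ := by group
        _ = y ^ l * m * (y ^ l)⁻¹ := by rw [h3]; group
    have h5 : b * u0 * b⁻¹ = y ^ l * u0 * (y ^ l)⁻¹ := by
      have h6 : ∀ c : X, c * u0 * c⁻¹ * s = c * m * c⁻¹ := by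
        intro c
        rw [hms]
        calc c * u0 * c⁻¹ * s = c * u0 * (c⁻¹ * s) := by group
          _ = c * (u0 * s) * c⁻¹ := by rw [hs]; group
      apply mul_right_cancel (b := s)
      rw [h6, h6, h4]
    rw [hxu, h5]
    exact hUyn l u0 hu0
  have hlt : U < W := lt_of_le_of_ne hUW (fun h0 => hzU (h0 ▸ N.zW))
  obtain ⟨u, hu, hu2⟩ := hUne
  exact hu2 (N.h.min U hUn hlt u hu)

/-- `(*)₂` -/
theorem star2 [Finite X] {x m : X} (hx : Acts w (π x) (mR 0 1)) (hmW : m ∈ W)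
    (hxm : x * m = m * x) : π m = 1 ∨ π m = w e1 := by
  have hY : Finite Y := Finite.of_surjective π N.surj
  obtain ⟨p, hp⟩ : ∃ p, w p = π m := (N.nat.coord.mem _).1 ⟨m, hmW, rfl⟩
  have hfix : lin (mR 0 1) p = p := by
    rw [← hx.comm_iff N.nat.coord, hp, ← map_mul, hxm, map_mul]
  rcases mR_fix_aux p with h1 | (h1 | h1) | ⟨hb, hmt⟩
  · exact absurd hfix h1
  · left
    rw [← hp, h1, N.nat.coord.zero]
  · right
    rw [← hp, h1]
  exfalso
  have hm1 : π m ≠ 1 := by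
    intro h0
    have h1 : p = 0 := N.nat.coord.inj p (by rw [hp, h0])
    exact hb.1 h1
  have N' := N.change hb
  have hx' : Acts (fun q => w (lin (p, e1, e3) q)) (π x) mt := by
    intro q
    show π x * w (lin (p, e1, e3) q) * (π x)⁻¹ = w (lin (p, e1, e3) (lin mt q))
    rw [hx, ← lin_cmp, hmt, lin_cmp]
  have hw1 : w (lin (p, e1, e3) e1) = π m := by
    rw [lin_e1, hp]
  generalize hww : (fun q => w (lin (p, e1, e3) q)) = w' at N' hx'
  have hw1' : π m = w' e1 := by rw [← hww]; exact hw1.symm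
  have hQ2 : IsPGroup 2 (Q.map π) := N.h.l.two.map π
  obtain ⟨d0, hd03, hd0⟩ := N'.nat.exists_ord3 hQ2 md_bas md_cube
  obtain ⟨d, hd3, rfl⟩ := lift_ord3 π N.surj (by
    rw [N.ker]
    exact N.h.l.two.to_le (N.zle.trans N.h.wq)) hd03
  have hdm : d * m = m * d := by
    refine N'.ed hd3 ?_
    rw [hw1', hd0.comm_iff N'.nat.coord]
    exact md_e1
  refine N'.nonsplit hmW hm1 (fun x' hx'm => ?_)
  obtain ⟨n, hn, hn2⟩ := N'.nat.acts (π x')
  have hn1 : n.1 = e1 := by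
    rw [hw1', hn2.comm_iff N'.nat.coord, lin_e1] at hx'm
    exact hx'm
  obtain ⟨i, j, k, l, hijkl⟩ := (fix_e1_aux n).resolve_left (not_not.2 ⟨hn, hn1⟩)
  obtain ⟨r', hr'⟩ := N'.nat.real (mR i j) (mR_bas _ _)
  obtain ⟨r, rfl⟩ := N.surj r'
  have hrm := N'.eR hmW hw1' hr'
  have hc : Acts w' (π (r * (d ^ (k : ℕ) * x ^ (l : ℕ)))) n := by
    rw [map_mul, map_mul, map_pow, map_pow, hijkl]
    exact hr'.mul ((acts_pow hd0 _).mul (acts_pow hx' _))
  have h3 := N'.nat.same hn2 hc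
  rw [← map_inv, ← map_mul, ← N.memQ] at h3
  have h4 := N.h.cent h3 hmW
  have h5 : (r * (d ^ (k : ℕ) * x ^ (l : ℕ))) * m = m * (r * (d ^ (k : ℕ) * x ^ (l : ℕ))) :=
    (show Commute r m from hrm).mul_left
      (((show Commute d m from hdm).pow_left _).mul_left ((show Commute x m from hxm).pow_left _))
  generalize r * (d ^ (k : ℕ) * x ^ (l : ℕ)) = c at h3 h4 h5
  calc x' * m = (x' * c⁻¹) * (c * m) := by group
    _ = (x' * c⁻¹ * m) * c := by rw [h5]; group
    _ = m * x' := by rw [h4]; group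

/-- the generator of `C_Q(y)` is central. -/
theorem gcen [Finite X] {g : X} (hg : Hyp.C Q y = zpowers g) : ∀ x, x * g = g * x := by
  have hY : Finite Y := Finite.of_surjective π N.surj
  have hQn := N.h.l.normal
  have hkQ : π.ker ≤ Q := by
    rw [N.ker]
    exact N.zle.trans N.h.wq
  have hgQ := (N.h.gC hg).1
  have hya := (N.h.gC hg).2
  have hQ' : (Q.map π).Normal := hQn.map π N.surj
  have hidx : (Q.map π).index = 168 := by
    rw [index_map_eq _ N.surj hkQ, N.h.l.index]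
  have hQc : ∀ a ∈ Q.map π, ∀ b ∈ Q.map π, a * b = b * a := by
    rintro _ ⟨a, ha, rfl⟩ _ ⟨b, hb, rfl⟩
    rw [← map_mul, ← map_mul, N.h.qcomm hg ha hb]
  have hy7 : (π y) ^ 7 = 1 := by rw [← map_pow, N.h.hy, map_one]
  have hyQ : π y ∉ Q.map π := fun h0 => N.h.yQ (N.memQ.2 h0)
  have haQ : π g ∈ Q.map π := ⟨g, hgQ, rfl⟩
  have hya' : π y * π g = π g * π y := by rw [← map_mul, hya, map_mul]
  have hxa : ∀ x, x * π g * x⁻¹ * (π g)⁻¹ ∈ W.map π := by
    intro x
    obtain ⟨x, rfl⟩ := N.surj x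
    refine ⟨_, N.h.xw hg x hgQ, ?_⟩
    rw [map_mul, map_mul, map_mul, map_inv, map_inv]
  -- `g` is central modulo `z`
  have hcen : ∀ x, x * π g = π g * x := by
    by_contra hne
    obtain ⟨x', hx⟩ := N.nat.real (mR 0 1) (mR_bas 0 1)
    obtain ⟨x, rfl⟩ := N.surj x'
    have hxx : x * x ∈ Q := by
      rw [N.memQ, map_mul, N.nat.mem_iff (hx.mul hx)]
      decide
    have hxQ : π x ∉ Q.map π := by
      rw [N.nat.mem_iff hx]
      decide
    set m := x * g * x⁻¹ * g⁻¹ with hm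
    have hmW : m ∈ W := N.h.xw hg x hgQ
    have hxm : x * m = m * x := by
      have h1 : x * x * g = g * (x * x) := N.h.qcomm hg hxx hgQ
      have h2 : (x * m * x⁻¹) * m = 1 := by
        calc (x * m * x⁻¹) * m = x * (x * g * x⁻¹ * g⁻¹) * x⁻¹ * (x * g * x⁻¹ * g⁻¹) := by rw [hm]
          _ = (x * x * g) * (x * x)⁻¹ * g⁻¹ := by group
          _ = 1 := by rw [h1]; group
      have h3 : x * m * x⁻¹ = m := by
        rw [mul_eq_one_iff_eq_inv.1 h2, N.h.winv hmW]
      calc x * m = (x * m * x⁻¹) * x := by group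
        _ = m * x := by rw [h3]
    have hfix : ∃ v ∈ W.map π, π x * (v * π g) = (v * π g) * π x := by
      have hxg : π x * π g * (π x)⁻¹ = π m * π g := by
        rw [hm]
        simp only [map_mul, map_inv]
        group
      rcases N.star2 hx hmW hxm with h1 | h1
      · refine ⟨1, one_mem _, ?_⟩
        rw [one_mul]
        calc π x * π g = (π x * π g * (π x)⁻¹) * π x := by group
          _ = π g * π x := by rw [hxg, h1, one_mul]
      · refine ⟨w e3, N.nat.coord.mem_w _, ?_⟩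
        have h2 := hx e3
        have h0 : lin (mR 0 1) e3 = e1 + e3 := by decide
        rw [h0] at h2
        change π x * w e3 * (π x)⁻¹ = w (e1 + e3) at h2
        show π x * (w e3 * π g) = (w e3 * π g) * π x
        calc π x * (w e3 * π g) = (π x * w e3 * (π x)⁻¹) * (π x * π g * (π x)⁻¹) * π x := by group
          _ = w (e1 + e3) * w e1 * π g * π x := by rw [h2, hxg, h1]; group
          _ = w e3 * π g * π x := by
              rw [← N.nat.coord.mul]
              have h3 : e1 + e3 + e1 = e3 := by decide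
              rw [h3]
    obtain ⟨v, hv, hxv⟩ := hfix
    exact hxQ (no_fix N.nat hQ' hidx hQc hy7 hyQ haQ hya' hxa hne ⟨x * x, hxx, map_mul π x x⟩ hv hxv)
  -- `C_X(g)` is normal
  have hmv : ∀ x, ∃ r, Mv g x r := fun x => N.mv' (hcen (π x))
  have hCn : (centralizer ({g} : Set X)).Normal := by
    refine ⟨fun c hc x => ?_⟩
    rw [mem_centralizer_singleton_iff] at hc ⊢
    obtain ⟨r, hr⟩ := hmv x
    have h1 : Mv g c 1 := ⟨fun x => by rw [mul_one, one_mul], by rw [mul_one]; exact hc⟩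
    have h2 := ((hr.mul h1).mul hr.inv).2
    have h3 : r * 1 * r⁻¹ = 1 := by group
    rw [h3, mul_one] at h2
    exact h2
  have htop := N.h.top hCn (fun q hq => by
    rw [mem_centralizer_singleton_iff]
    exact N.h.qcomm hg hq hgQ) (by
    rw [mem_centralizer_singleton_iff]
    exact hya)
  intro x
  have h1 : x ∈ centralizer ({g} : Set X) := htop ▸ mem_top x
  rwa [mem_centralizer_singleton_iff] at h1

end N16

end Cfsg.Agent.GH.C2ThreeOne
end

-- part: GH/C2ThreeOneH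
section
/-!
# GH-C2 (T3), statement ONE: the case `|W| = 16`, end
-/

set_option autoImplicit false
set_option maxHeartbeats 800000
set_option linter.unusedSectionVars false
set_option linter.unusedVariables false

namespace Cfsg.Agent.GH.C2ThreeOne

open Subgroup Cfsg.Agent.TwoFusion.SectionalRank Cfsg.Agent.GH.C2Base Cfsg.Agent.GH.C2Five
open Cfsg.Agent.GH.C2ThreeNat Cfsg.Agent.GH.C2ThreeK0

variable {X : Type*} [Group X]

/-- The general kill: `g` central with `g² ≠ 1`. -/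
theorem kill4 [Finite X] {Y : Type*} [Group Y] [Finite Y] (hr : R4 X) {Q : Subgroup X}
    {π : X →* Y} {w : T3 → Y} {e g : X} (hs : SS Q π w e) (hk : π.ker = zpowers g)
    (hgc : ∀ x, x * g = g * x) (hgQ : g ∈ Q) (hee : e * e = 1)
    (hab : ∀ a ∈ Q, ∀ b ∈ Q, a * b = b * a) (hsq : ∀ q ∈ Q, q * q ∈ zpowers (g * g))
    (hcomm : ∀ (x : X) (i j : ZMod 2), Acts w (π x) (mR i j) → ∀ q ∈ Q,
      x * q * x⁻¹ * q⁻¹ ∈ zpowers (g * g) ⊔ zpowers e)
    (hcard : 8 * Nat.card (zpowers g) ≤ Nat.card Q) (hg2 : g * g ≠ 1) : False := by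
  have hg1 : g ≠ 1 := fun h0 => hg2 (by rw [h0, mul_one])
  obtain ⟨n, hn⟩ := exists_pow_of_mem hs.two hgQ
  have hN : (zpowers g).Normal := normal_of_central hgc
  have hN2 : (zpowers (g * g)).Normal := normal_of_central (central_sq hgc)
  set D : Subgroup X := zpowers (g * g) ⊔ zpowers e with hD
  have heQ := hs.e_mem
  have hDQ : D ≤ Q := by
    refine sup_le ?_ ?_
    · rw [zpowers_le]
      exact Q.mul_mem hgQ hgQ
    · rw [zpowers_le]
      exact heQ
  have hsec : ElemSection 2 Q D := by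
    refine ⟨hDQ, fun a ha b hb => ?_, fun a ha => ?_⟩
    · have h1 : a * b * a⁻¹ * b⁻¹ = 1 := by
        rw [hab a ha b hb]
        group
      rw [h1]
      exact one_mem _
    · rw [pow_two]
      exact mem_sup_left (hsq a ha)
  have hcD : 8 * Nat.card D ≤ Nat.card Q := by
    have h1 := two_mul_card_sq hn hg1
    have h3 := card_sup_le (zpowers (g * g)) (zpowers e)
    have h4 := card_zpowers_le_two hee
    have h5 : Nat.card (zpowers e) * Nat.card (zpowers (g * g)) ≤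
        2 * Nat.card (zpowers (g * g)) := Nat.mul_le_mul_right _ h4
    rw [← hD] at h3
    omega
  have hE : ∀ a ∈ zpowers g ⊔ zpowers e, ∃ i j : ℤ, a = g ^ i * e ^ j := by
    intro a ha
    obtain ⟨b, hb, c, hc, rfl⟩ := mem_sup_of_normal_left.1 ha
    obtain ⟨i, rfl⟩ := mem_zpowers_iff.1 hb
    obtain ⟨j, rfl⟩ := mem_zpowers_iff.1 hc
    exact ⟨i, j, rfl⟩
  have hEsq : ∀ i j : ℤ, (g ^ i * e ^ j) * (g ^ i * e ^ j) = g ^ i * g ^ i := by
    intro i j
    have h1 : e ^ j * g ^ i = g ^ i * e ^ j := (show Commute (e ^ j) g from hgc _).zpow_right i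
    have h2 : e ^ j * e ^ j = 1 := by
      rw [← (Commute.refl e).mul_zpow, hee, one_zpow]
    calc (g ^ i * e ^ j) * (g ^ i * e ^ j) = g ^ i * (e ^ j * g ^ i) * e ^ j := by group
      _ = g ^ i * g ^ i * (e ^ j * e ^ j) := by rw [h1]; group
      _ = g ^ i * g ^ i := by rw [h2, mul_one]
  have hEsqD : ∀ a ∈ zpowers g ⊔ zpowers e, a * a ∈ D := by
    intro a ha
    obtain ⟨i, j, rfl⟩ := hE a ha
    rw [hEsq, ← (Commute.refl g).mul_zpow]
    exact mem_sup_left (zpow_mem (mem_zpowers _) i)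
  obtain ⟨x', hx'⟩ := hs.nat.real (mR 0 1) (mR_bas 0 1)
  obtain ⟨x, rfl⟩ := hs.surj x'
  obtain ⟨x2, ε, ζ, hx2, h22, hs1, hε, hεE, hζE, hεε, h3⟩ := hs.trip hx'
  rw [hk] at hs1 hεE hζE
  have hεD : ε ∈ D := by
    obtain ⟨i, j, rfl⟩ := hE ε hεE
    rw [hEsq] at hεε
    obtain ⟨k, rfl⟩ := even_of_zpow hn hg2 hεε
    refine mul_mem (mem_sup_left ?_) (mem_sup_right (zpow_mem (mem_zpowers _) j))
    rw [zpow_add, ← (Commute.refl g).mul_zpow]
    exact zpow_mem (mem_zpowers _) k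
  have hsD : x * x ∈ D := by
    have h4 : x * x * (x * x) ∈ D := hEsqD _ hs1
    have h5 : ε * (ζ * ζ) ∈ D := mul_mem hεD (hEsqD _ hζE)
    rw [← h3] at h5
    have h6 := mul_mem (inv_mem h4) h5
    rwa [inv_mul_cancel_left] at h6
  exact hs.kill hr hsec hcD hcomm hx' hx2 hsD (h22 ▸ hsD) (hε ▸ hεD)

namespace N16

variable {Y : Type*} [Group Y] {Q W : Subgroup X} {y z : X} {π : X →* Y} {w : T3 → Y}
  (N : N16 Q W y z π w)

include N

theorem false_of_gen [Finite X] (hr : R4 X) {g : X} (hg : Hyp.C Q y = zpowers g) (hgW : g ∉ W)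
    (hcard : 8 * Nat.card (zpowers g) ≤ Nat.card Q) : False := by
  have hY : Finite Y := Finite.of_surjective π N.surj
  have hgc := N.gcen hg
  have hgQ := (N.h.gC hg).1
  have hab : ∀ a ∈ Q, ∀ b ∈ Q, a * b = b * a := fun a ha b hb => N.h.qcomm hg ha hb
  have hzg : z ∈ zpowers g := by
    rw [← hg]
    exact Hyp.mem_C.2 ⟨N.h.wq N.zW, N.zc y⟩
  obtain ⟨n, hn⟩ := exists_pow_of_mem N.h.l.two hgQ
  have hg2 : g * g ≠ 1 := by
    intro h0
    obtain ⟨k, hk⟩ := mem_zpowers_iff.1 hzg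
    rcases Int.even_or_odd' k with ⟨l, rfl | rfl⟩
    · rw [zpow_mul, zpow_ofNat, pow_two, h0, one_zpow] at hk
      exact N.z1 hk.symm
    · rw [zpow_add_one, zpow_mul, zpow_ofNat, pow_two, h0, one_zpow, one_mul] at hk
      exact hgW (hk ▸ N.zW)
  have hzg2 : z ∈ zpowers (g * g) := by
    obtain ⟨k, hk⟩ := mem_zpowers_iff.1 hzg
    have h1 : g ^ k * g ^ k = 1 := by rw [hk, N.zz]
    obtain ⟨l, rfl⟩ := even_of_zpow hn hg2 h1
    rw [← hk, zpow_add, ← (Commute.refl g).mul_zpow]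
    exact zpow_mem (mem_zpowers _) l
  have hsq : ∀ q ∈ Q, q * q ∈ zpowers (g * g) := by
    intro q hq
    obtain ⟨v, hv, k, rfl⟩ := N.h.dec hg hq
    have h1 : g ^ k * v = v * g ^ k := N.h.cent (Q.zpow_mem hgQ k) hv
    have h2 : v * g ^ k * (v * g ^ k) = (g * g) ^ k := by
      calc v * g ^ k * (v * g ^ k) = v * (g ^ k * v) * g ^ k := by group
        _ = (v * v) * (g ^ k * g ^ k) := by rw [h1]; group
        _ = (g * g) ^ k := by rw [N.h.w2 v hv, one_mul, (Commute.refl g).mul_zpow]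
    rw [h2]
    exact zpow_mem (mem_zpowers _) k
  -- the structure modulo `⟨z⟩`
  have hc : Cen (Q.map π) (W.map π) w (π g) := by
    refine ⟨N.h.l.two.map π, N.nat, ⟨g, hgQ, rfl⟩, fun x => ?_, ?_⟩
    · obtain ⟨x, rfl⟩ := N.surj x
      rw [← map_mul, hgc, map_mul]
    · rintro _ ⟨q, hq, rfl⟩
      obtain ⟨v, hv, k, rfl⟩ := N.h.dec hg hq
      exact ⟨π v, ⟨v, hv, rfl⟩, k, by rw [map_mul, map_zpow]⟩
  have hNY : (zpowers (π g)).Normal := normal_of_central hc.gc
  have hs0 := hc.ss (QuotientGroup.mk'_surjective (zpowers (π g))) (QuotientGroup.ker_mk' _)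
  set ρ := QuotientGroup.mk' (zpowers (π g)) with hρ
  have hk : (ρ.comp π).ker = zpowers g := by
    ext x
    rw [MonoidHom.mem_ker, MonoidHom.comp_apply, hρ, QuotientGroup.mk'_apply,
      QuotientGroup.eq_one_iff]
    constructor
    · intro hx
      obtain ⟨k, hk⟩ := mem_zpowers_iff.1 hx
      rw [← map_zpow] at hk
      rcases N.eq_or hk.symm with h1 | h1
      · rw [h1]
        exact zpow_mem (mem_zpowers _) k
      · rw [h1]
        exact mul_mem (zpow_mem (mem_zpowers _) k) hzg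
    · intro hx
      obtain ⟨k, rfl⟩ := mem_zpowers_iff.1 hx
      rw [map_zpow]
      exact zpow_mem (mem_zpowers _) k
  have hback : ∀ {x : X} {m : M3}, Acts (fun p => ρ (w p)) (ρ (π x)) m → Acts w (π x) m := by
    intro x m hx
    exact acts_of_map hc.nat hs0.surj hs0.zle hs0.zc (fun q hq => by
      obtain ⟨v, hv, k, rfl⟩ := hc.dec q hq
      refine ⟨v, hv, ?_⟩
      rw [hρ, QuotientGroup.ker_mk', inv_mul_cancel_left]
      exact zpow_mem (mem_zpowers _) k) hx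
  obtain ⟨e, heW, he⟩ := N.lift e1
  have hs : SS Q (ρ.comp π) (fun p => ρ (w p)) e := by
    refine ⟨N.h.l.two, hs0.surj.comp N.surj, ?_, ?_, ?_, ?_, ?_, ?_⟩
    · rw [hk, zpowers_le]
      exact hgQ
    · intro a ha x
      rw [hk] at ha
      obtain ⟨k, rfl⟩ := mem_zpowers_iff.1 ha
      exact (show Commute x g from hgc x).zpow_right k
    · rw [← Subgroup.map_map]
      exact hs0.nat
    · show ρ (π e) = ρ (w e1)
      rw [he]
    · intro x i j hx
      exact N.eR heW he (hback hx)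
    · intro d hd3 hd
      refine N.ed hd3 ?_
      rw [he, (hback hd).comm_iff N.nat.coord]
      exact md_e1
  refine kill4 hr hs hk hgc hgQ (N.h.w2 e heW) hab hsq (fun x i j hx q hq => ?_) hcard hg2
  have hx' := hback hx
  obtain ⟨v, hv, k, rfl⟩ := N.h.dec hg hq
  have h1 : x * g ^ k = g ^ k * x := (show Commute x g from hgc x).zpow_right k
  have h2 : x * (v * g ^ k) * x⁻¹ * (v * g ^ k)⁻¹ = x * v * x⁻¹ * v⁻¹ := by
    calc x * (v * g ^ k) * x⁻¹ * (v * g ^ k)⁻¹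
        = x * v * x⁻¹ * (x * g ^ k) * x⁻¹ * (g ^ k)⁻¹ * v⁻¹ := by group
      _ = x * v * x⁻¹ * v⁻¹ := by rw [h1]; group
  rw [h2]
  obtain ⟨p, hp⟩ : ∃ p, w p = π v := (N.nat.coord.mem _).1 ⟨v, hv, rfl⟩
  have h3 : π (x * v * x⁻¹ * v⁻¹) = w (lin (mR i j) p + p) := by
    rw [map_mul, map_mul, map_mul, map_inv, map_inv, ← hp, hx', N.nat.coord.inv, N.nat.coord.mul]
  have hzD : z ∈ zpowers (g * g) ⊔ zpowers e := mem_sup_left hzg2
  have heD : e ∈ zpowers (g * g) ⊔ zpowers e := mem_sup_right (mem_zpowers _)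
  rcases mR_add i j p with h4 | h4
  · rw [h4, N.nat.coord.zero, ← map_one π] at h3
    rcases N.eq_or h3 with h5 | h5
    · rw [h5]
      exact one_mem _
    · rw [h5, one_mul]
      exact hzD
  · rw [h4, ← he] at h3
    rcases N.eq_or h3 with h5 | h5
    · rw [h5]
      exact heD
    · rw [h5]
      exact mul_mem heD hzD

end N16

/-- Statement ONE for `|W| = 16`. -/
theorem one16 [Finite X] (hr : R4 X) {Q W : Subgroup X} {y z : X} (H : H16 Q W y z) : Q = W := by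
  have hWn := H.h.wn
  have hQn := H.h.l.normal
  have hNz : (zpowers z).Normal := H.nz
  have hzQ : zpowers z ≤ Q := H.zle.trans H.h.wq
  -- `C_Q(y)` is cyclic
  have hinf : W ⊓ Hyp.C Q y ≤ zpowers z := by
    intro v hv
    rw [H.mem_z]
    exact H.fix v hv.1 (Hyp.mem_C.1 hv.2).2
  have hc : 8 * Nat.card (W ⊓ Hyp.C Q y : Subgroup X) ≤ Nat.card W := by
    have h1 : Nat.card (W ⊓ Hyp.C Q y : Subgroup X) ≤ Nat.card (zpowers z) :=
      Nat.card_le_card_of_injective _ (inclusion_injective hinf)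
    rw [H.card_zp] at h1
    rw [H.card]
    omega
  obtain ⟨g, hg⟩ := H.h.exists_gen hr hc
  have hgQ := (H.h.gC hg).1
  by_cases hgW : g ∈ W
  · refine le_antisymm (fun q hq => ?_) H.h.wq
    obtain ⟨v, hv, k, rfl⟩ := H.h.dec hg hq
    exact W.mul_mem hv (W.zpow_mem hgW k)
  exfalso
  -- coordinates modulo `z`
  set π := QuotientGroup.mk' (zpowers z) with hπ
  have hsurj : Function.Surjective π := QuotientGroup.mk'_surjective _
  have hker : π.ker = zpowers z := QuotientGroup.ker_mk' _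
  have hW8 : Nat.card (W.map π) = 8 := by
    have h1 : Nat.card (W.map π) = (π.comp W.subtype).ker.index := by
      rw [index_ker, MonoidHom.range_comp, Subgroup.range_subtype]
    have h2 : (π.comp W.subtype).ker = (zpowers z).subgroupOf W := by
      ext x
      rw [MonoidHom.mem_ker, mem_subgroupOf, MonoidHom.comp_apply]
      exact QuotientGroup.eq_one_iff (x : X)
    have h3 : Nat.card ((zpowers z).subgroupOf W) = 2 := by
      rw [Nat.card_congr (subgroupOfEquivOfLe H.zle).toEquiv, H.card_zp]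
    have h4 := card_mul_index ((zpowers z).subgroupOf W)
    rw [h3, ← h2, ← h1, H.card] at h4
    omega
  have hW2 : ∀ v ∈ W.map π, v * v = 1 := by
    rintro _ ⟨v, hv, rfl⟩
    rw [← map_mul, H.h.w2 v hv, map_one]
  obtain ⟨w, hw⟩ := exists_coord hW2 hW8
  have hne : ∃ v ∈ W.map π, π y * v ≠ v * π y := by
    by_contra hcon
    push Not at hcon
    obtain ⟨v, hv, hv2⟩ := H.h.ne
    apply hv2
    have h1 := hcon _ ⟨v, hv, rfl⟩
    have h2 : y * v * y⁻¹ * v⁻¹ ∈ zpowers z := by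
      rw [← hker, MonoidHom.mem_ker, map_mul, map_mul, map_mul, map_inv, map_inv, h1]
      group
    have h3 : y * v * y⁻¹ * v⁻¹ = 1 := by
      refine fix_of_comm H.h.hy (H.h.w2 _ (H.zle h2)) ?_ rfl
      rcases H.mem_z.1 h2 with h4 | h4
      · rw [h4, mul_one, one_mul]
      · rw [h4]
        exact H.zc y
    calc y * v = (y * v * y⁻¹ * v⁻¹) * (v * y) := by group
      _ = v * y := by rw [h3, one_mul]
  have hnat : NatMod (Q.map π) (W.map π) w :=
    natMod_of (L32.map H.h.l (zpowers z) hzQ) (hWn.map π hsurj) (map_mono H.h.wq) hw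
      (y := π y) (by rw [← map_pow, H.h.hy, map_one]) hne
  have N : N16 Q W y z π w := ⟨H, hsurj, hker, hnat⟩
  refine N.false_of_gen hr hg hgW ?_
  have h1 := H.h.card_sup hc (A := zpowers g) (by rw [hg])
  have h2 : W ⊔ zpowers g ≤ Q := sup_le H.h.wq (by rw [← hg]; exact inf_le_left)
  exact h1.trans (Nat.card_le_card_of_injective _ (inclusion_injective h2))

end Cfsg.Agent.GH.C2ThreeOne
end

-- part: GH/C2ThreeMin
section
/-!
# GH-C2 (T3): minimal noncentral normal subgroups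
-/

set_option autoImplicit false
set_option maxHeartbeats 800000

namespace Cfsg.Agent.GH.C2ThreeMin

open Subgroup Cfsg.Agent.TwoFusion.SectionalRank Cfsg.Agent.GH.C2Base Cfsg.Agent.GH.C2Five
open Cfsg.Agent.GH.C2ThreeNat Cfsg.Agent.GH.C2ThreeK0 Cfsg.Agent.SectRankFour.C2

variable {X : Type*} [Group X]

/-- `W` is minimal among the `X`-normal subgroups of `Q` not centralised by `y`. -/
structure Minc (Q W : Subgroup X) (y : X) : Prop where
  normal : W.Normal
  le : W ≤ Q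
  ne : ∃ v ∈ W, y * v ≠ v * y
  min : ∀ N : Subgroup X, N.Normal → N ≤ W → N ≠ W → ∀ v ∈ N, y * v = v * y

theorem exists_minc [Finite X] {Q U : Subgroup X} {y : X} (hU : U.Normal) (hUQ : U ≤ Q)
    (hne : ∃ v ∈ U, y * v ≠ v * y) : ∃ W, Minc Q W y ∧ W ≤ U := by
  obtain ⟨W, hW⟩ := (Set.toFinite {W : Subgroup X | W.Normal ∧ W ≤ U ∧ ∃ v ∈ W, y * v ≠ v * y}).exists_minimal
    ⟨U, hU, le_rfl, hne⟩
  refine ⟨W, ⟨hW.1.1, hW.1.2.1.trans hUQ, hW.1.2.2, fun N hN hNW hne2 v hv => ?_⟩, hW.1.2.1⟩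
  by_contra h1
  exact hne2 (le_antisymm hNW (hW.2 ⟨hN, hNW.trans hW.1.2.1, v, hv, h1⟩ hNW))

/-- If `y` (of order 7) centralises `[y, q]` (a 2-element), then `[y, q] = 1`. -/
theorem comm_of_comm {Q : Subgroup X} (hQ : IsPGroup 2 Q) {y q : X} (hy : y ^ 7 = 1)
    (hc : y * q * y⁻¹ * q⁻¹ ∈ Q) (h : y * (y * q * y⁻¹ * q⁻¹) = (y * q * y⁻¹ * q⁻¹) * y) :
    y * q = q * y := by
  set c := y * q * y⁻¹ * q⁻¹ with hcdef
  have h1 : ∀ n : ℕ, y ^ n * q * (y ^ n)⁻¹ = c ^ n * q := by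
    intro n
    induction n with
    | zero => simp
    | succ n ih =>
      have h2 : y * c ^ n = c ^ n * y := (Commute.pow_right (show Commute y c from h) n).eq
      calc y ^ (n + 1) * q * (y ^ (n + 1))⁻¹ = y * (y ^ n * q * (y ^ n)⁻¹) * y⁻¹ := by
            rw [pow_succ' y n]; group
        _ = y * (c ^ n * q) * y⁻¹ := by rw [ih]
        _ = (y * c ^ n) * (q * y⁻¹) := by simp only [mul_assoc]
        _ = c ^ n * (y * q * y⁻¹) := by rw [h2]; simp only [mul_assoc]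
        _ = c ^ n * (c * q) := by
            have e : y * q * y⁻¹ = c * q := by rw [hcdef, inv_mul_cancel_right]
            rw [e]
        _ = c ^ (n + 1) * q := by rw [pow_succ]; exact (mul_assoc _ _ _).symm
  have h2 := h1 7
  rw [hy] at h2
  have h3 : c ^ 7 = 1 := by
    have h4 : c ^ 7 * q = 1 * q := by rw [← h2]; group
    exact mul_right_cancel h4
  obtain ⟨n, hn⟩ := hQ ⟨c, hc⟩
  have hn' : c ^ 2 ^ n = 1 := by
    have := congrArg Subtype.val hn
    simpa using this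
  have h4 : c = 1 := by
    have h5 : orderOf c ∣ 7 := orderOf_dvd_of_pow_eq_one h3
    have h6 : orderOf c ∣ 2 ^ n := orderOf_dvd_of_pow_eq_one hn'
    have h7 : Nat.Coprime 7 (2 ^ n) := Nat.Coprime.pow_right n (by norm_num)
    have h8 := Nat.Coprime.eq_one_of_dvd (Nat.Coprime.coprime_dvd_left h5 h7) h6
    exact orderOf_eq_one_iff.1 h8
  have h5 : y * q * y⁻¹ * q⁻¹ = 1 := h4
  calc y * q = (y * q * y⁻¹ * q⁻¹) * (q * y) := by group
    _ = q * y := by rw [h5, one_mul]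

/-- The same modulo a normal subgroup. -/
theorem mem_of_comm_mem {Q N : Subgroup X} [hN : N.Normal] (hQ : IsPGroup 2 Q) {y q : X}
    (hy : y ^ 7 = 1) (hc : y * q * y⁻¹ * q⁻¹ ∈ Q)
    (h : y * (y * q * y⁻¹ * q⁻¹) * y⁻¹ * (y * q * y⁻¹ * q⁻¹)⁻¹ ∈ N) : y * q * y⁻¹ * q⁻¹ ∈ N := by
  have h1 := comm_of_comm (hQ.map (QuotientGroup.mk' N)) (y := (y : X ⧸ N)) (q := (q : X ⧸ N))
    (by rw [← QuotientGroup.mk_pow, hy]; rfl) ⟨_, hc, rfl⟩ (by
      have h2 : ((y * (y * q * y⁻¹ * q⁻¹) * y⁻¹ * (y * q * y⁻¹ * q⁻¹)⁻¹ : X) : X ⧸ N) = 1 :=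
        (QuotientGroup.eq_one_iff _).2 h
      have h3 : (y : X ⧸ N) * ((y : X ⧸ N) * q * (y : X ⧸ N)⁻¹ * (q : X ⧸ N)⁻¹) * (y : X ⧸ N)⁻¹ *
        ((y : X ⧸ N) * q * (y : X ⧸ N)⁻¹ * (q : X ⧸ N)⁻¹)⁻¹ = 1 := h2
      rw [mul_inv_eq_one, mul_inv_eq_iff_eq_mul] at h3
      exact h3)
  rw [← QuotientGroup.eq_one_iff]
  have h2 : (y : X ⧸ N) * q * (y : X ⧸ N)⁻¹ * (q : X ⧸ N)⁻¹ = 1 := by rw [h1]; group
  exact h2

/-! ### The elementary abelian case -/

theorem orbit_card [Finite X] (v : X) :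
    Nat.card {u : X // ∃ x : X, x * v * x⁻¹ = u} = (centralizer ({v} : Set X)).index := by
  have h1 : (MulAction.stabilizer (ConjAct X) v).index = (MulAction.orbit (ConjAct X) v).ncard :=
    MulAction.index_stabilizer _ _
  rw [ConjAct.stabilizer_eq_centralizer] at h1
  have h2 : (centralizer ({ConjAct.toConjAct v} : Set (ConjAct X))).index =
      (centralizer ({v} : Set X)).index := rfl
  rw [h2] at h1
  rw [h1, Set.ncard, ← Set.ncard_def, ← Nat.card_coe_set_eq]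
  apply Nat.card_congr
  apply Equiv.subtypeEquivRight
  intro u
  constructor
  · rintro ⟨x, hx⟩
    exact ⟨ConjAct.toConjAct x, hx⟩
  · rintro ⟨x, hx⟩
    exact ⟨ConjAct.ofConjAct x, hx⟩

theorem exists_fixed [Finite X] {T W : Subgroup X} (hT : IsPGroup 2 T) (hWn : W.Normal)
    (h2 : 2 ∣ Nat.card W) : ∃ v ∈ W, v ≠ 1 ∧ ∀ t ∈ T, t * v = v * t := by
  let _ : MulAction T W := MulAction.compHom W ((MulAut.conjNormal (H := W)).comp T.subtype)
  have hact : ∀ (t : T) (v : W), ((t • v : W) : X) = t * v * (t : X)⁻¹ := fun t v => by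
    show ((MulAut.conjNormal (t : X) v : W) : X) = _
    rw [MulAut.conjNormal_apply]
  have h1 := hT.card_modEq_card_fixedPoints W
  have h3 : 2 ∣ Nat.card (MulAction.fixedPoints T W) := by
    rw [Nat.ModEq] at h1
    rw [Nat.dvd_iff_mod_eq_zero] at h2 ⊢
    omega
  have h4 : 0 < Nat.card (MulAction.fixedPoints T W) := by
    have : Nonempty (MulAction.fixedPoints T W) := ⟨⟨1, fun t => Subtype.ext (by
      rw [hact]
      simp)⟩⟩
    exact Nat.card_pos
  have h5 : 1 < Nat.card (MulAction.fixedPoints T W) := by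
    have := Nat.le_of_dvd h4 h3
    omega
  have h6 : Nontrivial (MulAction.fixedPoints T W) := Finite.one_lt_card_iff_nontrivial.1 h5
  obtain ⟨⟨v, hv⟩, hne⟩ := exists_ne (⟨1, fun t => Subtype.ext (by
      rw [hact]
      simp)⟩ : MulAction.fixedPoints T W)
  refine ⟨v, v.2, fun h0 => hne (Subtype.ext (Subtype.ext h0)), fun t ht => ?_⟩
  have h7 := congrArg Subtype.val (hv ⟨t, ht⟩)
  rw [hact] at h7
  exact mul_inv_eq_iff_eq_mul.1 h7

/-- The index of a Sylow 2-subgroup divides 21. -/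
theorem sylow_index_dvd [Finite X] {Q : Subgroup X} (hQ : L32 Q) (T : Sylow 2 X) :
    Q ≤ T ∧ (T : Subgroup X).index ∣ 21 := by
  have hQn := hQ.normal
  have hQT : Q ≤ T := by
    obtain ⟨S, hS⟩ := hQ.two.exists_le_sylow
    obtain ⟨g, hg⟩ := MulAction.exists_smul_eq X S T
    rw [← hg]
    intro q hq
    have h1 : g⁻¹ * q * g ∈ (S : Subgroup X) := hS (by
      have := hQn.conj_mem q hq g⁻¹
      simpa using this)
    exact ⟨g⁻¹ * q * g, h1, by
      show g * (g⁻¹ * q * g) * g⁻¹ = q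
      group⟩
  refine ⟨hQT, ?_⟩
  have h1 : (T : Subgroup X).index ∣ 168 := by
    rw [← hQ.index]
    exact index_dvd_of_le hQT
  have h2 : ¬ 2 ∣ (T : Subgroup X).index := T.not_dvd_index
  have h3 : Nat.Coprime (T : Subgroup X).index 8 := by
    have : Nat.Coprime 2 (T : Subgroup X).index := (Nat.prime_two.coprime_iff_not_dvd).2 h2
    have h4 : Nat.Coprime (2 ^ 3) (T : Subgroup X).index := Nat.Coprime.pow_left 3 this
    exact h4.symm
  have h4 : (168 : ℕ) = 21 * 8 := by norm_num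
  rw [h4] at h1
  exact h3.dvd_of_dvd_mul_right h1

section Elem

variable [Finite X] {Q W : Subgroup X} {y : X}

/-- The shape of an elementary abelian minimal noncentral normal subgroup. -/
theorem shape (hr : R4 X) (hQ : L32 Q) (hy : y ^ 7 = 1) (hW : Minc Q W y)
    (hsq : ∀ v ∈ W, v * v = 1) :
    (Nat.card W = 8 ∧ ∀ v ∈ W, y * v = v * y → v = 1) ∨
    (Nat.card W = 16 ∧ ∃ c ∈ W, c ≠ 1 ∧ (∀ x : X, x * c = c * x) ∧
      ∀ v ∈ W, y * v = v * y → v = 1 ∨ v = c) := by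
  have hWn := hW.normal
  have hsq' : ∀ v ∈ W, v ^ 2 = 1 := fun v hv => by rw [pow_two]; exact hsq v hv
  have hcm := comm_of_sq_one hsq
  have h16 : Nat.card W ≤ 16 := by
    have := hr W ⊥ (elem_bot hsq')
    simpa using this
  have h7 := ActFour.seven hsq' h16 hy (fun v hv => hWn.conj_mem v hv y) (fun h => by
    obtain ⟨v, hv, hne⟩ := hW.ne
    exact hne (mem_centralizer_singleton_iff.mp (h hv)).symm)
  have hpos : 0 < Nat.card (W ⊓ centralizer ({y} : Set X) : Subgroup X) := Nat.card_pos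
  have hcc : Nat.card (W ⊓ centralizer ({y} : Set X) : Subgroup X) = 1 ∨
      Nat.card (W ⊓ centralizer ({y} : Set X) : Subgroup X) = 2 := by omega
  rcases hcc with hcc | hcc
  · left
    refine ⟨by omega, fun v hv hc => ?_⟩
    have h1 := Subgroup.card_eq_one.mp hcc
    have h2 : v ∈ W ⊓ centralizer ({y} : Set X) := ⟨hv, mem_centralizer_singleton_iff.mpr hc.symm⟩
    rw [h1] at h2
    exact mem_bot.mp h2
  right
  refine ⟨by omega, ?_⟩
  -- the fixed vector of `y`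
  obtain ⟨c, hc1, hc2⟩ : ∃ c ∈ W ⊓ centralizer ({y} : Set X), c ≠ 1 := by
    by_contra hcon
    push Not at hcon
    have : W ⊓ centralizer ({y} : Set X) = ⊥ := (eq_bot_iff_forall _).2 hcon
    rw [this] at hcc
    simp at hcc
  have hcW : c ∈ W := hc1.1
  have hcy : y * c = c * y := (mem_centralizer_singleton_iff.1 hc1.2).symm
  have hfix : ∀ v ∈ W, y * v = v * y → v = 1 ∨ v = c := by
    intro v hv hvy
    have h3 : v ∈ W ⊓ centralizer ({y} : Set X) := ⟨hv, mem_centralizer_singleton_iff.mpr hvy.symm⟩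
    by_contra hcon
    push Not at hcon
    obtain ⟨p, q, hpq, huniv⟩ := Nat.card_eq_two_iff.1 hcc
    have k1 : (1 : (W ⊓ centralizer ({y} : Set X) : Subgroup X)) ∈ ({p, q} : Set _) := by
      rw [huniv]; trivial
    have k2 : (⟨c, hc1⟩ : (W ⊓ centralizer ({y} : Set X) : Subgroup X)) ∈ ({p, q} : Set _) := by
      rw [huniv]; trivial
    have k3 : (⟨v, h3⟩ : (W ⊓ centralizer ({y} : Set X) : Subgroup X)) ∈ ({p, q} : Set _) := by
      rw [huniv]; trivial
    have n1 : (⟨c, hc1⟩ : (W ⊓ centralizer ({y} : Set X) : Subgroup X)) ≠ 1 := fun h =>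
      hc2 (congrArg Subtype.val h)
    have n2 : (⟨v, h3⟩ : (W ⊓ centralizer ({y} : Set X) : Subgroup X)) ≠ 1 := fun h =>
      hcon.1 (congrArg Subtype.val h)
    have n3 : (⟨v, h3⟩ : (W ⊓ centralizer ({y} : Set X) : Subgroup X)) ≠ ⟨c, hc1⟩ := fun h =>
      hcon.2 (congrArg Subtype.val h)
    rcases k1 with k1 | k1 <;> rcases k2 with k2 | k2 <;> rcases k3 with k3 | k3
    · exact n1 (k2.trans k1.symm)
    · exact n1 (k2.trans k1.symm)
    · exact n2 (k3.trans k1.symm)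
    · exact n3 (k3.trans k2.symm)
    · exact n3 (k3.trans k2.symm)
    · exact n2 (k3.trans k1.symm)
    · exact n1 (k2.trans k1.symm)
    · exact n1 (k2.trans k1.symm)
  refine ⟨c, hcW, hc2, ?_, hfix⟩
  -- a vector fixed by a Sylow 2-subgroup
  obtain ⟨T⟩ : Nonempty (Sylow 2 X) := inferInstance
  obtain ⟨hQT, hTi⟩ := sylow_index_dvd hQ T
  obtain ⟨v, hvW, hv1, hvT⟩ := exists_fixed T.2 hWn (by omega)
  have hTc : (T : Subgroup X) ≤ centralizer ({v} : Set X) := fun t ht =>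
    mem_centralizer_singleton_iff.2 (hvT t ht)
  classical
  let _ : CommGroup W := { (inferInstance : Group W) with
    mul_comm := fun a b => Subtype.ext (hcm _ a.2 _ b.2) }
  have : Fintype W := Fintype.ofFinite W
  let φ : X → (W ≃* W) := fun x => MulAut.conjNormal (H := W) x
  have hφ : ∀ x (u : W), ((φ x u : W) : X) = x * u * x⁻¹ := fun x u => by
    rw [MulAut.conjNormal_apply]
  let S : Finset W := Finset.univ.filter fun u => ∃ x : X, x * v * x⁻¹ = u
  have hSmem : ∀ u : W, u ∈ S ↔ ∃ x : X, x * v * x⁻¹ = u := fun u => by simp [S]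
  have hSW : ∀ u : X, (∃ x : X, x * v * x⁻¹ = u) → u ∈ W := by
    rintro u ⟨x, rfl⟩
    exact hWn.conj_mem v hvW x
  have hSc : S.card ∣ 21 := by
    have h1 : Nat.card S = Nat.card {u : X // ∃ x : X, x * v * x⁻¹ = u} := Nat.card_congr
      { toFun := fun u => ⟨u.1.1, (hSmem u.1).1 u.2⟩
        invFun := fun u => ⟨⟨u.1, hSW _ u.2⟩, (hSmem _).2 u.2⟩
        left_inv := fun u => rfl
        right_inv := fun u => rfl }
    rw [Nat.card_eq_fintype_card, Fintype.card_coe] at h1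
    rw [h1, orbit_card]
    exact (index_dvd_of_le hTc).trans hTi
  have hS1 : (1 : W) ∉ S := by
    rw [hSmem]
    rintro ⟨x, hx⟩
    apply hv1
    have : v = x⁻¹ * ((1 : W) : X) * x := by rw [← hx]; group
    rw [this]
    simp
  have hScard : S.card ≤ 15 := by
    have h1 : (insert 1 S).card ≤ Fintype.card W := Finset.card_le_univ _
    rw [Finset.card_insert_of_notMem hS1, ← Nat.card_eq_fintype_card] at h1
    omega
  have hvS : (⟨v, hvW⟩ : W) ∈ S := (hSmem _).2 ⟨1, by simp⟩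
  -- the action of `X` on `S`
  have hSφ : ∀ (x : X) (u : W), u ∈ S → φ x u ∈ S := by
    intro x u hu
    obtain ⟨z, hz⟩ := (hSmem u).1 hu
    refine (hSmem _).2 ⟨x * z, ?_⟩
    rw [hφ, ← hz]
    group
  let f : Function.End S := fun u => ⟨φ y u.1, hSφ y u.1 u.2⟩
  have hfp : ∀ (n : ℕ) (u : S), (((f ^ n) u : S) : W) = φ (y ^ n) u.1 := by
    intro n
    induction n with
    | zero =>
      intro u
      apply Subtype.ext
      rw [hφ]
      simp
      rfl
    | succ n ih =>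
      intro u
      rw [pow_succ']
      show φ y ((f ^ n) u : S).1 = _
      rw [ih]
      apply Subtype.ext
      rw [hφ, hφ, hφ, pow_succ' y]
      group
  have hf7 : f ^ 7 ^ 1 = 1 := by
    funext u
    apply Subtype.ext
    apply Subtype.ext
    rw [pow_one, hfp, hy, hφ]
    simp
    rfl
  have : Fact (Nat.Prime 7) := ⟨by norm_num⟩
  have hmod := Equiv.Perm.card_fixedPoints_modEq (f := f) (p := 7) (n := 1) hf7
  have hfixc : ∀ u : S, f u = u → (u.1 : X) = c ∧ y * (u.1 : X) = u.1 * y := by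
    intro u hu
    have h1 : φ y u.1 = u.1 := congrArg Subtype.val hu
    have h2 : y * (u.1 : X) * y⁻¹ = u.1 := by
      rw [← hφ, h1]
    have h3 : y * (u.1 : X) = u.1 * y := mul_inv_eq_iff_eq_mul.1 h2
    rcases hfix _ u.1.2 h3 with h4 | h4
    · exfalso
      apply hS1
      have h5 : u.1 = (1 : W) := Subtype.ext h4
      rw [← h5]
      exact u.2
    · exact ⟨h4, h3⟩
  have hfle : Fintype.card (Function.fixedPoints f) ≤ 1 := by
    rw [Fintype.card_le_one_iff]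
    rintro ⟨a, ha⟩ ⟨b, hb⟩
    apply Subtype.ext
    apply Subtype.ext
    apply Subtype.ext
    rw [(hfixc a ha).1, (hfixc b hb).1]
  rw [Fintype.card_coe, Nat.ModEq] at hmod
  have h17 : S.card = 1 ∨ S.card = 7 := by
    obtain ⟨k, hk⟩ := hSc
    have h1 : S.card ≤ 15 := hScard
    generalize S.card = n at *
    have hk' : k ≤ 21 := by
      by_contra hcon
      have : 0 < n := by
        rcases Nat.eq_zero_or_pos n with h0 | h0
        · rw [h0] at hk; omega
        · exact h0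
      have : 22 ≤ n * k := by nlinarith
      omega
    interval_cases n <;> omega
  rcases h17 with h17 | h17
  · have h1 : ∀ x : X, x * v = v * x := by
      intro x
      obtain ⟨u, hu⟩ := Finset.card_eq_one.1 h17
      rw [hu, Finset.mem_singleton] at hvS
      have h2 := hSφ x _ ((hSmem ⟨v, hvW⟩).2 ⟨1, by simp⟩)
      rw [hu, Finset.mem_singleton, ← hvS] at h2
      have h3 := congrArg Subtype.val h2
      rw [hφ] at h3
      exact mul_inv_eq_iff_eq_mul.1 h3
    rcases hfix v hvW (h1 y) with h2 | h2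
    · exact absurd h2 hv1
    · rw [← h2]
      exact h1
  -- no fixed points
  have hnof : ∀ u : W, u ∈ S → y * (u : X) ≠ u * y := by
    intro u hu hcon
    have h1 : (⟨u, hu⟩ : S) ∈ Function.fixedPoints f := by
      show f ⟨u, hu⟩ = ⟨u, hu⟩
      apply Subtype.ext
      apply Subtype.ext
      show ((φ y u : W) : X) = u
      rw [hφ, hcon]
      group
    have h2 : 0 < Fintype.card (Function.fixedPoints f) := Fintype.card_pos_iff.2 ⟨⟨_, h1⟩⟩
    rw [h17] at hmod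
    omega
  let π : W := ∏ u ∈ S, u
  have hπ : ∀ x : X, φ x π = π := by
    intro x
    rw [map_prod]
    apply Finset.prod_bij (fun u _ => φ x u)
    · intro u hu
      exact hSφ x u hu
    · intro u _ u' _ h
      exact (φ x).injective h
    · intro u hu
      refine ⟨φ x⁻¹ u, hSφ _ _ hu, ?_⟩
      apply Subtype.ext
      rw [hφ, hφ]
      group
    · intro u _
      rfl
  have hπc : ∀ x : X, x * (π : X) = π * x := by
    intro x
    have h1 := congrArg Subtype.val (hπ x)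
    rw [hφ] at h1
    exact mul_inv_eq_iff_eq_mul.1 h1
  rcases hfix π π.2 (hπc y) with h1 | h1
  swap
  · rw [← h1]
    exact hπc
  exfalso
  -- the norm map
  let N : W →* W :=
    { toFun := fun u => ∏ i ∈ Finset.range 7, φ (y ^ i) u
      map_one' := by simp
      map_mul' := fun a b => by simp [Finset.prod_mul_distrib] }
  have hNS : ∀ u : W, u ∈ S → N u = π := by
    intro u hu
    show ∏ i ∈ Finset.range 7, φ (y ^ i) u = ∏ u ∈ S, u
    have hinj : Set.InjOn (fun i => φ (y ^ i) u) (Finset.range 7 : Finset ℕ) := by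
      have key : ∀ i j : ℕ, i < j → j < 7 → φ (y ^ i) u ≠ φ (y ^ j) u := by
        intro i j hij hj h2
        have h3 := congrArg Subtype.val h2
        rw [hφ, hφ] at h3
        obtain ⟨k, rfl⟩ := Nat.exists_eq_add_of_lt hij
        have h4 : y ^ (k + 1) * (u : X) = u * y ^ (k + 1) := by
          rw [show i + k + 1 = i + (k + 1) by ring, pow_add] at h3
          calc y ^ (k + 1) * (u : X) = (y ^ i)⁻¹ * (y ^ i * y ^ (k + 1) * u * (y ^ i * y ^ (k + 1))⁻¹) *
                (y ^ i) * y ^ (k + 1) := by group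
            _ = (y ^ i)⁻¹ * (y ^ i * u * (y ^ i)⁻¹) * (y ^ i) * y ^ (k + 1) := by rw [h3]
            _ = u * y ^ (k + 1) := by group
        apply hnof u hu
        obtain ⟨m, hm⟩ : ∃ m : ℕ, (y ^ (k + 1)) ^ m = y := by
          have hk6 : k < 6 := by omega
          clear h4 h3 h2 hj hij
          have h6 : ∀ m n : ℕ, m = 7 * n + 1 → y ^ m = y := by
            intro m n hmn
            rw [hmn, pow_add, pow_mul, hy, one_pow, one_mul, pow_one]
          have h7 : ∃ m n : ℕ, (k + 1) * m = 7 * n + 1 := by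
            interval_cases k
            · exact ⟨1, 0, rfl⟩
            · exact ⟨4, 1, rfl⟩
            · exact ⟨5, 2, rfl⟩
            · exact ⟨2, 1, rfl⟩
            · exact ⟨3, 2, rfl⟩
            · exact ⟨6, 5, rfl⟩
          obtain ⟨m, n, hmn⟩ := h7
          exact ⟨m, by rw [← pow_mul]; exact h6 _ n hmn⟩
        have h6 : Commute ((y ^ (k + 1)) ^ m) (u : X) := Commute.pow_left h4 m
        rw [hm] at h6
        exact h6
      intro i hi j hj h2
      rw [Finset.mem_coe, Finset.mem_range] at hi hj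
      rcases lt_trichotomy i j with h3 | h3 | h3
      · exact absurd h2 (key i j h3 hj)
      · exact h3
      · exact absurd h2.symm (key j i h3 hi)
    have himg : (Finset.range 7).image (fun i => φ (y ^ i) u) = S := by
      apply Finset.eq_of_subset_of_card_le
      · intro a ha
        obtain ⟨i, -, rfl⟩ := Finset.mem_image.1 ha
        exact hSφ _ _ hu
      · rw [Finset.card_image_of_injOn hinj, h17]
        simp
    rw [← himg, Finset.prod_image hinj]
  have hNc : N ⟨c, hcW⟩ ≠ 1 := by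
    have h2 : N ⟨c, hcW⟩ = ⟨c, hcW⟩ := by
      show ∏ i ∈ Finset.range 7, φ (y ^ i) ⟨c, hcW⟩ = ⟨c, hcW⟩
      have h3 : ∀ i ∈ Finset.range 7, φ (y ^ i) ⟨c, hcW⟩ = ⟨c, hcW⟩ := by
        intro i _
        apply Subtype.ext
        rw [hφ]
        have : Commute (y ^ i) c := Commute.pow_left hcy i
        rw [this.eq]
        group
      rw [Finset.prod_congr rfl h3, Finset.prod_const, Finset.card_range]
      apply Subtype.ext
      show c ^ 7 = c
      have h4 := hsq c hcW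
      calc c ^ 7 = (c * c) * (c * c) * (c * c) * c := by
            simp only [pow_succ, pow_zero, one_mul, mul_assoc]
        _ = c := by rw [h4]; simp
    rw [h2]
    exact fun h => hc2 (congrArg Subtype.val h)
  have hD : normalClosure ({v} : Set X) ≤ (N.ker).map W.subtype := by
    rw [normalClosure, closure_le]
    intro u hu
    obtain ⟨a, ha, hau⟩ := Group.mem_conjugatesOfSet_iff.1 hu
    rw [Set.mem_singleton_iff] at ha
    subst ha
    obtain ⟨x, hx⟩ := isConj_iff.1 hau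
    have h2 : (⟨u, hSW u ⟨x, hx⟩⟩ : W) ∈ S := (hSmem _).2 ⟨x, hx⟩
    refine ⟨⟨u, hSW u ⟨x, hx⟩⟩, ?_, rfl⟩
    show N _ = 1
    rw [hNS _ h2]
    exact Subtype.ext h1
  have hDW : normalClosure ({v} : Set X) ≤ W := by
    apply normalClosure_le_normal
    rintro u rfl
    exact hvW
  have hDne : normalClosure ({v} : Set X) ≠ W := by
    intro h2
    rw [← h2] at hcW
    obtain ⟨u, hu, hu2⟩ := hD hcW
    apply hNc
    have h3 : u = ⟨c, h2 ▸ hcW⟩ := Subtype.ext hu2
    rw [← h3]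
    exact hu
  have h2 := hW.min _ inferInstance hDW hDne v (subset_normalClosure rfl)
  exact hnof _ hvS h2

end Elem

end Cfsg.Agent.GH.C2ThreeMin
end

-- part: GH/C2ThreeMinE
section
/-!
# GH-C2 (T3): a minimal noncentral normal subgroup is elementary abelian
-/

set_option autoImplicit false
set_option maxHeartbeats 800000

namespace Cfsg.Agent.GH.C2ThreeMinE

open Subgroup Cfsg.Agent.TwoFusion.SectionalRank Cfsg.Agent.GH.C2Base Cfsg.Agent.GH.C2Five
open Cfsg.Agent.GH.C2ThreeNat Cfsg.Agent.GH.C2ThreeK0 Cfsg.Agent.GH.C2ThreeMin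

open scoped commutatorElement

variable {X : Type*} [Group X]

/-- matrices of order 7 -/
def P7 (m : M3) : Prop := IsBas m ∧ m ≠ idm ∧ cmp m (cmp m (cmp m (cmp m (cmp m (cmp m m))))) = idm

instance (m : M3) : Decidable (P7 m) := by unfold P7; infer_instance

def PA (m : M3) (p : T3) : Prop := lin m (lin m (lin m p)) = lin m p + p

instance (m : M3) (p : T3) : Decidable (PA m p) := by unfold PA; infer_instance

def PB (m : M3) (p : T3) : Prop := lin m (lin m (lin m p)) = lin m (lin m p) + p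

instance (m : M3) (p : T3) : Decidable (PB m p) := by unfold PB; infer_instance

theorem p7_rel : ∀ m : M3, ¬ P7 m ∨ (PA m e1 ∧ PA m e2 ∧ PA m e3) ∨ (PB m e1 ∧ PB m e2 ∧ PB m e3) := by
  decide +kernel

theorem eq_of_basis {L L' : T3 → T3} (h : ∀ a b, L (a + b) = L a + L b)
    (h' : ∀ a b, L' (a + b) = L' a + L' b) (h1 : L e1 = L' e1) (h2 : L e2 = L' e2) (h3 : L e3 = L' e3)
    (p : T3) : L p = L' p := by
  rw [eq_lin h, eq_lin h', h1, h2, h3]

theorem p7_cases {m : M3} (hm : P7 m) :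
    (∀ p, lin m (lin m (lin m p)) = lin m p + p) ∨
    (∀ p, lin m (lin m (lin m p)) = lin m (lin m p) + p) := by
  rcases p7_rel m with h | h
  · exact absurd hm h
  rcases h with ⟨h1, h2, h3⟩ | ⟨h1, h2, h3⟩
  · left
    apply eq_of_basis
    · intro a b; simp only [lin_add]
    · intro a b; simp only [lin_add]; abel
    · exact h1
    · exact h2
    · exact h3
  · right
    apply eq_of_basis
    · intro a b; simp only [lin_add]
    · intro a b; simp only [lin_add]; abel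
    · exact h1
    · exact h2
    · exact h3

def PS (m : M3) (p q : T3) : Prop := q = 0 ∨ q = p ∨ q = lin m p ∨ q = lin m (lin m p) ∨
  q = p + lin m p ∨ q = p + lin m (lin m p) ∨ q = lin m p + lin m (lin m p) ∨
  q = p + lin m p + lin m (lin m p)

instance (m : M3) (p q : T3) : Decidable (PS m p q) := by unfold PS; infer_instance

theorem p7_span : ∀ m : M3, ¬ P7 m ∨ ∀ p : T3, p = 0 ∨ ∀ q : T3, PS m p q := by
  decide +kernel


section

variable [Finite X] {Q W : Subgroup X} {y : X}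

/-- A nontrivial finite 2-group has a subgroup of index 2. -/
theorem exists_index_two {G : Type*} [Group G] [Finite G] (hG : IsPGroup 2 G) (h1 : Nat.card G ≠ 1) :
    ∃ H : Subgroup G, H.index = 2 := by
  have : Fact (Nat.Prime 2) := ⟨Nat.prime_two⟩
  obtain ⟨n, hn⟩ := IsPGroup.iff_card.1 hG
  obtain ⟨k, rfl⟩ : ∃ k, n = k + 1 := by
    rcases n with _ | k
    · rw [pow_zero] at hn
      exact absurd hn h1
    · exact ⟨k, rfl⟩
  obtain ⟨H, hH⟩ := Sylow.exists_subgroup_card_pow_prime 2 (G := G) (n := k) (by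
    rw [hn]; exact pow_dvd_pow 2 (Nat.le_succ k))
  refine ⟨H, ?_⟩
  have h2 := H.card_mul_index
  rw [hH, hn, pow_succ] at h2
  exact Nat.eq_of_mul_eq_mul_left (pow_pos (by norm_num) k) h2

/-- The squares of the elements of a nontrivial finite 2-group generate a proper subgroup. -/
theorem exists_sq_le (hW : IsPGroup 2 W) (h1 : W ≠ ⊥) :
    ∃ H : Subgroup X, H ≤ W ∧ H ≠ W ∧ ∀ v ∈ W, v * v ∈ H := by
  obtain ⟨H, hH⟩ := exists_index_two hW (fun h => h1 (Subgroup.card_eq_one.1 h))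
  refine ⟨H.map W.subtype, map_subtype_le H, fun h => ?_, fun v hv => ?_⟩
  · have h2 : H = ⊤ := by
      rw [eq_top_iff]
      intro v _
      have h3 : (v : X) ∈ H.map W.subtype := by rw [h]; exact v.2
      obtain ⟨u, hu, hu2⟩ := h3
      have h4 : u = v := Subtype.ext hu2
      rw [← h4]
      exact hu
    rw [h2, index_top] at hH
    omega
  · refine ⟨⟨v, hv⟩ * ⟨v, hv⟩, ?_, rfl⟩
    exact Subgroup.mul_self_mem_of_index_two hH _

omit [Finite X] in
/-- Proper normal subgroups inside `W` centralise `W`. -/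
theorem comm_of_proper (hQ : L32 Q) (hy : y ^ 7 = 1) (hW : Minc Q W y) {N : Subgroup X}
    (hN : N.Normal) (hNW : N ≤ W) (hne : N ≠ W) : ∀ n ∈ N, ∀ v ∈ W, n * v = v * n := by
  have hWn := hW.normal
  have hW2 : IsPGroup 2 W := hQ.two.to_le hW.le
  set K : Subgroup X := normalClosure ({y} : Set X) with hK
  have hcent : ∀ M : Subgroup X, M.Normal → (∀ v ∈ M, y * v = v * y) → ⁅M, K⁆ = ⊥ := by
    intro M hM h
    rw [commutator_eq_bot_iff_le_centralizer, le_centralizer_iff]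
    have : (centralizer (M : Set X)).Normal := inferInstance
    apply normalClosure_le_normal
    rintro x rfl
    exact mem_centralizer_iff.2 fun v hv => (h v hv).symm
  have hWK : ⁅W, K⁆ = W := by
    have hle : ⁅W, K⁆ ≤ W := commutator_le_left _ _
    by_contra hcon
    have h1 := hW.min _ inferInstance hle hcon
    obtain ⟨v, hv, hvy⟩ := hW.ne
    apply hvy
    have h2 : y * v * y⁻¹ * v⁻¹ ∈ ⁅W, K⁆ := by
      have h3 : ⁅v, y⁆ ∈ ⁅W, K⁆ := commutator_mem_commutator hv (subset_normalClosure rfl)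
      have h4 : y * v * y⁻¹ * v⁻¹ = (⁅v, y⁆)⁻¹ := by
        rw [commutatorElement_def]
        simp only [mul_inv_rev, inv_inv, mul_assoc]
      rw [h4]
      exact inv_mem h3
    exact comm_of_comm hW2 hy (hle h2) (h1 _ h2)
  have h1 : ⁅N, K⁆ = ⊥ := hcent N hN (hW.min N hN hNW hne)
  have h2 : ⁅⁅K, N⁆, W⁆ = ⊥ := by rw [commutator_comm K N, h1, commutator_bot_left]
  have h3 : ⁅⁅N, W⁆, K⁆ = ⊥ := by
    rw [eq_bot_iff, ← h1]
    exact commutator_mono (commutator_le_left _ _) le_rfl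
  have h4 := commutator_commutator_eq_bot_of_rotate h2 h3
  rw [hWK] at h4
  intro n hn v hv
  rw [commutator_comm, commutator_eq_bot_iff_le_centralizer] at h4
  exact (mem_centralizer_iff.1 (h4 hn) v hv).symm

/-- The squares of the elements of `W` generate a proper `X`-normal subgroup. -/
theorem sq_proper (hQ : L32 Q) (hW : Minc Q W y) : ∃ N : Subgroup X, N.Normal ∧ N ≤ W ∧ N ≠ W ∧
    ∀ v ∈ W, v * v ∈ N := by
  have hWn := hW.normal
  have hW2 : IsPGroup 2 W := hQ.two.to_le hW.le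
  obtain ⟨H, hHW, hHne, hH⟩ := exists_sq_le hW2 (fun h => by
    obtain ⟨v, hv, hne⟩ := hW.ne
    rw [h, mem_bot] at hv
    apply hne
    rw [hv]
    simp)
  have hle : normalClosure {u : X | ∃ v ∈ W, v * v = u} ≤ H := by
    rw [normalClosure, closure_le]
    intro u hu
    obtain ⟨a, ⟨v, hv, rfl⟩, hau⟩ := Group.mem_conjugatesOfSet_iff.1 hu
    obtain ⟨x, rfl⟩ := isConj_iff.1 hau
    have h1 : x * (v * v) * x⁻¹ = (x * v * x⁻¹) * (x * v * x⁻¹) := by group
    rw [h1]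
    exact hH _ (hWn.conj_mem v hv x)
  refine ⟨normalClosure {u : X | ∃ v ∈ W, v * v = u}, inferInstance, hle.trans hHW, fun h => ?_,
    fun v hv => subset_normalClosure ⟨v, hv, rfl⟩⟩
  exact hHne (le_antisymm hHW (h ▸ hle))

omit [Finite X] in
/-- Quotient of a `Minc` by a proper normal subgroup. -/
theorem Minc.map (hQ : L32 Q) (hy : y ^ 7 = 1) (hW : Minc Q W y) {N : Subgroup X} [hN : N.Normal]
    (hNW : N ≤ W) (hne : N ≠ W) :
    Minc (Q.map (QuotientGroup.mk' N)) (W.map (QuotientGroup.mk' N)) (y : X ⧸ N) := by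
  have hWn := hW.normal
  have hW2 : IsPGroup 2 W := hQ.two.to_le hW.le
  have hs := QuotientGroup.mk'_surjective N
  have hker : (QuotientGroup.mk' N).ker = N := QuotientGroup.ker_mk' N
  refine ⟨hWn.map _ hs, map_mono hW.le, ?_, ?_⟩
  · by_contra hcon
    push Not at hcon
    obtain ⟨v, hv, hvy⟩ := hW.ne
    apply hvy
    have h1 : y * v * y⁻¹ * v⁻¹ ∈ N := by
      rw [← QuotientGroup.eq_one_iff]
      have h2 := hcon (v : X ⧸ N) ⟨v, hv, rfl⟩
      show (y : X ⧸ N) * v * (y : X ⧸ N)⁻¹ * (v : X ⧸ N)⁻¹ = 1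
      rw [h2]
      group
    exact comm_of_comm hW2 hy (hNW h1) (hW.min N hN hNW hne _ h1)
  · intro M hM hMW hMne v hv
    have h1 : M.comap (QuotientGroup.mk' N) ≤ W := by
      intro x hx
      obtain ⟨u, hu, hu2⟩ := hMW hx
      have h2 : u⁻¹ * x ∈ N := QuotientGroup.eq.1 hu2
      have h3 : x = u * (u⁻¹ * x) := by group
      rw [h3]
      exact W.mul_mem hu (hNW h2)
    have h2 : M.comap (QuotientGroup.mk' N) ≠ W := by
      intro h3
      apply hMne
      rw [← h3, map_comap_eq_self_of_surjective hs]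
    obtain ⟨x, rfl⟩ := hs v
    have h3 := hW.min _ (hM.comap _) h1 h2 x hv
    show (y : X ⧸ N) * (x : X ⧸ N) = (x : X ⧸ N) * (y : X ⧸ N)
    rw [← QuotientGroup.mk_mul, h3, QuotientGroup.mk_mul]

omit [Finite X] in
theorem pow_acts {w : T3 → X} {m : M3} (h : Acts w y m) {V : Subgroup X} (hV : Coord V w)
    (hy : y ^ 7 = 1) (hne : ∃ v ∈ V, y * v ≠ v * y) (hn : V.Normal) : P7 m := by
  refine ⟨?_, ?_, ?_⟩
  · obtain ⟨n, hn, hn2⟩ := exists_acts hV (x := y) fun v hv => hn.conj_mem v hv y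
    rwa [h.unique hV hn2]
  · rintro rfl
    obtain ⟨v, hv, hvy⟩ := hne
    obtain ⟨p, rfl⟩ := (hV.mem v).1 hv
    exact hvy ((h.comm_iff hV).2 (lin_idm p))
  · have h1 := h.mul (h.mul (h.mul (h.mul (h.mul (h.mul h)))))
    have h2 : y * (y * (y * (y * (y * (y * y))))) = 1 := by
      rw [← hy]
      simp only [pow_succ, pow_zero, one_mul, mul_assoc]
    rw [h2] at h1
    exact h1.unique hV (Acts.one w)

/-- A minimal noncentral normal subgroup is abelian. -/
theorem minc_comm (hr : R4 X) (hQ : L32 Q) (hy : y ^ 7 = 1) (hW : Minc Q W y) :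
    ∀ v ∈ W, ∀ u ∈ W, v * u = u * v := by
  have hWn := hW.normal
  have hW2 : IsPGroup 2 W := hQ.two.to_le hW.le
  set Z : Subgroup X := W ⊓ centralizer (W : Set X) with hZ
  have hZn : Z.Normal := by
    have : (centralizer (W : Set X)).Normal := inferInstance
    infer_instance
  have hZW : Z ≤ W := inf_le_left
  have hZc : ∀ z ∈ Z, ∀ v ∈ W, z * v = v * z := fun z hz v hv =>
    (mem_centralizer_iff.1 hz.2 v hv).symm
  have hmemZ : ∀ z ∈ W, (∀ v ∈ W, z * v = v * z) → z ∈ Z := fun z hz h =>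
    ⟨hz, mem_centralizer_iff.2 fun v hv => (h v hv).symm⟩
  by_contra hcon
  have hZne : Z ≠ W := by
    intro h
    apply hcon
    intro v hv u hu
    exact hZc v (h ▸ hv) u hu
  -- squares are central
  obtain ⟨N, hN, hNW, hNne, hNsq⟩ := sq_proper hQ hW
  have hsqZ : ∀ v ∈ W, v * v ∈ Z := fun v hv =>
    hmemZ _ (hNW (hNsq v hv)) (comm_of_proper hQ hy hW hN hNW hNne _ (hNsq v hv))
  -- the quotient
  have hMZ := Minc.map hQ hy hW hZW hZne
  have hsqm : ∀ v ∈ W.map (QuotientGroup.mk' Z), v * v = 1 := by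
    rintro v ⟨u, hu, rfl⟩
    exact (QuotientGroup.eq_one_iff _).2 (hsqZ u hu)
  have hym : (y : X ⧸ Z) ^ 7 = 1 := by rw [← QuotientGroup.mk_pow, hy]; rfl
  have hQZ := L32.map hQ Z (hZW.trans hW.le)
  have hsh := shape (r4_quotient hr Z) hQZ hym hMZ hsqm
  have hc8 : Nat.card (W.map (QuotientGroup.mk' Z)) = 8 := by
    rcases hsh with h | ⟨h16, c, hcW, hc1, hcc, -⟩
    · exact h.1
    exfalso
    have hn : (zpowers c).Normal := ⟨fun g hg x => by
      obtain ⟨k, rfl⟩ := mem_zpowers_iff.1 hg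
      have : Commute x (c ^ k) := Commute.zpow_right (hcc x) k
      rw [this.eq]
      simp only [mul_inv_cancel_right]
      exact zpow_mem (mem_zpowers c) k⟩
    have hcW' : zpowers c ≤ W.map (QuotientGroup.mk' Z) := by rwa [zpowers_le]
    have h1 : (zpowers c).comap (QuotientGroup.mk' Z) ≤ W := by
      intro x hx
      obtain ⟨u, hu, hu2⟩ := hcW' hx
      have h2 : u⁻¹ * x ∈ Z := QuotientGroup.eq.1 hu2
      have h3 : x = u * (u⁻¹ * x) := by group
      rw [h3]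
      exact W.mul_mem hu (hZW h2)
    have h2 : (zpowers c).comap (QuotientGroup.mk' Z) ≠ W := by
      intro h3
      have h4 : zpowers c = W.map (QuotientGroup.mk' Z) := by
        rw [← h3, map_comap_eq_self_of_surjective (QuotientGroup.mk'_surjective Z)]
      have h5 : Nat.card (zpowers c) = 16 := by rw [h4, h16]
      rw [Nat.card_zpowers] at h5
      have h6 : orderOf c ∣ 2 := orderOf_dvd_of_pow_eq_one (by rw [pow_two]; exact hsqm c hcW)
      rw [h5] at h6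
      omega
    have h3 := comm_of_proper hQ hy hW (hn.comap _) h1 h2
    obtain ⟨u, hu, rfl⟩ := hcW
    apply hc1
    have h4 : u ∈ (zpowers ((QuotientGroup.mk' Z) u)).comap (QuotientGroup.mk' Z) :=
      mem_zpowers _
    exact (QuotientGroup.eq_one_iff _).2 (hmemZ u hu (h3 u h4))
  obtain ⟨w, hw⟩ := exists_coord hsqm hc8
  obtain ⟨m, hmb, hm⟩ := exists_acts hw (x := (y : X ⧸ Z)) fun v hv => hMZ.normal.conj_mem v hv _
  have hm7 : P7 m := pow_acts hm hw hym hMZ.ne hMZ.normal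
  -- commutators in `W`
  obtain ⟨N', hN', hN'W, hN'ne, hcomN⟩ : ∃ N' : Subgroup X, N'.Normal ∧ N' ≤ W ∧ N' ≠ W ∧
      ∀ a ∈ W, ∀ b ∈ W, a * b * a⁻¹ * b⁻¹ ∈ N' := by
    refine ⟨N, hN, hNW, hNne, fun a ha b hb => ?_⟩
    have h1 : a * b * a⁻¹ * b⁻¹ = (a * b * (a * b)) * (b⁻¹ * (a * a)⁻¹ * b⁻¹⁻¹) * (b * b)⁻¹ := by group
    rw [h1]
    exact N.mul_mem (N.mul_mem (hNsq _ (W.mul_mem ha hb))
      (hN.conj_mem _ (N.inv_mem (hNsq a ha)) _)) (N.inv_mem (hNsq b hb))
  have hcomZ : ∀ a ∈ W, ∀ b ∈ W, a * b * a⁻¹ * b⁻¹ ∈ Z := fun a ha b hb =>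
    hmemZ _ (hN'W (hcomN a ha b hb)) (comm_of_proper hQ hy hW hN' hN'W hN'ne _ (hcomN a ha b hb))
  let B : X → X → X := fun a b => a * b * a⁻¹ * b⁻¹
  have Bdef : ∀ a b, B a b = a * b * a⁻¹ * b⁻¹ := fun _ _ => rfl
  have Bmul : ∀ a ∈ W, ∀ b ∈ W, ∀ c ∈ W, B a (b * c) = B a b * B a c := by
    intro a ha b hb c hc
    have h1 := hZc _ (hcomZ a ha c hc) b⁻¹ (W.inv_mem hb)
    calc B a (b * c) = a * b * a⁻¹ * ((a * c * a⁻¹ * c⁻¹) * b⁻¹) := by rw [Bdef]; group
      _ = a * b * a⁻¹ * (b⁻¹ * (a * c * a⁻¹ * c⁻¹)) := by rw [h1]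
      _ = B a b * B a c := by rw [Bdef, Bdef]; group
  have Bz : ∀ a ∈ W, ∀ z ∈ Z, B a z = 1 := by
    intro a ha z hz
    rw [Bdef, ← hZc z hz a ha]
    group
  have Bself : ∀ a, B a a = 1 := fun a => by rw [Bdef]; group
  have Binv : ∀ a b, B b a = (B a b)⁻¹ := fun a b => by rw [Bdef, Bdef]; group
  have Bsq : ∀ a ∈ W, ∀ b ∈ W, B a b * B a b = 1 := by
    intro a ha b hb
    rw [← Bmul a ha b hb b hb]
    exact Bz a ha _ (hsqZ b hb)
  have Bsymm : ∀ a ∈ W, ∀ b ∈ W, B b a = B a b := by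
    intro a ha b hb
    rw [Binv]
    exact inv_eq_of_mul_eq_one_left (Bsq a ha b hb)
  have By : ∀ a ∈ W, ∀ b ∈ W, B (y * a * y⁻¹) (y * b * y⁻¹) = B a b := by
    intro a ha b hb
    have h1 := hW.min N' hN' hN'W hN'ne _ (hcomN a ha b hb)
    calc B (y * a * y⁻¹) (y * b * y⁻¹) = y * (a * b * a⁻¹ * b⁻¹) * y⁻¹ := by rw [Bdef]; group
      _ = a * b * a⁻¹ * b⁻¹ := by rw [h1]; group
  have Bcongr : ∀ a ∈ W, ∀ b ∈ W, ∀ c ∈ W, (b : X ⧸ Z) = (c : X ⧸ Z) → B a b = B a c := by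
    intro a ha b hb c hc h
    have h1 : b⁻¹ * c ∈ Z := QuotientGroup.eq.1 h
    have h2 : c = b * (b⁻¹ * c) := by group
    rw [h2, Bmul a ha b hb _ (hZW h1), Bz a ha _ h1, mul_one]
  -- `[u, y u y⁻¹] = 1 = [u, y² u y⁻²]`
  have hrep : ∀ u ∈ W, ∃ p, w p = (u : X ⧸ Z) := fun u hu => (hw.mem _).1 ⟨u, hu, rfl⟩
  have hkey : ∀ u ∈ W, B u (y * u * y⁻¹) = 1 ∧ B u (y * (y * u * y⁻¹) * y⁻¹) = 1 := by
    intro u hu
    have h1 : y * u * y⁻¹ ∈ W := hWn.conj_mem u hu y
    have h2 : y * (y * u * y⁻¹) * y⁻¹ ∈ W := hWn.conj_mem _ h1 y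
    have h3 : y * (y * (y * u * y⁻¹) * y⁻¹) * y⁻¹ ∈ W := hWn.conj_mem _ h2 y
    obtain ⟨p, hp⟩ := hrep u hu
    have e1 : w (lin m p) = ((y * u * y⁻¹ : X) : X ⧸ Z) := by
      rw [← hm, hp]; rfl
    have e2 : w (lin m (lin m p)) = ((y * (y * u * y⁻¹) * y⁻¹ : X) : X ⧸ Z) := by
      rw [← hm, e1]; rfl
    have e3 : w (lin m (lin m (lin m p))) = ((y * (y * (y * u * y⁻¹) * y⁻¹) * y⁻¹ : X) : X ⧸ Z) := by
      rw [← hm, e2]; rfl
    set u1 := y * u * y⁻¹ with hu1
    set u2 := y * u1 * y⁻¹ with hu2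
    set u3 := y * u2 * y⁻¹ with hu3
    have s12 : B u1 u2 = B u u1 := By u hu u1 h1
    have s23 : B u2 u3 = B u u1 := (By u1 h1 u2 h2).trans s12
    have s13 : B u1 u3 = B u u2 := By u hu u2 h2
    rcases p7_cases hm7 with hc | hc
    · have e4 : (u3 : X ⧸ Z) = ((u1 * u : X) : X ⧸ Z) := by
        rw [← e3, hc, hw.mul, e1, hp]; rfl
      have t1 : B u1 u3 = B u1 u1 * B u1 u := by
        rw [Bcongr u1 h1 u3 h3 _ (W.mul_mem h1 hu) e4, Bmul u1 h1 u1 h1 u hu]
      have t2 : B u2 u3 = B u2 u1 * B u2 u := by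
        rw [Bcongr u2 h2 u3 h3 _ (W.mul_mem h1 hu) e4, Bmul u2 h2 u1 h1 u hu]
      rw [s13, Bself, one_mul, Bsymm u hu u1 h1] at t1
      rw [s23, Bsymm u1 h1 u2 h2, s12, Bsymm u hu u2 h2] at t2
      have h4 : B u u2 = 1 := (left_eq_mul.1 t2)
      exact ⟨t1 ▸ h4, h4⟩
    · have e4 : (u3 : X ⧸ Z) = ((u2 * u : X) : X ⧸ Z) := by
        rw [← e3, hc, hw.mul, e2, hp]; rfl
      have t1 : B u1 u3 = B u1 u2 * B u1 u := by
        rw [Bcongr u1 h1 u3 h3 _ (W.mul_mem h2 hu) e4, Bmul u1 h1 u2 h2 u hu]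
      have t2 : B u2 u3 = B u2 u2 * B u2 u := by
        rw [Bcongr u2 h2 u3 h3 _ (W.mul_mem h2 hu) e4, Bmul u2 h2 u2 h2 u hu]
      rw [s13, s12, Bsymm u hu u1 h1, Bsq u hu u1 h1] at t1
      rw [s23, Bself, one_mul, Bsymm u hu u2 h2] at t2
      exact ⟨t2.trans t1, t1⟩
  apply hcon
  intro a ha b hb
  -- `b` is a product of `a`, `y a y⁻¹`, `y² a y⁻²` modulo `Z`
  have hab : B a b = 1 := by
    have h1 : y * a * y⁻¹ ∈ W := hWn.conj_mem a ha y
    have h2 : y * (y * a * y⁻¹) * y⁻¹ ∈ W := hWn.conj_mem _ h1 y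
    obtain ⟨p, hp⟩ := hrep a ha
    obtain ⟨q, hq⟩ := hrep b hb
    have e1 : w (lin m p) = ((y * a * y⁻¹ : X) : X ⧸ Z) := by
      rw [← hm, hp]; rfl
    have e2 : w (lin m (lin m p)) = ((y * (y * a * y⁻¹) * y⁻¹ : X) : X ⧸ Z) := by
      rw [← hm, e1]; rfl
    obtain ⟨k1, k2⟩ := hkey a ha
    set a1 := y * a * y⁻¹ with ha1
    set a2 := y * a1 * y⁻¹ with ha2
    rcases (p7_span m).resolve_left (not_not.2 hm7) p with h0 | hs
    · rw [h0, hw.zero] at hp
      have h3 : a ∈ Z := (QuotientGroup.eq_one_iff _).1 hp.symm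
      rw [Bdef, hZc a h3 b hb]
      group
    · rcases hs q with h | h | h | h | h | h | h | h
      · rw [h, hw.zero] at hq
        exact Bz a ha b ((QuotientGroup.eq_one_iff _).1 hq.symm)
      · rw [Bcongr a ha b hb a ha (by rw [← hq, h, hp]), Bself]
      · rw [Bcongr a ha b hb a1 h1 (by rw [← hq, h, e1]), k1]
      · rw [Bcongr a ha b hb a2 h2 (by rw [← hq, h, e2]), k2]
      · rw [Bcongr a ha b hb (a * a1) (W.mul_mem ha h1)
          (by rw [← hq, h, hw.mul, hp, e1]; rfl), Bmul a ha a ha a1 h1, Bself, k1, mul_one]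
      · rw [Bcongr a ha b hb (a * a2) (W.mul_mem ha h2)
          (by rw [← hq, h, hw.mul, hp, e2]; rfl), Bmul a ha a ha a2 h2, Bself, k2, mul_one]
      · rw [Bcongr a ha b hb (a1 * a2) (W.mul_mem h1 h2)
          (by rw [← hq, h, hw.mul, e1, e2]; rfl), Bmul a ha a1 h1 a2 h2, k1, k2, mul_one]
      · rw [Bcongr a ha b hb (a * a1 * a2) (W.mul_mem (W.mul_mem ha h1) h2)
          (by rw [← hq, h, hw.mul, hw.mul, hp, e1, e2]; rfl),
          Bmul a ha _ (W.mul_mem ha h1) a2 h2, Bmul a ha a ha a1 h1, Bself, k1, k2, mul_one, mul_one]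
  have h3 : a * b * a⁻¹ * b⁻¹ = 1 := hab
  calc a * b = (a * b * a⁻¹ * b⁻¹) * (b * a) := by group
    _ = b * a := by rw [h3, one_mul]

/-- A minimal noncentral normal subgroup is elementary abelian. -/
theorem minc_sq (hr : R4 X) (hQ : L32 Q) (hy : y ^ 7 = 1) (hW : Minc Q W y) :
    ∀ v ∈ W, v * v = 1 := by
  have hWn := hW.normal
  have hW2 : IsPGroup 2 W := hQ.two.to_le hW.le
  have hcm := minc_comm hr hQ hy hW
  obtain ⟨N, hN, hNW, hNne, hNsq⟩ := sq_proper hQ hW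
  let Ω : Subgroup X :=
    { carrier := {v | v ∈ W ∧ v * v = 1}
      one_mem' := ⟨W.one_mem, mul_one 1⟩
      mul_mem' := by
        rintro a b ⟨ha, ha2⟩ ⟨hb, hb2⟩
        refine ⟨W.mul_mem ha hb, ?_⟩
        calc a * b * (a * b) = a * (b * a) * b := by group
          _ = a * (a * b) * b := by rw [hcm b hb a ha]
          _ = (a * a) * (b * b) := by group
          _ = 1 := by rw [ha2, hb2, one_mul]
      inv_mem' := by
        rintro a ⟨ha, ha2⟩
        refine ⟨W.inv_mem ha, ?_⟩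
        rw [← mul_inv_rev, ha2, inv_one] }
  have hΩn : Ω.Normal := ⟨fun v hv x => ⟨hWn.conj_mem v hv.1 x, by
    calc x * v * x⁻¹ * (x * v * x⁻¹) = x * (v * v) * x⁻¹ := by group
      _ = 1 := by rw [hv.2]; group⟩⟩
  have hΩW : Ω ≤ W := fun v hv => hv.1
  by_contra hcon
  have hne : Ω ≠ W := by
    intro h
    apply hcon
    intro v hv
    rw [← h] at hv
    exact hv.2
  obtain ⟨v, hv, hvy⟩ := hW.ne
  apply hvy
  have h1 : y * v * y⁻¹ ∈ W := hWn.conj_mem v hv y
  have h2 : y * v * y⁻¹ * v⁻¹ ∈ Ω := by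
    refine ⟨W.mul_mem h1 (W.inv_mem hv), ?_⟩
    have h3 := hW.min N hN hNW hNne _ (hNsq v hv)
    calc y * v * y⁻¹ * v⁻¹ * (y * v * y⁻¹ * v⁻¹) = y * v * y⁻¹ * (v⁻¹ * (y * v * y⁻¹)) * v⁻¹ := by group
      _ = y * v * y⁻¹ * ((y * v * y⁻¹) * v⁻¹) * v⁻¹ := by rw [hcm v⁻¹ (W.inv_mem hv) _ h1]
      _ = (y * (v * v) * y⁻¹) * (v * v)⁻¹ := by group
      _ = 1 := by rw [h3]; group
  exact comm_of_comm hW2 hy (hΩW h2) (hW.min Ω hΩn hΩW hne _ h2)

end

end Cfsg.Agent.GH.C2ThreeMinE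
end

-- part: GH/C2ThreeOne
section
/-!
# GH-C2 (T3), statement ONE

`X / Q = L₃(2)`, `Q` a 2-group, sectional 2-rank at most 4, `W` minimal among the normal subgroups of
`X` in `Q` not centralised by `y`, `y⁷ = 1`, and `y` centralises `Q / W`.  Then `Q = W`, or `|W| = 8`
and either all involutions of `X` lie in `W ⟨z₀⟩`, `z₀` a central involution, or `Q` is elementary
abelian of order 16 and `X` is transitive on `Q ∖ W`.
-/

set_option autoImplicit false
set_option maxHeartbeats 800000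

namespace Cfsg.Agent.GH.C2ThreeOne

open Subgroup Cfsg.Agent.TwoFusion.SectionalRank Cfsg.Agent.GH.C2Base Cfsg.Agent.GH.C2Five
open Cfsg.Agent.GH.C2ThreeNat Cfsg.Agent.GH.C2ThreeK0 Cfsg.Agent.GH.C2ThreeMin
open Cfsg.Agent.GH.C2ThreeMinE

variable {X : Type*} [Group X]

theorem hyp_of {Q W : Subgroup X} {y : X} (hQ : L32 Q) (hy : y ^ 7 = 1) (hW : Minc Q W y)
    (hsq : ∀ v ∈ W, v * v = 1) (hone : ∀ q ∈ Q, y * q * y⁻¹ * q⁻¹ ∈ W) : Hyp Q W y where
  l := hQ
  hy := hy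
  wn := hW.normal
  wq := hW.le
  w2 := hsq
  ne := hW.ne
  min N hN hlt := hW.min N hN hlt.le hlt.ne
  one := hone

/-- Statement ONE. -/
theorem one [Finite X] (hr : R4 X) {Q W : Subgroup X} {y : X} (hQ : L32 Q) (hy : y ^ 7 = 1)
    (hW : Minc Q W y) (hone : ∀ q ∈ Q, y * q * y⁻¹ * q⁻¹ ∈ W) :
    Q = W ∨
    (Nat.card W = 8 ∧ ∃ z0 ∈ Q, z0 ∉ W ∧ z0 * z0 = 1 ∧ (∀ x, x * z0 = z0 * x) ∧
      ∀ u : X, u * u = 1 → u ∈ W ∨ u * z0 ∈ W) ∨
    (Nat.card W = 8 ∧ Nat.card Q = 16 ∧ (∀ q ∈ Q, q * q = 1) ∧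
      ∀ a ∈ Q, a ∉ W → ∀ b ∈ Q, b ∉ W → ∃ x, x * a * x⁻¹ = b) := by
  have hsq := minc_sq hr hQ hy hW
  have h := hyp_of hQ hy hW hsq hone
  rcases shape hr hQ hy hW hsq with ⟨h8, -⟩ | ⟨h16, c, hcW, hc1, hcc, hfix⟩
  · rcases one8 hr h h8 with h1 | h1 | h1
    · exact Or.inl h1
    · exact Or.inr (Or.inl ⟨h8, h1⟩)
    · exact Or.inr (Or.inr ⟨h8, h1⟩)
  · exact Or.inl (one16 hr ⟨h, h16, hcW, hc1, hcc, hfix⟩)

end Cfsg.Agent.GH.C2ThreeOne
end
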