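import Mathlib
import Cfsg.Prelude.Def_Classical
import Cfsg.Agent.GH.Rank
set_option linter.all false

/-!
# Groups of sectional 2-rank at least five  (GH-0, S0500)

* `psl_four` : `PSL(4,q)` of sectional 2-rank at most 4, `q` odd, has `q ≢ 1 (mod 8)`.
* `psu_four` : `PSU(4,q)` of sectional 2-rank at most 4, `q` odd, has `q ≢ 7 (mod 8)`.
* `psl_five` : `PSL(5,q)` of sectional 2-rank at most 4, `q` odd, has `q ≡ 3 (mod 4)`.
* `psu_five` : `PSU(5,q)` of sectional 2-rank at most 4, `q` odd, has `q ≡ 1 (mod 4)`.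

The section used is `A V / Φ(A V)` with `V` the normal four-subgroup of the symmetric group of degree
four (as monomial matrices) and `A` the diagonal matrices generated by
`diag(t,t,t⁻¹,t⁻¹)`, `diag(t,t⁻¹,t,t⁻¹)`, `diag(t,t⁻¹,t⁻¹,t)`.
-/

set_option autoImplicit false
set_option maxHeartbeats 400000

namespace Cfsg.Agent.GH.RankLie

open Cfsg Cfsg.Agent.GH.Rank

/-! ### Monomial matrices -/

section Mon

variable {ι K : Type*} [Fintype ι] [DecidableEq ι] [Field K]

/-- The monomial matrix with `e_j ↦ x (σ j) • e_{σ j}`. -/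
def mm (x : ι → K) (σ : Equiv.Perm ι) : Matrix ι ι K := Matrix.of fun i j => if i = σ j then x i else 0

omit [Fintype ι] in
theorem mm_apply (x : ι → K) (σ : Equiv.Perm ι) (i j : ι) :
    mm x σ i j = if i = σ j then x i else 0 := rfl

theorem mm_mul (x y : ι → K) (σ τ : Equiv.Perm ι) :
    mm x σ * mm y τ = mm (fun i => x i * y (σ⁻¹ i)) (σ * τ) := by
  ext i k
  rw [Matrix.mul_apply, Finset.sum_eq_single (σ⁻¹ i)]
  · rw [mm_apply, mm_apply, mm_apply, if_pos (by simp), Equiv.Perm.mul_apply]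
    by_cases h : i = σ (τ k)
    · rw [if_pos h, if_pos (by rw [h]; simp)]
    · rw [if_neg h, if_neg, mul_zero]
      intro h'
      apply h
      rw [← h']
      simp
  · intro j _ hj
    rw [mm_apply, if_neg, zero_mul]
    intro h
    apply hj
    rw [h]
    simp
  · intro h
    exact absurd (Finset.mem_univ _) h

omit [Fintype ι] in
theorem mm_one : mm (fun _ : ι => (1 : K)) 1 = 1 := by
  ext i j
  rw [mm_apply, Matrix.one_apply]
  rfl

omit [Fintype ι] in
theorem mm_inj {x y : ι → K} (hx : ∀ i, x i ≠ 0) {σ τ : Equiv.Perm ι} (h : mm x σ = mm y τ) :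
    x = y ∧ σ = τ := by
  have h1 : ∀ j, σ j = τ j ∧ x (σ j) = y (σ j) := by
    intro j
    have h2 := congrFun (congrFun h (σ j)) j
    rw [mm_apply, mm_apply, if_pos rfl] at h2
    by_cases h3 : σ j = τ j
    · rw [if_pos h3] at h2
      exact ⟨h3, h2⟩
    · rw [if_neg h3] at h2
      exact absurd h2 (hx _)
  refine ⟨funext fun i => ?_, Equiv.ext fun j => (h1 j).1⟩
  have := (h1 (σ⁻¹ i)).2
  simpa using this

theorem mm_mulVec (x : ι → K) (σ : Equiv.Perm ι) (u : ι → K) (i : ι) :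
    (mm x σ).mulVec u i = x i * u (σ⁻¹ i) := by
  rw [Matrix.mulVec, dotProduct, Finset.sum_eq_single (σ⁻¹ i)]
  · rw [mm_apply, if_pos (by simp)]
  · intro j _ hj
    rw [mm_apply, if_neg, zero_mul]
    intro h
    apply hj
    rw [h]
    simp
  · intro h
    exact absurd (Finset.mem_univ _) h

theorem mm_det (x : ι → K) (σ : Equiv.Perm ι) :
    (mm x σ).det = (∏ i, x i) * ((Equiv.Perm.sign σ : ℤˣ) : ℤ) := by
  have h : mm x σ = mm x 1 * mm (fun _ => 1) σ := by
    rw [mm_mul]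
    congr 1
    · funext i
      rw [mul_one]
  have h1 : mm x 1 = Matrix.diagonal x := by
    ext i j
    rw [mm_apply, Matrix.diagonal_apply]
    rfl
  have h2 : mm (fun _ : ι => (1 : K)) σ = σ⁻¹.permMatrix K := by
    ext i j
    rw [mm_apply, Equiv.Perm.permMatrix, PEquiv.toMatrix_apply]
    by_cases h : i = σ j
    · subst h
      simp
    · rw [if_neg h, if_neg]
      intro h'
      apply h
      simp at h'
      rw [← h']
      simp
  rw [h, Matrix.det_mul, h1, Matrix.det_diagonal, h2, Matrix.det_permutation, Equiv.Perm.sign_inv]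

theorem mm_comm_iff {x : ι → K} (hx : ∀ i, x i ≠ 0) {σ π : Equiv.Perm ι}
    (h : mm x σ * mm (fun _ => 1) π = mm (fun _ => 1) π * mm x σ) :
    (∀ i, x i = x (π⁻¹ i)) ∧ σ * π = π * σ := by
  rw [mm_mul, mm_mul] at h
  have h1 := mm_inj (fun i => mul_ne_zero (hx i) one_ne_zero) h
  refine ⟨fun i => ?_, h1.2⟩
  have := congrFun h1.1 i
  simpa using this

end Mon

/-! ### The group `M = ℤ³ ⋊ V` -/

/-- The sign action of `V = ℤˣ × ℤˣ` on `ℤ³`. -/
def act : ℤˣ × ℤˣ →* MulAut (Multiplicative (ℤ × ℤ × ℤ)) where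
  toFun σ :=
    { toFun := fun v => Multiplicative.ofAdd ((σ.1 : ℤ) * (Multiplicative.toAdd v).1,
        (σ.2 : ℤ) * (Multiplicative.toAdd v).2.1, (σ.1 : ℤ) * (σ.2 : ℤ) * (Multiplicative.toAdd v).2.2)
      invFun := fun v => Multiplicative.ofAdd ((σ.1 : ℤ) * (Multiplicative.toAdd v).1,
        (σ.2 : ℤ) * (Multiplicative.toAdd v).2.1, (σ.1 : ℤ) * (σ.2 : ℤ) * (Multiplicative.toAdd v).2.2)
      left_inv := by
        intro v
        obtain ⟨⟨a, b, c⟩, rfl⟩ := Multiplicative.ofAdd.surjective v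
        rcases Int.units_eq_one_or σ.1 with h1 | h1 <;> rcases Int.units_eq_one_or σ.2 with h2 | h2 <;>
          simp [h1, h2]
      right_inv := by
        intro v
        obtain ⟨⟨a, b, c⟩, rfl⟩ := Multiplicative.ofAdd.surjective v
        rcases Int.units_eq_one_or σ.1 with h1 | h1 <;> rcases Int.units_eq_one_or σ.2 with h2 | h2 <;>
          simp [h1, h2]
      map_mul' := by
        intro v w
        obtain ⟨⟨a, b, c⟩, rfl⟩ := Multiplicative.ofAdd.surjective v
        obtain ⟨⟨a', b', c'⟩, rfl⟩ := Multiplicative.ofAdd.surjective w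
        apply Multiplicative.toAdd.injective
        simp only [toAdd_mul, toAdd_ofAdd, Prod.mk_add_mk, mul_add] }
  map_one' := by
    refine MulEquiv.ext fun v => ?_
    obtain ⟨⟨a, b, c⟩, rfl⟩ := Multiplicative.ofAdd.surjective v
    simp
  map_mul' σ τ := by
    refine MulEquiv.ext fun v => ?_
    obtain ⟨⟨a, b, c⟩, rfl⟩ := Multiplicative.ofAdd.surjective v
    simp [mul_assoc, mul_comm, mul_left_comm]

/-- The group `M`. -/
abbrev M : Type := Multiplicative (ℤ × ℤ × ℤ) ⋊[act] (ℤˣ × ℤˣ)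

/-- Its elementary abelian quotient of order `32`. -/
abbrev E : Type := Multiplicative (ZMod 2 × ZMod 2 × ZMod 2) × (ℤˣ × ℤˣ)

theorem card_E : Nat.card E = 32 := by
  rw [Nat.card_eq_fintype_card]
  rfl

theorem sq_E (e : E) : e ^ 2 = 1 := by
  revert e
  decide

/-- Reduction modulo two. -/
def red : M →* E := MonoidHom.mk' (fun m => (Multiplicative.ofAdd
    (((Multiplicative.toAdd m.left).1 : ZMod 2), ((Multiplicative.toAdd m.left).2.1 : ZMod 2),
      ((Multiplicative.toAdd m.left).2.2 : ZMod 2)), m.right)) (by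
  intro m m'
  refine Prod.ext ?_ rfl
  apply Multiplicative.toAdd.injective
  rw [SemidirectProduct.mul_left]
  rcases Int.units_eq_one_or m.right.1 with h1 | h1 <;>
    rcases Int.units_eq_one_or m.right.2 with h2 | h2 <;>
    simp [act, h1, h2])

theorem red_surjective : Function.Surjective red := by
  rintro ⟨v, σ⟩
  obtain ⟨⟨a, b, c⟩, rfl⟩ := Multiplicative.ofAdd.surjective v
  refine ⟨⟨Multiplicative.ofAdd ((a.val : ℤ), (b.val : ℤ), (c.val : ℤ)), σ⟩, ?_⟩
  refine Prod.ext ?_ rfl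
  apply Multiplicative.toAdd.injective
  simp [red]


/-! ### The monomial representation -/

section Rep

variable {n : ℕ} {K : Type*} [Field K]

/-- Tables: sign vectors `s₁, s₂, s₃` and the permutation action of `V`. -/
structure Tab (n : ℕ) where
  s : Fin 3 → Fin n → ℤ
  τ : ℤˣ × ℤˣ →* Equiv.Perm (Fin n)
  h0 : ∀ σ i, s 0 ((τ σ)⁻¹ i) = (σ.1 : ℤ) * s 0 i
  h1 : ∀ σ i, s 1 ((τ σ)⁻¹ i) = (σ.2 : ℤ) * s 1 i
  h2 : ∀ σ i, s 2 ((τ σ)⁻¹ i) = (σ.1 : ℤ) * (σ.2 : ℤ) * s 2 i
  sum : ∀ k, ∑ i, s k i = 0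
  sign : ∀ σ, Equiv.Perm.sign (τ σ) = 1

/-- The exponent of the `i`-th diagonal entry. -/
def Tab.ex (T : Tab n) (v : Multiplicative (ℤ × ℤ × ℤ)) (i : Fin n) : ℤ :=
  (Multiplicative.toAdd v).1 * T.s 0 i + (Multiplicative.toAdd v).2.1 * T.s 1 i +
    (Multiplicative.toAdd v).2.2 * T.s 2 i

theorem Tab.ex_mul (T : Tab n) (v w : Multiplicative (ℤ × ℤ × ℤ)) (i : Fin n) :
    T.ex (v * w) i = T.ex v i + T.ex w i := by
  simp only [Tab.ex, toAdd_mul, Prod.fst_add, Prod.snd_add]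
  ring

theorem Tab.ex_act (T : Tab n) (σ : ℤˣ × ℤˣ) (v : Multiplicative (ℤ × ℤ × ℤ)) (i : Fin n) :
    T.ex (act σ v) i = T.ex v ((T.τ σ)⁻¹ i) := by
  simp only [Tab.ex, T.h0, T.h1, T.h2]
  simp only [act, MonoidHom.coe_mk, OneHom.coe_mk, MulEquiv.coe_mk, Equiv.coe_fn_mk, toAdd_ofAdd]
  ring

theorem Tab.sum_ex (T : Tab n) (v : Multiplicative (ℤ × ℤ × ℤ)) : ∑ i, T.ex v i = 0 := by
  simp only [Tab.ex, Finset.sum_add_distrib, ← Finset.mul_sum, T.sum, mul_zero, add_zero]

theorem prod_zpow_eq {ι G : Type*} [CommGroup G] (s : Finset ι) (t : G) (f : ι → ℤ) :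
    ∏ i ∈ s, t ^ f i = t ^ ∑ i ∈ s, f i := by
  classical
  induction s using Finset.induction_on with
  | empty => simp
  | insert a s ha ih => rw [Finset.prod_insert ha, Finset.sum_insert ha, ih, zpow_add]

/-- The representation `M → SL(n, K)`. -/
noncomputable def Tab.rep (T : Tab n) (t : Kˣ) : M →* Matrix.SpecialLinearGroup (Fin n) K :=
  MonoidHom.mk' (fun m => ⟨mm (fun i => ((t ^ T.ex m.left i : Kˣ) : K)) (T.τ m.right), by
    rw [mm_det, T.sign, ← Units.coe_prod, prod_zpow_eq, T.sum_ex]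
    simp⟩) (by
    intro m m'
    apply Subtype.ext
    change mm _ _ = mm _ _ * mm _ _
    rw [mm_mul, SemidirectProduct.mul_right, map_mul]
    congr 1
    funext i
    rw [SemidirectProduct.mul_left, T.ex_mul, T.ex_act, zpow_add, Units.val_mul])

theorem Tab.coe_rep (T : Tab n) (t : Kˣ) (m : M) :
    ((T.rep t m : Matrix.SpecialLinearGroup (Fin n) K) : Matrix (Fin n) (Fin n) K) =
      mm (fun i => ((t ^ T.ex m.left i : Kˣ) : K)) (T.τ m.right) := rfl

/-- An even permutation matrix. -/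
def pm (K : Type*) [Field K] (π : Equiv.Perm (Fin n)) (h : Equiv.Perm.sign π = 1) :
    Matrix.SpecialLinearGroup (Fin n) K :=
  ⟨mm (fun _ => 1) π, by rw [mm_det, h]; simp⟩

theorem main [Finite K] (T : Tab n) (t : Kˣ) {S : Type*} [Group S] [Finite S]
    (ι : S →* Matrix.SpecialLinearGroup (Fin n) K) (f : M →* S) (hf : ∀ m, ι (f m) = T.rep t m)
    (hπ : ∀ π : Equiv.Perm (Fin n), ∀ h : Equiv.Perm.sign π = 1, ∃ s : S, ι s = pm K π h)
    (hker : ∀ m : M, (∀ i j, t ^ T.ex m.left i = t ^ T.ex m.left j) →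
      (∀ π : Equiv.Perm (Fin n), Equiv.Perm.sign π = 1 → T.τ m.right * π = π * T.τ m.right) →
      red m = 1) (htr : ∀ i j : Fin n, ∃ π : Equiv.Perm (Fin n), Equiv.Perm.sign π = 1 ∧ π⁻¹ i = j) :
    ¬ SectionalPRankLE 2 4 (S ⧸ Subgroup.center S) := by
  intro h
  have h1 := card_le_of_homs h ((QuotientGroup.mk' (Subgroup.center S)).comp f) red red_surjective
    (fun m hm => by
      have hm' : f m ∈ Subgroup.center S := (QuotientGroup.eq_one_iff (f m)).1 hm
      have hc : ∀ π : Equiv.Perm (Fin n), Equiv.Perm.sign π = 1 →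
          (∀ i, ((t ^ T.ex m.left i : Kˣ) : K) = ((t ^ T.ex m.left (π⁻¹ i) : Kˣ) : K)) ∧
            T.τ m.right * π = π * T.τ m.right := by
        intro π hs
        obtain ⟨s, hs'⟩ := hπ π hs
        have h2 := (Subgroup.mem_center_iff.1 hm') s
        have h3 := congrArg ι h2
        rw [map_mul, map_mul, hs', hf] at h3
        have h4 := congrArg Subtype.val h3
        exact mm_comm_iff (fun i => Units.ne_zero _) h4.symm
      refine hker m (fun i j => ?_) (fun π hs => (hc π hs).2)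
      obtain ⟨π, hs, hij⟩ := htr i j
      have := (hc π hs).1 i
      rw [hij] at this
      exact Units.ext this) sq_E
  rw [card_E] at h1
  norm_num at h1

end Rep

/-! ### Degree four -/

/-- The permutation action of `V` in degree four. -/
def tau4 : ℤˣ × ℤˣ →* Equiv.Perm (Fin 4) where
  toFun σ := if σ.1 = 1 then (if σ.2 = 1 then 1 else Equiv.swap 0 1 * Equiv.swap 2 3)
    else (if σ.2 = 1 then Equiv.swap 0 2 * Equiv.swap 1 3 else Equiv.swap 0 3 * Equiv.swap 1 2)
  map_one' := rfl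
  map_mul' := by decide

/-- The table in degree four. -/
def tab4 : Tab 4 where
  s := ![![1, 1, -1, -1], ![1, -1, 1, -1], ![1, -1, -1, 1]]
  τ := tau4
  h0 := by decide
  h1 := by decide
  h2 := by decide
  sum := by decide
  sign := by decide

/-- The permutation action of `V` in degree five. -/
def tau5 : ℤˣ × ℤˣ →* Equiv.Perm (Fin 5) where
  toFun σ := if σ.1 = 1 then (if σ.2 = 1 then 1 else Equiv.swap 0 1 * Equiv.swap 2 3)
    else (if σ.2 = 1 then Equiv.swap 0 2 * Equiv.swap 1 3 else Equiv.swap 0 3 * Equiv.swap 1 2)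
  map_one' := rfl
  map_mul' := by decide

/-- The table in degree five. -/
def tab5 : Tab 5 where
  s := ![![1, 1, -1, -1, 0], ![1, -1, 1, -1, 0], ![1, -1, -1, 1, 0]]
  τ := tau5
  h0 := by decide
  h1 := by decide
  h2 := by decide
  sum := by decide
  sign := by decide

theorem red_eq_one {m : M} (ha : (2 : ℤ) ∣ (Multiplicative.toAdd m.left).1)
    (hb : (2 : ℤ) ∣ (Multiplicative.toAdd m.left).2.1)
    (hc : (2 : ℤ) ∣ (Multiplicative.toAdd m.left).2.2) (hr : m.right = 1) : red m = 1 := by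
  refine Prod.ext ?_ hr
  apply Multiplicative.toAdd.injective
  have h : ∀ z : ℤ, (2 : ℤ) ∣ z → ((z : ZMod 2)) = 0 := fun z hz =>
    (ZMod.intCast_zmod_eq_zero_iff_dvd z 2).2 (by exact_mod_cast hz)
  refine Prod.ext (h _ ha) (Prod.ext (h _ hb) (h _ hc))

section Final

set_option linter.unusedSectionVars false

variable {K : Type*} [Field K] [Finite K]

theorem htr4 (i j : Fin 4) : ∃ π : Equiv.Perm (Fin 4), Equiv.Perm.sign π = 1 ∧ π⁻¹ i = j := by
  have h : ∀ i j : Fin 4, ∃ σ : ℤˣ × ℤˣ, (tau4 σ)⁻¹ i = j := by decide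
  obtain ⟨σ, hσ⟩ := h i j
  exact ⟨tau4 σ, tab4.sign σ, hσ⟩

theorem htr5 (i j : Fin 5) : ∃ π : Equiv.Perm (Fin 5), Equiv.Perm.sign π = 1 ∧ π⁻¹ i = j := by
  have h : ∀ i j : Fin 5, ∃ k : Fin 5, (finRotate 5 ^ (k : ℕ))⁻¹ i = j := by decide
  obtain ⟨k, hk⟩ := h i j
  refine ⟨finRotate 5 ^ (k : ℕ), ?_, hk⟩
  have h1 : Equiv.Perm.sign (finRotate 5) = 1 := by decide
  rw [map_pow, h1, one_pow]

theorem hker4 {t : Kˣ} (ht : orderOf t = 8) (m : M)
    (h1 : ∀ i j, t ^ tab4.ex m.left i = t ^ tab4.ex m.left j)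
    (h2 : ∀ π : Equiv.Perm (Fin 4), Equiv.Perm.sign π = 1 →
      tab4.τ m.right * π = π * tab4.τ m.right) : red m = 1 := by
  have h3 : m.right = 1 := by
    have h4 : ∀ σ : ℤˣ × ℤˣ, tau4 σ * (Equiv.swap 0 1 * Equiv.swap 1 2) =
      (Equiv.swap 0 1 * Equiv.swap 1 2) * tau4 σ → σ = 1 := by decide
    exact h4 _ (h2 _ (by decide))
  have h5 : ∀ i j, (8 : ℤ) ∣ tab4.ex m.left i - tab4.ex m.left j := by
    intro i j
    have h6 : t ^ (tab4.ex m.left i - tab4.ex m.left j) = 1 := by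
      rw [zpow_sub, h1 i j, mul_inv_cancel]
    have := orderOf_dvd_iff_zpow_eq_one.2 h6
    rw [ht] at this
    exact_mod_cast this
  have e0 := h5 0 1
  have e1 := h5 0 2
  have e2 := h5 0 3
  simp only [Tab.ex, tab4, Matrix.cons_val_zero, Matrix.cons_val_one, Matrix.cons_val] at e0 e1 e2
  exact red_eq_one (by omega) (by omega) (by omega) h3

theorem hker5 {t : Kˣ} (ht : orderOf t = 4) (m : M)
    (h1 : ∀ i j, t ^ tab5.ex m.left i = t ^ tab5.ex m.left j)
    (h2 : ∀ π : Equiv.Perm (Fin 5), Equiv.Perm.sign π = 1 →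
      tab5.τ m.right * π = π * tab5.τ m.right) : red m = 1 := by
  have h3 : m.right = 1 := by
    have h4 : ∀ σ : ℤˣ × ℤˣ, tau5 σ * (Equiv.swap 0 1 * Equiv.swap 1 2) =
      (Equiv.swap 0 1 * Equiv.swap 1 2) * tau5 σ → σ = 1 := by decide
    exact h4 _ (h2 _ (by decide))
  have h5 : ∀ i j, (4 : ℤ) ∣ tab5.ex m.left i - tab5.ex m.left j := by
    intro i j
    have h6 : t ^ (tab5.ex m.left i - tab5.ex m.left j) = 1 := by
      rw [zpow_sub, h1 i j, mul_inv_cancel]
    have := orderOf_dvd_iff_zpow_eq_one.2 h6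
    rw [ht] at this
    exact_mod_cast this
  have e0 := h5 0 4
  have e1 := h5 1 4
  have e2 := h5 2 4
  have e3 := h5 3 4
  simp only [Tab.ex, tab5, Matrix.cons_val_zero, Matrix.cons_val_one, Matrix.cons_val] at e0 e1 e2 e3
  exact red_eq_one (by omega) (by omega) (by omega) h3

/-- Elements of given order in the multiplicative group of a finite field. -/
theorem exists_orderOf (d : ℕ) (h : d ∣ Nat.card K - 1) : ∃ t : Kˣ, orderOf t = d := by
  have := Fintype.ofFinite K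
  classical
  obtain ⟨g, hg⟩ := IsCyclic.exists_generator (α := Kˣ)
  have h1 : orderOf g = Nat.card K - 1 := by
    rw [orderOf_eq_card_of_forall_mem_zpowers hg, Nat.card_eq_fintype_card, Fintype.card_units,
      Nat.card_eq_fintype_card]
  obtain ⟨k, hk⟩ := h
  have h2 : 0 < Nat.card K - 1 := by
    rw [← h1]
    exact orderOf_pos g
  refine ⟨g ^ k, ?_⟩
  have hk0 : k ≠ 0 := by
    rintro rfl
    omega
  rw [orderOf_pow_of_dvd hk0 (by rw [h1, hk]; exact dvd_mul_left k d), h1, hk,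
    Nat.mul_div_cancel _ (Nat.pos_of_ne_zero hk0)]

/-- `PSL(4,q)`, `q ≡ 1 (mod 8)`, has sectional 2-rank at least five. -/
theorem psl_four_not (h8 : Nat.card K % 8 = 1) :
    ¬ SectionalPRankLE 2 4 (Matrix.ProjectiveSpecialLinearGroup (Fin 4) K) := by
  obtain ⟨t, ht⟩ := exists_orderOf (K := K) 8 (by omega)
  exact main tab4 t (MonoidHom.id _) (tab4.rep t) (fun _ => rfl) (fun π h => ⟨pm K π h, rfl⟩)
    (hker4 ht) htr4

/-- `PSL(5,q)`, `q ≡ 1 (mod 4)`, has sectional 2-rank at least five. -/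
theorem psl_five_not (h4 : Nat.card K % 4 = 1) :
    ¬ SectionalPRankLE 2 4 (Matrix.ProjectiveSpecialLinearGroup (Fin 5) K) := by
  obtain ⟨t, ht⟩ := exists_orderOf (K := K) 4 (by omega)
  exact main tab5 t (MonoidHom.id _) (tab5.rep t) (fun _ => rfl) (fun π h => ⟨pm K π h, rfl⟩)
    (hker5 ht) htr5

theorem mm_herm {n q : ℕ} {x : Fin n → K} (hx : ∀ i, x i ^ (q + 1) = 1) (σ : Equiv.Perm (Fin n))
    (u v : Fin n → K) :
    hermForm n K q ((mm x σ).mulVec u) ((mm x σ).mulVec v) = hermForm n K q u v := by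
  unfold hermForm
  rw [← Equiv.sum_comp σ]
  refine Finset.sum_congr rfl fun i _ => ?_
  rw [mm_mulVec, mm_mulVec, show σ⁻¹ (σ i) = i by simp]
  calc x (σ i) * u i * (x (σ i) * v i) ^ q = x (σ i) ^ (q + 1) * (u i * v i ^ q) := by ring
    _ = u i * v i ^ q := by rw [hx, one_mul]

theorem slToMat_apply {n : ℕ} (g : Matrix.SpecialLinearGroup (Fin n) K) :
    slToMat n K g = (g : Matrix (Fin n) (Fin n) K) := rfl

theorem psu_aux {n q : ℕ} (T : Tab n) (t : Kˣ) (ht : t ^ (q + 1) = 1)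
    (hker : ∀ m : M, (∀ i j, t ^ T.ex m.left i = t ^ T.ex m.left j) →
      (∀ π : Equiv.Perm (Fin n), Equiv.Perm.sign π = 1 → T.τ m.right * π = π * T.τ m.right) →
      red m = 1) (htr : ∀ i j : Fin n, ∃ π : Equiv.Perm (Fin n), Equiv.Perm.sign π = 1 ∧ π⁻¹ i = j) :
    ¬ SectionalPRankLE 2 4 (PSU n K q) := by
  have h1 : ∀ m : M, T.rep t m ∈ SU n K q := by
    intro m u v
    rw [slToMat_apply, T.coe_rep]
    refine mm_herm (fun i => ?_) _ u v
    rw [← Units.val_pow_eq_pow_val, ← zpow_natCast, ← zpow_mul, mul_comm, zpow_mul, zpow_natCast, ht,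
      one_zpow, Units.val_one]
  have h2 : ∀ (π : Equiv.Perm (Fin n)) (h : Equiv.Perm.sign π = 1), pm K π h ∈ SU n K q := by
    intro π h u v
    rw [slToMat_apply]
    exact mm_herm (fun i => one_pow _) _ u v
  exact main T t (SU n K q).subtype ((T.rep t).codRestrict (SU n K q) h1) (fun _ => rfl)
    (fun π h => ⟨⟨pm K π h, h2 π h⟩, rfl⟩) hker htr

theorem card_sub_one {q : ℕ} (hK : Nat.card K = q ^ 2) : q + 1 ∣ Nat.card K - 1 := by
  have hq : 1 ≤ q := by
    rcases Nat.eq_zero_or_pos q with rfl | h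
    · have : 0 < Nat.card K := Nat.card_pos
      rw [hK] at this
      simp at this
    · exact h
  refine ⟨q - 1, ?_⟩
  rw [hK]
  obtain ⟨r, rfl⟩ := Nat.exists_eq_add_of_le' hq
  simp only [Nat.add_sub_cancel]
  have : (r + 1) ^ 2 = (r + 1 + 1) * r + 1 := by ring
  omega

/-- `PSU(4,q)`, `q ≡ 7 (mod 8)`, has sectional 2-rank at least five. -/
theorem psu_four_not {q : ℕ} (hK : Nat.card K = q ^ 2) (h8 : q % 8 = 7) :
    ¬ SectionalPRankLE 2 4 (PSU 4 K q) := by
  have h9 : 8 ∣ q + 1 := by omega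
  obtain ⟨t, ht⟩ := exists_orderOf (K := K) 8 (h9.trans (card_sub_one hK))
  exact psu_aux tab4 t (orderOf_dvd_iff_pow_eq_one.1 (by rw [ht]; exact h9)) (hker4 ht) htr4

/-- `PSU(5,q)`, `q ≡ 3 (mod 4)`, has sectional 2-rank at least five. -/
theorem psu_five_not {q : ℕ} (hK : Nat.card K = q ^ 2) (h4 : q % 4 = 3) :
    ¬ SectionalPRankLE 2 4 (PSU 5 K q) := by
  have h9 : 4 ∣ q + 1 := by omega
  obtain ⟨t, ht⟩ := exists_orderOf (K := K) 4 (h9.trans (card_sub_one hK))
  exact psu_aux tab5 t (orderOf_dvd_iff_pow_eq_one.1 (by rw [ht]; exact h9)) (hker5 ht) htr5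

end Final

/-! ### The forms used for S0500 -/

variable {G : Type*} [Group G] [Finite G]

theorem psl_four (h : SectionalPRankLE 2 4 G) {F : Type*} [Field F] [Fintype F]
    (e : G ≃* Matrix.ProjectiveSpecialLinearGroup (Fin 4) F) : Fintype.card F % 8 ≠ 1 := by
  intro h8
  rw [← Nat.card_eq_fintype_card] at h8
  exact psl_four_not h8 (of_equiv h e)

theorem psl_five (h : SectionalPRankLE 2 4 G) {F : Type*} [Field F] [Fintype F]
    (hF : Odd (Fintype.card F)) (e : G ≃* Matrix.ProjectiveSpecialLinearGroup (Fin 5) F) :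
    Fintype.card F % 4 = 3 := by
  by_contra h4
  have h5 : Nat.card F % 4 = 1 := by
    rw [Nat.card_eq_fintype_card]
    rw [Nat.odd_iff] at hF
    omega
  exact psl_five_not h5 (of_equiv h e)

theorem psu_four (h : SectionalPRankLE 2 4 G) {F : Type*} [Field F] [Fintype F] {q : ℕ}
    (hF : Fintype.card F = q ^ 2) (e : G ≃* PSU 4 F q) : q % 8 ≠ 7 := by
  intro h8
  rw [← Nat.card_eq_fintype_card] at hF
  exact psu_four_not hF h8 (of_equiv h e)

theorem psu_five (h : SectionalPRankLE 2 4 G) {F : Type*} [Field F] [Fintype F] {q : ℕ}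
    (hF : Fintype.card F = q ^ 2) (hq : Odd q) (e : G ≃* PSU 5 F q) : q % 4 = 1 := by
  by_contra h4
  have h5 : q % 4 = 3 := by
    rw [Nat.odd_iff] at hq
    omega
  rw [← Nat.card_eq_fintype_card] at hF
  exact psu_five_not hF h5 (of_equiv h e)

end Cfsg.Agent.GH.RankLie
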