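import Cfsg.Agent.GH.L2AutSyl_m3
import Cfsg.Agent.ClassicalGeometry.PSL2Basic
import Cfsg.Agent.FastGrp
import Cfsg.Agent.Prune
set_option linter.all false

section
prune_inst 0x7ffcfdf9afb9bfffdfff7e7faef9dffff9b17fffefdff9cbbfec29efafdf6b0ac9e5abad0fe802fe0ee3629400f87b53fffffeffea6bfc7ffffd5df45ffbffcffdf7bd08519688340fbc0ffe03f0778e7f3fffffffffffffffffffffffffffbeffffffffffff

-- part: GH/L2AutD
section
prune_inst 0x10006104040000000018050060000060c800010200400400040100000040406025042800018011114800295000000000001000400020000000200800000100000000000081080000000016800080000000000000000000000000000000000000000000000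
set_option linter.all false
open scoped Cfsg.Agent.FastGrp

/-!
# Outer 2-elements of `PGL(2,F)` on a Sylow 2-subgroup of `L ≅ PSL(2,F)`

* `Rep.outer_frame` : a 2-element `ψ ∈ PGL ∖ Inn` normalizing `S` : either `ψ² = 1`, `ψ d = d⁻¹`,
  `ψ r = d r` or `ψ² = conj d`, `ψ d = d`, `ψ r = d r`;
* `Rep.dtype_frame`, `Rep.dtype_fix` : for an involution `φ ∈ PGL ∖ Inn`;
* `Rep.dtype_conj` : all involutions of `PGL ∖ Inn` are conjugate under `L`;
* `Rep.dtype_no_four` : they fix no pair of distinct commuting involutions;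
* `Rep.inv_cent` : the centralizer in `PGL` of an involution.
-/

set_option autoImplicit false

namespace Cfsg.Agent.GH.L2Aut

open scoped Pointwise
open Cfsg.Agent.Lib.SL2Mat Cfsg.Agent.Lib.AutSL2 Cfsg.Agent.Lib.AutSL2Out

section gp

variable {G : Type*} [Group G]

theorem isPGroup_zpowers {x : G} (hx : ∃ n, x ^ 2 ^ n = 1) : IsPGroup 2 (Subgroup.zpowers x) := by
  obtain ⟨n, hn⟩ := hx
  rintro ⟨y, hy⟩
  obtain ⟨k, rfl⟩ := Subgroup.mem_zpowers_iff.1 hy
  refine ⟨n, Subtype.ext ?_⟩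
  change (x ^ k) ^ 2 ^ n = 1
  rw [← zpow_natCast, ← zpow_mul, mul_comm, zpow_mul, zpow_natCast, hn, one_zpow]

theorem exists_pow_of_mem {P : Subgroup G} (hP : IsPGroup 2 P) {x : G} (hx : x ∈ P) :
    ∃ n, x ^ 2 ^ n = 1 := by
  obtain ⟨n, hn⟩ := hP ⟨x, hx⟩
  exact ⟨n, congrArg Subtype.val hn⟩

namespace Dih

variable {S : Subgroup G} {d r : G}

/-- replacing `d` by an odd power -/
theorem power [Finite G] (h : Dih S d r) (hS : IsPGroup 2 S) {k : ℤ} (hk : Odd k) : Dih S (d ^ k) r := by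
  have h1 : d ∈ Subgroup.zpowers (d ^ k) := zpowers_odd (exists_pow_of_mem hS h.d_mem) hk
  have h2 : ∀ m : ℤ, d ^ m ∈ Subgroup.zpowers (d ^ k) := fun m => zpow_mem h1 m
  exact
    { d_mem := zpow_mem h.d_mem k
      r_mem := h.r_mem
      d1 := by
        intro h3
        rw [h3, Subgroup.zpowers_one_eq_bot, Subgroup.mem_bot] at h1
        exact h.d1 h1
      r_not := by
        intro h3
        apply h.r_not
        have h4 : Subgroup.zpowers (d ^ k) ≤ Subgroup.zpowers d := by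
          rw [Subgroup.zpowers_le]; exact zpow_mem (Subgroup.mem_zpowers d) k
        exact h4 h3
      rr := h.rr
      rd := by rw [h.r_pow, zpow_neg]
      cov := by
        intro x hx
        rcases h.cov x hx with h3 | ⟨m, rfl⟩
        · obtain ⟨m, rfl⟩ := Subgroup.mem_zpowers_iff.1 h3
          exact Or.inl (h2 m)
        · obtain ⟨n, hn⟩ := Subgroup.mem_zpowers_iff.1 (h2 m)
          exact Or.inr ⟨n, by rw [hn]⟩ }

end Dih

end gp

namespace Rep

variable {F : Type*} [Field F] {L : Type*} [Group L] (R : Rep F L) [Finite F]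

local notation "SL2" => Matrix.SpecialLinearGroup (Fin 2) F
local notation "M2" => Matrix (Fin 2) (Fin 2) F

include R in
/-- the 2-group `conj S ⟨ψ⟩` -/
theorem exists_two_group (S : Sylow 2 L) {ψ : MulAut L} (h2 : ∃ n, ψ ^ 2 ^ n = 1)
    (hS : ∀ s ∈ S, ψ s ∈ S) : ∃ P : Subgroup (MulAut L), IsPGroup 2 P ∧ ψ ∈ P ∧
      (S : Subgroup L).map MulAut.conj ≤ P ∧
      (∀ x ∈ P, ∃ (s : L) (k : ℤ), s ∈ S ∧ x = MulAut.conj s * ψ ^ k) := by
  have := R.finite
  have := R.finite_aut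
  let A : Subgroup (MulAut L) := (S : Subgroup L).map MulAut.conj
  have hn : Subgroup.zpowers ψ ≤ Subgroup.normalizer (A : Set (MulAut L)) := by
    rw [Subgroup.zpowers_le, Subgroup.mem_normalizer_iff]
    have h3 : A.map (MulAut.conj ψ).toMonoidHom = A := by
      apply Subgroup.eq_of_le_of_card_ge
      · rintro _ ⟨_, ⟨s, hs, rfl⟩, rfl⟩
        refine ⟨ψ s, hS s hs, ?_⟩
        exact (conj_conj ψ s).symm
      · exact (Nat.card_congr (A.equivMapOfInjective (MulAut.conj ψ).toMonoidHom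
          (MulAut.conj ψ).injective).toEquiv).le
    intro s
    constructor
    · intro hs
      rw [← h3]
      exact ⟨s, hs, rfl⟩
    · intro hs
      have h4 : ψ * s * ψ⁻¹ ∈ A.map (MulAut.conj ψ).toMonoidHom := by rw [h3]; exact hs
      obtain ⟨t, ht, hts⟩ := h4
      have h5 : t = s := (MulAut.conj ψ).injective hts
      rw [← h5]; exact ht
  refine ⟨A ⊔ Subgroup.zpowers ψ, (map_conj_two S).to_sup_of_normal_left' (isPGroup_zpowers h2) hn,
    (le_sup_right : _ ≤ A ⊔ Subgroup.zpowers ψ) (Subgroup.mem_zpowers ψ), le_sup_left, ?_⟩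
  intro x hx
  have h3 : (x : MulAut L) ∈ (A : Set (MulAut L)) * (Subgroup.zpowers ψ : Set (MulAut L)) := by
    rw [← Subgroup.coe_mul_of_right_le_normalizer_left A _ hn]
    exact hx
  obtain ⟨_, ⟨s, hs, rfl⟩, y, hy, rfl⟩ := Set.mem_mul.1 h3
  obtain ⟨k, rfl⟩ := Subgroup.mem_zpowers_iff.1 hy
  exact ⟨s, k, hs, rfl⟩

/-- **outer 2-elements of `PGL` on `S`** -/
theorem outer_frame (S : Sylow 2 L) {ψ : MulAut L} (h1 : ψ ∈ R.PGL) (h2 : ψ ∉ Inn L)
    (h3 : ∃ n, ψ ^ 2 ^ n = 1) (hS : ∀ s ∈ S, ψ s ∈ S) :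
    ∃ d r, Dih (S : Subgroup L) d r ∧ ψ r = d * r ∧
      ((ψ * ψ = 1 ∧ ψ d = d⁻¹) ∨ (ψ * ψ = MulAut.conj d ∧ ψ d = d)) := by
  have := R.finite
  have := R.finite_aut
  obtain ⟨P, hP, hψP, hSP, hgen⟩ := R.exists_two_group S h3 hS
  have hle : P ≤ R.PGL := by
    intro x hx
    obtain ⟨s, k, -, rfl⟩ := hgen x hx
    exact mul_mem (R.conj_mem_PGL s) (zpow_mem h1 k)
  obtain ⟨c, d₀, r, hcc, hcI, hd₀, hPd⟩ := R.dih_plus S hP hle hSP (fun h => h2 (h hψP))
  have hodd : ∀ k : ℤ, c ^ k ∉ Inn L → Odd k := by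
    intro k hk
    rw [← Int.not_even_iff_odd]
    rintro ⟨n, hn⟩
    apply hk
    rw [hn, zpow_add, ← (Commute.refl c).mul_zpow, hcc, ← map_zpow]
    exact ⟨_, rfl⟩
  have hrI : MulAut.conj r ∈ Inn L := ⟨r, rfl⟩
  have hc2 : ∀ k : ℤ, c ^ k * c ^ k = MulAut.conj (d₀ ^ k) := by
    intro k
    rw [map_zpow, ← hcc, (Commute.refl c).mul_zpow]
  rcases hPd.cov ψ hψP with hcase | ⟨k, hk⟩
  · obtain ⟨k, rfl⟩ := Subgroup.mem_zpowers_iff.1 hcase
    have hk := hodd k h2
    refine ⟨d₀ ^ k, r, hd₀.power S.2 hk, ?_, Or.inr ⟨hc2 k, ?_⟩⟩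
    · apply R.conj_injective
      rw [← conj_conj, map_mul, ← hc2]
      have h4 := hPd.r_pow' (-k)
      rw [neg_neg] at h4
      rw [mul_assoc, ← zpow_neg, h4, mul_assoc]
    · apply R.conj_injective
      rw [← conj_conj, ← hc2]
      group
  · have hkI : c ^ k ∉ Inn L := by
      intro h
      apply h2
      rw [hk]
      exact mul_mem h hrI
    have hk' := hodd k hkI
    refine ⟨d₀ ^ k, r, hd₀.power S.2 hk', ?_, Or.inl ⟨?_, ?_⟩⟩
    · apply R.conj_injective
      rw [← conj_conj, map_mul, ← hc2, hk]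
      have h4 := hPd.r_pow' (-k)
      rw [neg_neg] at h4
      have h5 : (c ^ k * MulAut.conj r)⁻¹ = MulAut.conj r * c ^ (-k) := by
        rw [mul_inv_rev, hPd.rinv, zpow_neg]
      rw [h5, h4]
      have h6 : c ^ k * MulAut.conj r * MulAut.conj r = c ^ k := by
        rw [mul_assoc, hPd.rr, mul_one]
      rw [h6, mul_assoc]
    · rw [hk]; exact hPd.pow_r_sq k
    · apply R.conj_injective
      rw [← conj_conj, hk, map_inv, ← hc2, ← zpow_add]
      have := hPd.pow_r_conj k (k + k)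
      rw [this, zpow_neg]

/-- an involution `φ ∈ PGL ∖ Inn` normalizing `S` -/
theorem dtype_frame (S : Sylow 2 L) {φ : MulAut L} (h1 : φ ∈ R.PGL) (h2 : φ ∉ Inn L)
    (h3 : φ * φ = 1) (hS : ∀ s ∈ S, φ s ∈ S) :
    ∃ d r, Dih (S : Subgroup L) d r ∧ φ d = d⁻¹ ∧ φ r = d * r := by
  obtain ⟨d, r, hd, hr, h | h⟩ := R.outer_frame S h1 h2 ⟨1, by rw [pow_one, sq, h3]⟩ hS
  · exact ⟨d, r, hd, h.2, hr⟩
  · exfalso
    apply hd.d1
    apply R.conj_injective
    rw [← h.1, h3, map_one]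

/-- an involution `φ ∈ PGL ∖ Inn` normalizing `S` centralizes in `S` just a group of order two -/
theorem dtype_fix (S : Sylow 2 L) {φ : MulAut L} (h1 : φ ∈ R.PGL) (h2 : φ ∉ Inn L)
    (h3 : φ * φ = 1) (hS : ∀ s ∈ S, φ s ∈ S) :
    ∃ z ∈ S, z * z = 1 ∧ z ≠ 1 ∧ φ z = z ∧ (∀ x ∈ S, x * z = z * x) ∧
      ∀ x ∈ S, φ x = x → x = 1 ∨ x = z := by
  have := R.finite
  obtain ⟨d, r, hd, hφd, hφr⟩ := R.dtype_frame S h1 h2 h3 hS
  obtain ⟨n, hn, hzz, hz1⟩ := hd.exists_z S.2
  have hinv : (d ^ 2 ^ n)⁻¹ = d ^ 2 ^ n := inv_eq_of_mul_eq_one_left hzz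
  refine ⟨d ^ 2 ^ n, pow_mem hd.d_mem _, hzz, hz1, by rw [map_pow, hφd, inv_pow, hinv], ?_, ?_⟩
  · intro x hx
    have hcd : ∀ k : ℤ, d ^ k * d ^ 2 ^ n = d ^ 2 ^ n * d ^ k := fun k =>
      ((Commute.refl d).zpow_left k).pow_right _
    have hr : r * d ^ 2 ^ n = d ^ 2 ^ n * r := by
      have := hd.r_pow' ((2 ^ n : ℕ) : ℤ)
      rw [zpow_natCast, zpow_neg, zpow_natCast, hinv] at this
      exact this
    rcases hd.cov x hx with h | ⟨k, rfl⟩
    · obtain ⟨k, rfl⟩ := Subgroup.mem_zpowers_iff.1 h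
      exact hcd k
    · rw [mul_assoc, hr, ← mul_assoc, hcd, mul_assoc]
  · intro x hx hfix
    rcases hd.cov x hx with h | ⟨k, rfl⟩
    · obtain ⟨k, rfl⟩ := Subgroup.mem_zpowers_iff.1 h
      rw [map_zpow, hφd, inv_zpow] at hfix
      by_contra hcon
      push Not at hcon
      have hxx : d ^ k * d ^ k = 1 := by
        nth_rw 1 [← hfix]
        exact inv_mul_cancel _
      refine four_not_cyc (c := d) (a := d ^ k) (b := d ^ 2 ^ n)
        { aa := hxx, bb := hzz, a1 := hcon.1, b1 := hz1, ne := hcon.2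
          comm := ((Commute.refl d).zpow_left k).pow_right _ } (zpow_mem (Subgroup.mem_zpowers d) k)
          (pow_mem (Subgroup.mem_zpowers d) _)
    · exfalso
      rw [map_mul, map_zpow, hφd, hφr, ← mul_assoc] at hfix
      have h4 := mul_right_cancel hfix
      have h5 : d ^ (2 * k - 1) = 1 := by
        have h6 : d ^ (2 * k - 1) = (d⁻¹ ^ k * d)⁻¹ * d ^ k := by
          rw [inv_zpow]
          have e1 : (2 * k - 1) = -1 + k + k := by ring
          rw [e1, zpow_add, zpow_add]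
          group
        rw [h6, h4, inv_mul_cancel]
      have h6 := zpowers_odd (exists_pow_of_mem S.2 hd.d_mem) (k := 2 * k - 1) ⟨k - 1, by ring⟩
      rw [h5, Subgroup.zpowers_one_eq_bot, Subgroup.mem_bot] at h6
      exact hd.d1 h6

/-- they fix no four-group -/
theorem dtype_no_four {φ : MulAut L} (h1 : φ ∈ R.PGL) (h2 : φ ∉ Inn L) {a b : L} (h : Four a b)
    (ha : φ a = a) (hb : φ b = b) : False := by
  apply h2
  rcases R.fix_four h h1 ha hb with h | h | h | h
  · exact ⟨1, by rw [h, map_one]⟩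
  · exact ⟨_, h.symm⟩
  · exact ⟨_, h.symm⟩
  · exact ⟨_, h.symm⟩

/-- all involutions of `PGL ∖ Inn` are conjugate under `L` -/
theorem dtype_conj {φ φ' : MulAut L} (h1 : φ ∈ R.PGL) (h2 : φ ∉ Inn L) (h3 : φ * φ = 1)
    (h1' : φ' ∈ R.PGL) (h2' : φ' ∉ Inn L) (h3' : φ' * φ' = 1) :
    ∃ x : L, MulAut.conj x * φ * (MulAut.conj x)⁻¹ = φ' := by
  obtain ⟨g, rfl⟩ := R.mem_PGL.1 h1
  obtain ⟨g', rfl⟩ := R.mem_PGL.1 h1'
  have hg1 : R.gl g ≠ 1 := by intro h; exact h2 (by rw [h]; exact one_mem _)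
  have hg1' : R.gl g' ≠ 1 := by intro h; exact h2' (by rw [h]; exact one_mem _)
  have ht := R.tr_of_inv hg1 h3
  have ht' := R.tr_of_inv hg1' h3'
  have hns := R.not_scalar_of_ne hg1
  have hns' := R.not_scalar_of_ne hg1'
  rw [R.gl_mem_inn] at h2 h2'
  obtain ⟨e, he⟩ := isSquare_mul_of_not h2 h2'
  have hd : g.1.det ≠ 0 := (Matrix.GeneralLinearGroup.det g).ne_zero
  have hd' : g'.1.det ≠ 0 := (Matrix.GeneralLinearGroup.det g').ne_zero
  have he0 : e ≠ 0 := by rintro rfl; rw [mul_zero] at he; exact (mul_ne_zero hd hd') he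
  obtain ⟨h, hh⟩ := mat_conj (A := (e / g.1.det) • g.1) (B := g'.1)
    (by
      intro c hc
      apply hns (g.1.det / e * c)
      rw [mul_smul, ← hc, smul_smul]
      field_simp
      rw [one_smul])
    hns' (by rw [Matrix.trace_smul, ht, ht', smul_zero])
    (by
      rw [Matrix.det_smul, Fintype.card_fin]
      field_simp
      linear_combination -he)
  have hconj : R.gl h * R.gl g * (R.gl h)⁻¹ = R.gl g' := by
    rw [mul_inv_eq_iff_eq_mul, ← map_mul, ← map_mul]
    have h4 : R.gl ((g' * h)⁻¹ * (h * g)) = 1 := by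
      rw [R.gl_eq_one_iff]
      refine ⟨g.1.det / e, ?_⟩
      have h5 : h.1 * g.1 = (g.1.det / e) • (g'.1 * h.1) := by
        rw [← hh, Matrix.mul_smul, smul_smul]
        field_simp
        rw [one_smul]
      rw [Units.val_mul, Units.val_mul h g, h5, Matrix.mul_smul, ← Units.val_mul g' h,
        ← Units.val_mul, inv_mul_cancel, Units.val_one]
    rw [map_mul, map_inv] at h4
    exact (inv_mul_eq_one.1 h4).symm
  by_cases hI : R.gl h ∈ Inn L
  · obtain ⟨x, hx⟩ := hI
    exact ⟨x, by rw [hx, hconj]⟩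
  · have h5 := R.mul_mem_inn (R.gl_mem_PGL h) hI (R.gl_mem_PGL g) (by rw [R.gl_mem_inn]; exact h2)
    obtain ⟨x, hx⟩ := h5
    refine ⟨x, ?_⟩
    rw [hx, mul_inv_rev, ← hconj]
    group

/-- **the centralizer in `PGL` of an involution** -/
theorem inv_cent {φ : MulAut L} (h1 : φ ∈ R.PGL) (hne : φ ≠ 1) (h3 : φ * φ = 1) :
    ∃ A : Subgroup (MulAut L), A ≤ R.PGL ∧ φ ∈ A ∧ (∀ x ∈ A, ∀ y ∈ A, x * y = y * x) ∧
      (∀ x ∈ A, x * x = 1 → x = 1 ∨ x = φ) ∧
      (∀ x ∈ R.PGL, x * φ = φ * x → x ∈ A ∨ (x * x = 1 ∧ ∀ y ∈ A, x * y * x⁻¹ = y⁻¹)) := by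
  obtain ⟨g, rfl⟩ := R.mem_PGL.1 h1
  have hs := R.not_scalar_of_ne hne
  have htr := R.tr_of_inv hne h3
  let A : Subgroup (MulAut L) :=
    { carrier := {x | ∃ t : GL (Fin 2) F, x = R.gl t ∧ g.1 * t.1 = t.1 * g.1}
      one_mem' := ⟨1, by rw [map_one], by
        rw [Units.val_one, Matrix.mul_one, Matrix.one_mul]⟩
      mul_mem' := by
        rintro x y ⟨t, rfl, ht⟩ ⟨s, rfl, hs⟩
        refine ⟨t * s, (map_mul _ _ _).symm, ?_⟩
        rw [Units.val_mul, ← Matrix.mul_assoc, ht, Matrix.mul_assoc, hs, Matrix.mul_assoc]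
      inv_mem' := by
        rintro x ⟨t, rfl, ht⟩
        refine ⟨t⁻¹, (map_inv _ _).symm, ?_⟩
        have h1 : g * t = t * g := Units.ext ht
        have h2 : g * t⁻¹ = t⁻¹ * g := by
          rw [eq_inv_mul_iff_mul_eq, ← mul_assoc, ← h1, mul_inv_cancel_right]
        exact congrArg Units.val h2 }
  refine ⟨A, ?_, ⟨g, rfl, rfl⟩, ?_, ?_, ?_⟩
  · rintro _ ⟨t, rfl, -⟩
    exact R.gl_mem_PGL t
  · rintro x ⟨t, rfl, ht⟩ y ⟨s, rfl, hs'⟩
    obtain ⟨a, b, hab⟩ := exists_ab hs ht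
    rw [← map_mul, ← map_mul]
    congr 1
    apply Units.ext
    rw [Units.val_mul, Units.val_mul, hab, Matrix.add_mul, Matrix.mul_add, Matrix.smul_mul,
      Matrix.smul_mul, Matrix.mul_smul, Matrix.mul_smul, Matrix.one_mul, Matrix.mul_one, hs']
  · rintro x ⟨t, rfl, ht⟩ h
    exact R.torus_inv hs htr ht h
  · intro x hx hc
    obtain ⟨t, rfl⟩ := R.mem_PGL.1 hx
    rcases R.comm_cases hc with h | h
    · exact Or.inl ⟨t, rfl, h.symm⟩
    · right
      refine ⟨R.anticomm_inv h, ?_⟩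
      rintro y ⟨s, rfl, hs'⟩
      exact R.anticomm_conj hs htr h hs'

theorem conj_comm_iff {φ : MulAut L} {x : L} : MulAut.conj x * φ = φ * MulAut.conj x ↔
    MulAut.conj (φ x) = MulAut.conj x := by
  rw [← conj_conj, mul_inv_eq_iff_eq_mul]
  exact eq_comm

/-- the fixed points in `L` of an involution `φ ∈ PGL ∖ Inn`: a group of odd order extended by
involutions inverting it -/
theorem dtype_cent {φ : MulAut L} (h1 : φ ∈ R.PGL) (h2 : φ ∉ Inn L) (h3 : φ * φ = 1) :
    ∃ B : Subgroup L, (∀ x ∈ B, φ x = x) ∧ (∀ x ∈ B, ∀ y ∈ B, x * y = y * x) ∧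
      Odd (Nat.card B) ∧
      (∀ x, φ x = x → x ∈ B ∨ (x * x = 1 ∧ ∀ y ∈ B, x * y * x⁻¹ = y⁻¹)) := by
  have := R.finite
  obtain ⟨A, hA, hφA, hcomm, huniq, hcov⟩ := R.inv_cent h1
    (fun h => h2 (by rw [h]; exact one_mem _)) h3
  have hmem : ∀ x : L, x ∈ A.comap (MulAut.conj : L →* MulAut L) ↔ MulAut.conj x ∈ A :=
    fun x => Iff.rfl
  refine ⟨A.comap (MulAut.conj : L →* MulAut L), ?_, ?_, ?_, ?_⟩
  · intro x hx
    apply R.conj_injective
    rw [← conj_comm_iff]
    exact hcomm _ hx _ hφA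
  · intro x hx y hy
    apply R.conj_injective
    rw [map_mul, map_mul]
    exact hcomm _ hx _ hy
  · rw [← Nat.not_even_iff_odd, even_iff_two_dvd]
    intro hdvd
    obtain ⟨y, hy⟩ := exists_prime_orderOf_dvd_card' 2 hdvd
    have hy1 : (y : L) ≠ 1 := by
      intro h
      have h4 : y = 1 := Subtype.ext h
      rw [h4, orderOf_one] at hy
      exact absurd hy (by norm_num)
    have hyy : (y : L) * y = 1 := by
      have h4 : y ^ 2 = 1 := by rw [← hy]; exact pow_orderOf_eq_one y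
      rw [sq] at h4
      exact congrArg Subtype.val h4
    rcases huniq (MulAut.conj (y : L)) y.2 (by rw [← map_mul, hyy, map_one]) with h | h
    · exact hy1 (R.conj_injective (by rw [h, map_one]))
    · exact h2 ⟨_, h⟩
  · intro x hx
    rcases hcov (MulAut.conj x) (R.conj_mem_PGL x) (by rw [conj_comm_iff, hx]) with h | ⟨h, h'⟩
    · exact Or.inl h
    · right
      refine ⟨R.conj_injective (by rw [map_mul, h, map_one]), fun y hy => ?_⟩
      apply R.conj_injective
      rw [map_mul, map_mul, map_inv, map_inv]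
      exact h' _ hy

include R in
/-- the centralizer in `L` of an involution `t`: an abelian group with the only involution `t`,
extended by involutions inverting it -/
theorem inner_cent {t : L} (ht : t * t = 1) (ht1 : t ≠ 1) :
    ∃ B : Subgroup L, t ∈ B ∧ (∀ x ∈ B, ∀ y ∈ B, x * y = y * x) ∧
      (∀ x ∈ B, x * x = 1 → x = 1 ∨ x = t) ∧
      (∀ x, x * t = t * x → x ∈ B ∨ (x * x = 1 ∧ ∀ y ∈ B, x * y * x⁻¹ = y⁻¹)) := by
  have := R.finite
  obtain ⟨A, hA, hφA, hcomm, huniq, hcov⟩ := R.inv_cent (R.conj_mem_PGL t)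
    (fun h => ht1 (R.conj_injective (by rw [h, map_one]))) (by rw [← map_mul, ht, map_one])
  refine ⟨A.comap (MulAut.conj : L →* MulAut L), hφA, ?_, ?_, ?_⟩
  · intro x hx y hy
    apply R.conj_injective
    rw [map_mul, map_mul]
    exact hcomm _ hx _ hy
  · intro x hx h
    rcases huniq _ hx (by rw [← map_mul, h, map_one]) with h4 | h4
    · exact Or.inl (R.conj_injective (by rw [h4, map_one]))
    · exact Or.inr (R.conj_injective h4)
  · intro x hx
    rcases hcov (MulAut.conj x) (R.conj_mem_PGL x) (by rw [← map_mul, hx, map_mul]) with h | ⟨h, h'⟩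
    · exact Or.inl h
    · right
      refine ⟨R.conj_injective (by rw [map_mul, h, map_one]), fun y hy => ?_⟩
      apply R.conj_injective
      rw [map_mul, map_mul, map_inv, map_inv]
      exact h' _ hy

end Rep

end Cfsg.Agent.GH.L2Aut
end

-- part: GH/L2AutH90
section
prune_inst 0x3000650460000200081800106200006080000002004044000400000008490040204108013310011080908cd04008000000100100402000000a000800000000000000020080080000020018000080000000000000000000000000000000000000000000000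
set_option linter.all false
open scoped Cfsg.Agent.FastGrp

/-!
# Hilbert 90 for `GL(2,F)` and a cyclic group of field automorphisms, `F` finite

`Rep.exists_field` : `α ∈ Aut(L)`, `α ^ orderOf (fld α) = 1` ⇒ `α = gl h * fa (fld α) * (gl h)⁻¹`.
-/

set_option autoImplicit false

namespace Cfsg.Agent.GH.L2Aut

open Cfsg.Agent.Lib.SL2Mat Cfsg.Agent.Lib.AutSL2 Cfsg.Agent.Lib.AutSL2Out

section norm

variable {F : Type*} [Field F] [Finite F]

theorem finite_ringEquiv : Finite (F ≃+* F) :=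
  Finite.of_injective (fun σ : F ≃+* F => (σ : F → F)) DFunLike.coe_injective

theorem orderOf_pos' (σ : F ≃+* F) : 0 < orderOf σ := by
  have := finite_ringEquiv (F := F)
  exact orderOf_pos σ

/-- the norm onto the fixed field of `σ` is surjective -/
theorem exists_prod_eq (σ : F ≃+* F) {c : F} (hc : σ c = c) :
    ∃ e : F, ∏ k ∈ Finset.range (orderOf σ), (σ ^ k) e = c := by
  classical
  have := finite_ringEquiv (F := F)
  have : Fintype (Subgroup.zpowers σ) := Fintype.ofFinite _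
  let K := FixedPoints.subfield (Subgroup.zpowers σ) F
  have hK : c ∈ K := by
    rintro ⟨τ, hτ⟩
    change τ c = c
    obtain ⟨k, rfl⟩ := Subgroup.mem_zpowers_iff.1 hτ
    have h1 : σ ∈ MulAction.stabilizer (F ≃+* F) c := hc
    exact (MulAction.stabilizer (F ≃+* F) c).zpow_mem h1 k
  obtain ⟨e, he⟩ := FiniteField.norm_surjective K F ⟨c, hK⟩
  refine ⟨e, ?_⟩
  have h1 := Algebra.norm_eq_prod_automorphisms K e
  rw [he] at h1
  have h2 : (algebraMap K F) ⟨c, hK⟩ = c := rfl
  rw [h2] at h1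
  rw [h1]
  have hfo : IsOfFinOrder σ := isOfFinOrder_of_finite σ
  rw [← Equiv.prod_comp (FixedPoints.toAlgAutMulEquiv (Subgroup.zpowers σ) F).toEquiv,
    ← Equiv.prod_comp (finEquivZPowers hfo), ← Fin.prod_univ_eq_prod_range]
  apply Finset.prod_congr rfl
  intro k _
  rw [finEquivZPowers_apply]
  rfl

end norm

section vec

variable {F : Type*} [Field F]

/-- the semilinear map `v ↦ g σ(v)` -/
def semi (g : Matrix (Fin 2) (Fin 2) F) (σ : F ≃+* F) (v : Fin 2 → F) : Fin 2 → F :=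
  Matrix.mulVec g (fun i => σ (v i))

theorem semi_add (g : Matrix (Fin 2) (Fin 2) F) (σ : F ≃+* F) (v w : Fin 2 → F) :
    semi g σ (v + w) = semi g σ v + semi g σ w := by
  rw [semi, semi, semi, ← Matrix.mulVec_add]
  congr 1
  ext i
  exact map_add σ _ _

theorem semi_smul (g : Matrix (Fin 2) (Fin 2) F) (σ : F ≃+* F) (x : F) (v : Fin 2 → F) :
    semi g σ (x • v) = σ x • semi g σ v := by
  rw [semi, semi, ← Matrix.mulVec_smul]
  congr 1
  ext i
  exact map_mul σ _ _

theorem semi_zero (g : Matrix (Fin 2) (Fin 2) F) (σ : F ≃+* F) : semi g σ 0 = 0 := by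
  have := semi_smul g σ 0 0
  rwa [zero_smul, map_zero, zero_smul] at this

theorem semi_sum (g : Matrix (Fin 2) (Fin 2) F) (σ : F ≃+* F) {ι : Type*} (s : Finset ι)
    (f : ι → (Fin 2 → F)) : semi g σ (∑ i ∈ s, f i) = ∑ i ∈ s, semi g σ (f i) := by
  classical
  induction s using Finset.induction_on with
  | empty => rw [Finset.sum_empty, Finset.sum_empty, semi_zero]
  | insert i s hi ih => rw [Finset.sum_insert hi, Finset.sum_insert hi, semi_add, ih]

theorem iter_smul (g : Matrix (Fin 2) (Fin 2) F) (σ : F ≃+* F) (x : F) (v : Fin 2 → F) (k : ℕ) :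
    (semi g σ)^[k] (x • v) = (σ ^ k) x • (semi g σ)^[k] v := by
  induction k with
  | zero => rfl
  | succ k ih =>
    rw [Function.iterate_succ_apply', Function.iterate_succ_apply', ih, semi_smul, pow_succ']
    rfl

/-- a linear form vanishing on all fixed vectors of `T` (with `T ^ m = 1`) is zero -/
theorem form_zero (g : Matrix (Fin 2) (Fin 2) F) (σ : F ≃+* F) (hm : 0 < orderOf σ)
    (hT : ∀ v, (semi g σ)^[orderOf σ] v = v) (p q : F)
    (h : ∀ w, semi g σ w = w → p * w 0 + q * w 1 = 0) : p = 0 ∧ q = 0 := by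
  classical
  set m := orderOf σ with hmdef
  have htr : ∀ v, semi g σ (∑ k ∈ Finset.range m, (semi g σ)^[k] v) =
      ∑ k ∈ Finset.range m, (semi g σ)^[k] v := by
    intro v
    rw [semi_sum]
    have h1 : ∀ k, semi g σ ((semi g σ)^[k] v) = (semi g σ)^[k + 1] v := by
      intro k
      rw [Function.iterate_succ_apply']
    rw [Finset.sum_congr rfl (fun k _ => h1 k)]
    have h2 := Finset.sum_range_succ (fun k => (semi g σ)^[k] v) m
    have h3 := Finset.sum_range_succ' (fun k => (semi g σ)^[k] v) m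
    rw [h2] at h3
    rw [hT v] at h3
    exact (add_right_cancel h3).symm
  -- the characters
  let χ : Fin m → (F →* F) := fun k => ((σ ^ (k : ℕ) : F ≃+* F) : F →* F)
  have hχ : Function.Injective χ := by
    intro i j hij
    apply Fin.ext
    have h1 : σ ^ (i : ℕ) = σ ^ (j : ℕ) := by
      ext x
      exact DFunLike.congr_fun hij x
    exact pow_injOn_Iio_orderOf (Set.mem_Iio.2 i.2) (Set.mem_Iio.2 j.2) h1
  have hli := (linearIndependent_monoidHom F F).comp χ hχ
  rw [Fintype.linearIndependent_iff] at hli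
  have key : ∀ v : Fin 2 → F, p * v 0 + q * v 1 = 0 := by
    intro v
    have h1 := hli (fun k => p * ((semi g σ)^[(k : ℕ)] v) 0 + q * ((semi g σ)^[(k : ℕ)] v) 1) (by
      funext x
      have h2 := h _ (htr (x • v))
      rw [Finset.sum_apply, Finset.sum_apply, Finset.mul_sum, Finset.mul_sum,
        ← Finset.sum_add_distrib, ← Fin.sum_univ_eq_sum_range (fun k =>
          p * ((semi g σ)^[k] (x • v)) 0 + q * ((semi g σ)^[k] (x • v)) 1)] at h2
      rw [Finset.sum_apply, Pi.zero_apply, ← h2]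
      apply Finset.sum_congr rfl
      intro k _
      rw [iter_smul]
      change (p * ((semi g σ)^[(k : ℕ)] v) 0 + q * ((semi g σ)^[(k : ℕ)] v) 1) * (σ ^ (k : ℕ)) x =
        p * ((σ ^ (k : ℕ)) x * ((semi g σ)^[(k : ℕ)] v) 0) +
          q * ((σ ^ (k : ℕ)) x * ((semi g σ)^[(k : ℕ)] v) 1)
      ring) ⟨0, hm⟩
    exact h1
  constructor
  · have := key ![1, 0]
    simpa using this
  · have := key ![0, 1]
    simpa using this

/-- Hilbert 90 -/
theorem hilbert90 (g : Matrix (Fin 2) (Fin 2) F) (σ : F ≃+* F) (hm : 0 < orderOf σ)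
    (hT : ∀ v, (semi g σ)^[orderOf σ] v = v) :
    ∃ h : GL (Fin 2) F, g * (Matrix.GeneralLinearGroup.map σ.toRingHom h).1 = h.1 := by
  obtain ⟨u, w, hu, hw, hne⟩ : ∃ u w : Fin 2 → F, semi g σ u = u ∧ semi g σ w = w ∧
      u 0 * w 1 - w 0 * u 1 ≠ 0 := by
    by_contra hcon
    push Not at hcon
    -- all fixed vectors are zero
    have h1 : ∀ u, semi g σ u = u → u = 0 := by
      intro u hu
      obtain ⟨h2, h3⟩ := form_zero g σ hm hT (-u 1) (u 0) (fun w hw => by
        have := hcon u w hu hw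
        linear_combination this)
      funext i
      fin_cases i
      · exact h3
      · exact neg_eq_zero.1 h2
    obtain ⟨h2, -⟩ := form_zero g σ hm hT 1 0 (fun w hw => by rw [h1 w hw]; simp)
    exact one_ne_zero h2
  have hdet : (!![u 0, w 0; u 1, w 1] : Matrix (Fin 2) (Fin 2) F).det ≠ 0 := by
    rw [Matrix.det_fin_two_of]; exact hne
  refine ⟨toGL' _ hdet, ?_⟩
  have e0 := congrFun hu 0
  have e1 := congrFun hu 1
  have f0 := congrFun hw 0
  have f1 := congrFun hw 1
  simp only [semi, Matrix.mulVec, dotProduct, Fin.sum_univ_two] at e0 e1 f0 f1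
  apply mat_ext
  · rw [mat_mul]; exact e0
  · rw [mat_mul]; exact f0
  · rw [mat_mul]; exact e1
  · rw [mat_mul]; exact f1

theorem semi_scal (g : Matrix (Fin 2) (Fin 2) F) (σ : F ≃+* F) (e : F) (k : ℕ) (v : Fin 2 → F) :
    (semi (e • g) σ)^[k] v = (∏ j ∈ Finset.range k, (σ ^ j) e) • (semi g σ)^[k] v := by
  have h1 : ∀ w, semi (e • g) σ w = e • semi g σ w := by
    intro w
    rw [semi, semi, Matrix.smul_mulVec]
  induction k with
  | zero => rw [Finset.prod_range_zero, one_smul]; rfl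
  | succ k ih =>
    rw [Function.iterate_succ_apply', Function.iterate_succ_apply', ih, h1, semi_smul, smul_smul]
    congr 1
    rw [Finset.prod_range_succ', map_prod, mul_comm]
    congr 1
    apply Finset.prod_congr rfl
    intro j _
    rw [pow_succ']
    rfl

end vec

namespace Rep

variable {F : Type*} [Field F] {L : Type*} [Group L] (R : Rep F L) [Finite F]

local notation "M2" => Matrix (Fin 2) (Fin 2) F

theorem gl_eq_of_smul {A B : GL (Fin 2) F} {e : F} (h : A.1 = e • B.1) : R.gl A = R.gl B := by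
  have h1 : R.gl (B⁻¹ * A) = 1 := by
    rw [R.gl_eq_one_iff]
    refine ⟨e, ?_⟩
    rw [Units.val_mul, h, Matrix.mul_smul, ← Units.val_mul, inv_mul_cancel, Units.val_one]
  rw [map_mul, map_inv] at h1
  exact (inv_mul_eq_one.1 h1).symm

/-- the twisted powers -/
def tw (g : GL (Fin 2) F) (σ : F ≃+* F) : ℕ → GL (Fin 2) F
  | 0 => 1
  | k + 1 => g * Matrix.GeneralLinearGroup.map σ.toRingHom (tw g σ k)

theorem pow_eq (g : GL (Fin 2) F) (σ : F ≃+* F) (k : ℕ) :
    (R.gl g * R.fa σ) ^ k = R.gl (tw g σ k) * R.fa (σ ^ k) := by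
  induction k with
  | zero => rw [pow_zero, pow_zero, tw, map_one, map_one, mul_one]
  | succ k ih =>
    rw [pow_succ', ih, tw, pow_succ', map_mul, map_mul, mul_assoc, ← mul_assoc (R.fa σ), R.fa_mul_gl]
    simp only [mul_assoc]

omit [Finite F] in
theorem iter_eq (g : GL (Fin 2) F) (σ : F ≃+* F) (k : ℕ) (v : Fin 2 → F) :
    (semi g.1 σ)^[k] v = Matrix.mulVec (tw g σ k).1 (fun i => (σ ^ k) (v i)) := by
  induction k with
  | zero =>
    change v = Matrix.mulVec (1 : M2) v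
    rw [Matrix.one_mulVec]
  | succ k ih =>
    rw [Function.iterate_succ_apply', ih, semi, tw, Units.val_mul, ← Matrix.mulVec_mulVec]
    congr 1
    funext i
    change σ (∑ j, (tw g σ k).1 i j * (σ ^ k) (v j)) = ∑ j, σ ((tw g σ k).1 i j) * (σ ^ (k + 1)) (v j)
    rw [map_sum]
    apply Finset.sum_congr rfl
    intro j _
    rw [map_mul, pow_succ']
    rfl

/-- **Hilbert 90 for automorphisms of `L`** : an automorphism whose order is the order of its field
automorphism is conjugate under `PGL` to that field automorphism. -/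
theorem exists_field (α : MulAut L) (hα : α ^ orderOf (R.fld α) = 1) :
    ∃ h : GL (Fin 2) F, α = R.gl h * R.fa (R.fld α) * (R.gl h)⁻¹ := by
  obtain ⟨g, hg⟩ := R.exists_eq α
  obtain ⟨σ, hσ⟩ : ∃ σ, σ = R.fld α := ⟨_, rfl⟩
  rw [← hσ] at hg hα ⊢
  have hm := orderOf_pos' σ
  rw [hg, R.pow_eq, pow_orderOf_eq_one, map_one, mul_one, R.gl_eq_one_iff] at hα
  obtain ⟨c, hc⟩ := hα
  have hT : ∀ v, (semi g.1 σ)^[orderOf σ] v = c • v := by
    intro v
    rw [iter_eq, hc, pow_orderOf_eq_one, Matrix.smul_mulVec]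
    congr 1
    exact Matrix.one_mulVec v
  have hc0 : c ≠ 0 := by
    rintro rfl
    rw [zero_smul] at hc
    have h1 := (Matrix.GeneralLinearGroup.det (tw g σ (orderOf σ))).ne_zero
    apply h1
    change (tw g σ (orderOf σ)).1.det = 0
    rw [hc, Matrix.det_zero]
  have hσc : σ c = c := by
    by_contra hcon
    have h1 : ∀ v, semi g.1 σ v = 0 := by
      intro v
      have h2 : (semi g.1 σ)^[orderOf σ] (semi g.1 σ v) = semi g.1 σ ((semi g.1 σ)^[orderOf σ] v) := by
        rw [← Function.iterate_succ_apply, Function.iterate_succ_apply']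
      rw [hT, hT, semi_smul] at h2
      have h3 : (σ c - c) • semi g.1 σ v = 0 := by rw [sub_smul, h2, sub_self]
      exact (smul_eq_zero.1 h3).resolve_left (sub_ne_zero.2 hcon)
    have h2 := hT ![1, 0]
    obtain ⟨k, hk⟩ := Nat.exists_eq_succ_of_ne_zero hm.ne'
    rw [hk, Function.iterate_succ_apply', h1] at h2
    have h3 := congrFun h2 0
    simp at h3
    exact hc0 h3.symm
  obtain ⟨e, he⟩ := exists_prod_eq σ (c := c⁻¹) (by rw [map_inv₀, hσc])
  obtain ⟨h, hh⟩ := hilbert90 (e • g.1) σ hm (fun v => by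
    rw [semi_scal, hT, he, smul_smul, inv_mul_cancel₀ hc0, one_smul])
  refine ⟨h, ?_⟩
  rw [hg, eq_mul_inv_iff_mul_eq, mul_assoc, R.fa_mul_gl, ← mul_assoc, ← map_mul]
  congr 1
  symm
  apply R.gl_eq_of_smul (e := e)
  rw [← hh, Units.val_mul, Matrix.smul_mul]

end Rep

end Cfsg.Agent.GH.L2Aut

private theorem dce_4dda4ee4a723 : _root_.True := by
  try have : _root_.True := by simp only [_root_.Cfsg.Agent.GH.L2Aut.semi.eq_1]
  try have : _root_.True := by simp only [_root_.Cfsg.Agent.GH.L2Aut.Rep.tw.eq_1]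
  try have : _root_.True := by simp only [_root_.Cfsg.Agent.GH.L2Aut.Rep.tw.eq_def]
  try have : _root_.True := by simp only [_root_.Cfsg.Agent.GH.L2Aut.Rep.tw.eq_2]
  exact _root_.True.intro
end

-- part: GH/L2AutFix
section
prune_inst 0x3000450024000000000005102000002448000102002000001860010000035320000009013e900c0000c2a2004008000000100040400000000a2000000000000000000204904ca000020000000004000000000000000000000000000000041000000000000
set_option linter.all false
open scoped Cfsg.Agent.FastGrp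

/-!
# Fixed points of field automorphisms of `L ≅ PSL(2,F)`
-/

set_option autoImplicit false

namespace Cfsg.Agent.GH.L2Aut

open Cfsg.Agent.Lib.SL2Mat Cfsg.Agent.Lib.AutSL2 Cfsg.Agent.Lib.AutSL2Out

section field

variable {F : Type*} [Field F] [Finite F]

/-- the fixed field of `σ` -/
theorem exists_fixed_field (σ : F ≃+* F) :
    ∃ K : Subfield F, (∀ a, a ∈ K ↔ σ a = a) ∧ Nat.card F = Nat.card K ^ orderOf σ := by
  classical
  have := finite_ringEquiv (F := F)
  have : Fintype (Subgroup.zpowers σ) := Fintype.ofFinite _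
  let K := FixedPoints.subfield (Subgroup.zpowers σ) F
  have hK : ∀ a, a ∈ K ↔ σ a = a := by
    intro a
    constructor
    · intro h
      exact h ⟨σ, Subgroup.mem_zpowers σ⟩
    · rintro h ⟨τ, hτ⟩
      change τ a = a
      obtain ⟨k, rfl⟩ := Subgroup.mem_zpowers_iff.1 hτ
      have h1 : σ ∈ MulAction.stabilizer (F ≃+* F) a := h
      exact (MulAction.stabilizer (F ≃+* F) a).zpow_mem h1 k
  refine ⟨K, hK, ?_⟩
  have h1 := FixedPoints.finrank_eq_card (Subgroup.zpowers σ) F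
  rw [← Nat.card_eq_fintype_card, Nat.card_zpowers] at h1
  rw [← h1]
  exact Module.natCard_eq_pow_finrank

omit [Finite F] in
theorem ringChar_ne_two (h2 : (2 : F) ≠ 0) : ringChar F ≠ 2 := by
  intro h
  apply h2
  have h4 := ringChar.Nat.cast_ringChar (R := F)
  rw [h] at h4
  exact_mod_cast h4

omit [Finite F] in
theorem two_sub (h2 : (2 : F) ≠ 0) (K : Subfield F) : (2 : K) ≠ 0 := by
  intro h3
  apply h2
  exact congrArg Subtype.val h3

theorem odd_card (h2 : (2 : F) ≠ 0) : Odd (Nat.card F) := by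
  have := Fintype.ofFinite F
  rw [Nat.card_eq_fintype_card, Nat.odd_iff]
  exact FiniteField.odd_card_of_char_ne_two (ringChar_ne_two h2)

/-- elements of `K` are squares in `F` if the degree is even -/
theorem isSquare_of_mem (h2 : (2 : F) ≠ 0) {K : Subfield F} {m : ℕ}
    (hcard : Nat.card F = Nat.card K ^ m) (hm : Even m) {c : F} (hc : c ∈ K) : IsSquare c := by
  have := Fintype.ofFinite F
  by_cases hc0 : c = 0
  · rw [hc0]; exact IsSquare.zero
  rw [FiniteField.isSquare_iff (ringChar_ne_two h2) hc0]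
  have hodd := odd_card (two_sub h2 K)
  obtain ⟨k, hk⟩ := hm
  have hcK : c ^ (Nat.card K - 1) = 1 := by
    have := Fintype.ofFinite K
    have h3 : (⟨c, hc⟩ : K) ^ (Nat.card K - 1) = 1 := by
      rw [Nat.card_eq_fintype_card]
      exact FiniteField.pow_card_sub_one_eq_one _ (fun h => hc0 (congrArg Subtype.val h))
    exact congrArg Subtype.val h3
  obtain ⟨a, ha⟩ := hodd
  have h3 : (Nat.card K - 1) ∣ Fintype.card F / 2 := by
    rw [← Nat.card_eq_fintype_card, hcard, hk, ha]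
    have h4 : (2 * a + 1) ^ (k + k) = ((2 * a + 1) ^ 2) ^ k := by rw [← two_mul, pow_mul]
    have h5 : (2 * a + 1) ^ 2 - 1 ∣ ((2 * a + 1) ^ 2) ^ k - 1 := by
      have := Nat.sub_dvd_pow_sub_pow ((2 * a + 1) ^ 2) 1 k
      rwa [one_pow] at this
    have h6 : (2 * a + 1) ^ 2 - 1 = 2 * (2 * a * (a + 1)) := by
      have : (2 * a + 1) ^ 2 = 2 * (2 * a * (a + 1)) + 1 := by ring
      rw [this, Nat.add_sub_cancel]
    obtain ⟨n, hn⟩ := h5
    rw [h6] at hn
    rw [h4, Nat.add_sub_cancel]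
    have h7 : ((2 * a + 1) ^ 2) ^ k = 2 * (2 * a * (a + 1) * n) + 1 := by
      have h8 : 0 < ((2 * a + 1) ^ 2) ^ k := by positivity
      have h9 : ((2 * a + 1) ^ 2) ^ k = (2 * (2 * a * (a + 1))) * n + 1 := by omega
      rw [h9]; ring
    rw [h7]
    have h8 : (2 * (2 * a * (a + 1) * n) + 1) / 2 = 2 * a * (a + 1) * n := by omega
    rw [h8]
    exact ⟨(a + 1) * n, by ring⟩
  obtain ⟨n, hn⟩ := h3
  rw [hn, pow_mul, hcK, one_pow]

/-- an element negated by `σ` whose square is a nonsquare of the fixed field -/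
theorem exists_delta (h2 : (2 : F) ≠ 0) {σ : F ≃+* F} (hm : Even (orderOf σ)) {K : Subfield F}
    (hK : ∀ a, a ∈ K ↔ σ a = a) (hcard : Nat.card F = Nat.card K ^ orderOf σ) :
    ∃ δ : F, σ δ = -δ ∧ δ ≠ 0 := by
  have h2K := two_sub h2 K
  obtain ⟨c, hc⟩ := FiniteField.exists_nonsquare (ringChar_ne_two h2K)
  obtain ⟨δ, hδ⟩ := isSquare_of_mem h2 hcard hm c.2
  have h3 : (σ δ - δ) * (σ δ + δ) = 0 := by
    have h4 : σ (c : F) = c := (hK _).1 c.2
    rw [hδ, map_mul] at h4
    linear_combination h4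
  have hδ0 : δ ≠ 0 := by
    rintro rfl
    apply hc
    rw [mul_zero] at hδ
    have : c = 0 := Subtype.ext hδ
    rw [this]; exact IsSquare.zero
  rcases mul_eq_zero.1 h3 with h4 | h4
  · exfalso
    apply hc
    have h5 : δ ∈ K := (hK δ).2 (by linear_combination h4)
    exact ⟨⟨δ, h5⟩, Subtype.ext hδ⟩
  · exact ⟨δ, by linear_combination h4, hδ0⟩

end field

/-- the fixed points of an automorphism -/
def fixSub {L : Type*} [Group L] (α : MulAut L) : Subgroup L where
  carrier := {x | α x = x}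
  one_mem' := map_one α
  mul_mem' := by
    intro x y (hx : α x = x) (hy : α y = y)
    change α (x * y) = x * y
    rw [map_mul, hx, hy]
  inv_mem' := by
    intro x (hx : α x = x)
    change α x⁻¹ = x⁻¹
    rw [map_inv, hx]

theorem mem_fixSub {L : Type*} [Group L] {α : MulAut L} {x : L} : x ∈ fixSub α ↔ α x = x := Iff.rfl

namespace Rep

variable {F : Type*} [Field F] {L : Type*} [Group L] (R : Rep F L)

local notation "SL2" => Matrix.SpecialLinearGroup (Fin 2) F
local notation "M2" => Matrix (Fin 2) (Fin 2) F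

/-- change of basis -/
noncomputable def twist (h : GL (Fin 2) F) : Rep F L where
  π := R.π.comp (conjGL h).toMonoidHom
  surj := R.surj.comp (conjGL h).surjective
  two := R.two
  ker := by
    intro x
    change R.π (conjGL h x) = 1 ↔ _
    rw [R.ker]
    have h1 : conjGL h x = 1 ↔ x = 1 := by
      rw [← (conjGL h).injective.eq_iff (a := x) (b := 1), map_one]
    have h3 : conjGL h x = -1 ↔ x = -1 := by
      rw [← (conjGL h).injective.eq_iff (a := x) (b := -1), R.aut_neg_one]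
    rw [h1, h3]

theorem twist_π (h : GL (Fin 2) F) (x : SL2) : (R.twist h).π x = R.π (conjGL h x) := rfl

variable [Finite F]

theorem twist_π' (h : GL (Fin 2) F) (x : SL2) : (R.twist h).π x = R.gl h (R.π x) := by
  rw [R.gl_apply]; rfl

theorem twist_gl (h g : GL (Fin 2) F) : (R.twist h).gl g = R.gl h * R.gl g * (R.gl h)⁻¹ := by
  apply (R.twist h).ext_π
  intro x
  rw [gl_apply, R.twist_π', R.twist_π', MulAut.mul_apply, MulAut.inv_apply_self, MulAut.mul_apply,
    R.gl_apply g]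

theorem twist_fa (h : GL (Fin 2) F) (σ : F ≃+* F) :
    (R.twist h).fa σ = R.gl h * R.fa σ * (R.gl h)⁻¹ := by
  apply (R.twist h).ext_π
  intro x
  rw [fa_apply, R.twist_π', R.twist_π', MulAut.mul_apply, MulAut.inv_apply_self, MulAut.mul_apply,
    R.fa_apply]

theorem twist_fld (h : GL (Fin 2) F) : (R.twist h).fld = R.fld := by
  ext1 α
  obtain ⟨g, hg⟩ := (R.twist h).exists_eq α
  rw [R.twist_gl, R.twist_fa] at hg
  have h1 := congrArg R.fld hg
  rw [map_mul, map_mul, map_mul, map_mul, map_mul, map_inv, R.fld_gl, R.fld_gl, R.fld_fa] at h1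
  simpa using h1.symm

theorem twist_PGL (h : GL (Fin 2) F) : (R.twist h).PGL = R.PGL := by
  ext α
  rw [mem_PGL_iff_fld, mem_PGL_iff_fld, R.twist_fld]

/-- an automorphism of the order of its field automorphism is a field automorphism in another
representation -/
theorem exists_rep (α : MulAut L) (hα : α ^ orderOf (R.fld α) = 1) :
    ∃ R' : Rep F L, R'.PGL = R.PGL ∧ R'.fld = R.fld ∧ α = R'.fa (R.fld α) := by
  obtain ⟨h, hh⟩ := R.exists_field α hα
  exact ⟨R.twist h, R.twist_PGL h, R.twist_fld h, by rw [R.twist_fa]; exact hh⟩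

/-- inclusion of `SL(2,K)` -/
def inc (K : Subfield F) : Matrix.SpecialLinearGroup (Fin 2) K →* SL2 :=
  Matrix.SpecialLinearGroup.map K.subtype

omit [Finite F] in
theorem inc_val (K : Subfield F) (x : Matrix.SpecialLinearGroup (Fin 2) K) (i j : Fin 2) :
    (inc K x).1 i j = (x.1 i j : F) := rfl

omit [Finite F] in
theorem inc_injective (K : Subfield F) : Function.Injective (inc K) := by
  intro x y h
  apply Subtype.ext
  apply mat_ext
  · exact Subtype.ext (congrFun (congrFun (congrArg Subtype.val h) 0) 0)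
  · exact Subtype.ext (congrFun (congrFun (congrArg Subtype.val h) 0) 1)
  · exact Subtype.ext (congrFun (congrFun (congrArg Subtype.val h) 1) 0)
  · exact Subtype.ext (congrFun (congrFun (congrArg Subtype.val h) 1) 1)

omit [Finite F] in
theorem inc_neg_one (K : Subfield F) : inc K (-1) = -1 := by
  apply Subtype.ext
  apply mat_ext
  · change ((-(1 : Matrix (Fin 2) (Fin 2) K) 0 0 : K) : F) = -(1 : M2) 0 0
    simp
  · change ((-(1 : Matrix (Fin 2) (Fin 2) K) 0 1 : K) : F) = -(1 : M2) 0 1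
    simp
  · change ((-(1 : Matrix (Fin 2) (Fin 2) K) 1 0 : K) : F) = -(1 : M2) 1 0
    simp
  · change ((-(1 : Matrix (Fin 2) (Fin 2) K) 1 1 : K) : F) = -(1 : M2) 1 1
    simp

omit [Finite F] in
theorem fieldAut_inc {K : Subfield F} {σ : F ≃+* F} (hK : ∀ a, a ∈ K ↔ σ a = a)
    (x : Matrix.SpecialLinearGroup (Fin 2) K) : fieldAut σ (inc K x) = inc K x := by
  apply Subtype.ext
  ext i j
  exact (hK _).1 (x.1 i j).2

omit [Finite F] in
theorem exists_inc {K : Subfield F} {σ : F ≃+* F} (hK : ∀ a, a ∈ K ↔ σ a = a) {x : SL2}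
    (hx : fieldAut σ x = x) : ∃ y, inc K y = x := by
  have h1 : ∀ i j, x.1 i j ∈ K := by
    intro i j
    rw [hK]
    exact congrFun (congrFun (congrArg Subtype.val hx) i) j
  refine ⟨⟨Matrix.of fun i j => ⟨x.1 i j, h1 i j⟩, ?_⟩, ?_⟩
  · apply Subtype.ext
    have h2 := x.2
    rw [Matrix.det_fin_two] at h2 ⊢
    exact h2
  · apply Subtype.ext
    ext i j
    rfl

/-- the image of `SL(2,K)` in `L` -/
noncomputable def sub (K : Subfield F) : Subgroup L := (R.π.comp (inc K)).range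

omit [Finite F] in
theorem mem_sub {K : Subfield F} {y : L} : y ∈ R.sub K ↔ ∃ x, R.π (inc K x) = y := Iff.rfl

/-- `sub K` is `PSL(2,K)` -/
noncomputable def subRep (K : Subfield F) : Rep K (R.sub K) where
  π := (R.π.comp (inc K)).rangeRestrict
  surj := (R.π.comp (inc K)).rangeRestrict_surjective
  two := two_sub R.two K
  ker := by
    intro x
    have h1 : (R.π.comp (inc K)).rangeRestrict x = 1 ↔ R.π (inc K x) = 1 :=
      ⟨fun h => congrArg Subtype.val h, fun h => Subtype.ext h⟩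
    refine h1.trans ?_
    rw [R.ker]
    have h2 : inc K x = 1 ↔ x = 1 := by
      rw [← (inc_injective K).eq_iff (a := x) (b := 1), map_one]
    have h3 : inc K x = -1 ↔ x = -1 := by
      rw [← (inc_injective K).eq_iff (a := x) (b := -1), inc_neg_one]
    rw [h2, h3]

omit [Finite F] in
theorem subRep_π (K : Subfield F) (x : Matrix.SpecialLinearGroup (Fin 2) K) :
    (((R.subRep K).π x : R.sub K) : L) = R.π (inc K x) := rfl

/-- fixed points of `fa σ` -/
theorem mem_fix_fa {σ : F ≃+* F} {x : SL2} :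
    R.π x ∈ fixSub (R.fa σ) ↔ fieldAut σ x = x ∨ fieldAut σ x = -x := by
  rw [mem_fixSub, R.fa_apply, R.π_eq_iff]

/-- an element fixed by `fa σ` outside `sub K` -/
theorem exists_outer {K : Subfield F} {σ : F ≃+* F} (hm : Even (orderOf σ))
    (hK : ∀ a, a ∈ K ↔ σ a = a) (hcard : Nat.card F = Nat.card K ^ orderOf σ) :
    ∃ w : L, w ∈ fixSub (R.fa σ) ∧ w ∉ R.sub K ∧ ∀ x ∈ fixSub (R.fa σ), x ∉ R.sub K →
      w * x ∈ R.sub K := by
  obtain ⟨δ, hδ, hδ0⟩ := exists_delta R.two hm hK hcard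
  let D : SL2 := Cfsg.Agent.Lib.SL2Mat.mk δ 0 0 δ⁻¹ (by field_simp; ring)
  have hD : fieldAut σ D = -D := by
    apply Subtype.ext
    apply mat_ext
    · change σ δ = -δ
      exact hδ
    · change σ 0 = -(0 : F)
      rw [map_zero, neg_zero]
    · change σ 0 = -(0 : F)
      rw [map_zero, neg_zero]
    · change σ δ⁻¹ = -δ⁻¹
      rw [map_inv₀, hδ, inv_neg]
  refine ⟨R.π D, R.mem_fix_fa.2 (Or.inr hD), ?_, ?_⟩
  · rintro ⟨y, hy⟩
    have hy' : R.π (inc K y) = R.π D := hy
    have h1 : fieldAut σ D = D := by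
      rcases R.π_eq_iff.1 hy' with h | h
      · rw [← h]; exact fieldAut_inc hK y
      · have h3 : D = -inc K y := by rw [h, neg_neg]
        rw [h3, R.aut_neg, fieldAut_inc hK y]
    rw [hD] at h1
    apply R.neg_one_ne_one
    rw [← neg_one_mul] at h1
    exact mul_eq_right.1 h1
  · intro x hx hxs
    obtain ⟨X, rfl⟩ := R.surj x
    rcases R.mem_fix_fa.1 hx with h | h
    · obtain ⟨y, rfl⟩ := exists_inc hK h
      exact absurd ⟨y, rfl⟩ hxs
    · obtain ⟨y, hy⟩ := exists_inc (x := D * X) hK (by rw [map_mul, hD, h, neg_mul_neg])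
      exact ⟨y, by rw [← map_mul, ← hy]; rfl⟩

/-- elements fixed by `fa σ` outside `sub K` induce on `sub K` outer automorphisms of `PGL` type -/
theorem outer_act {K : Subfield F} {σ : F ≃+* F} (hm : Even (orderOf σ))
    (hK : ∀ a, a ∈ K ↔ σ a = a) (hcard : Nat.card F = Nat.card K ^ orderOf σ) {x : L}
    (hx : x ∈ fixSub (R.fa σ)) (hxs : x ∉ R.sub K) {β : MulAut (R.sub K)}
    (hβ : ∀ n, (β n : L) = x * n * x⁻¹) : β ∈ (R.subRep K).PGL ∧ β ∉ Inn (R.sub K) := by
  obtain ⟨δ, hδ, hδ0⟩ := exists_delta R.two hm hK hcard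
  obtain ⟨X, rfl⟩ := R.surj x
  have hX : fieldAut σ X = -X := by
    rcases R.mem_fix_fa.1 hx with h | h
    · obtain ⟨y, rfl⟩ := exists_inc hK h
      exact absurd ⟨y, rfl⟩ hxs
    · exact h
  have hXij : ∀ i j, δ * X.1 i j ∈ K := by
    intro i j
    have h1 : σ (X.1 i j) = -X.1 i j := congrFun (congrFun (congrArg Subtype.val hX) i) j
    rw [hK, map_mul, hδ, h1, neg_mul_neg]
  have hδ2 : δ * δ ∈ K := by rw [hK, map_mul, hδ, neg_mul_neg]
  let Y : Matrix (Fin 2) (Fin 2) K := Matrix.of fun i j => ⟨δ * X.1 i j, hXij i j⟩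
  have hYdet : Y.det = ⟨δ * δ, hδ2⟩ := by
    apply Subtype.ext
    rw [Matrix.det_fin_two]
    change δ * X.1 0 0 * (δ * X.1 1 1) - δ * X.1 0 1 * (δ * X.1 1 0) = δ * δ
    have h2 := X.2
    rw [Matrix.det_fin_two] at h2
    linear_combination δ ^ 2 * h2
  have hYne : Y.det ≠ 0 := by
    rw [hYdet]
    intro h
    exact mul_self_ne_zero.2 hδ0 (congrArg Subtype.val h)
  have hβ' : β = (R.subRep K).gl (toGL' Y hYne) := by
    apply (R.subRep K).ext_π
    intro y
    apply Subtype.ext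
    rw [hβ, gl_apply, subRep_π, subRep_π, ← map_inv, ← map_mul, ← map_mul]
    congr 1
    rw [mul_inv_eq_iff_eq_mul]
    apply Subtype.ext
    have h1 : Y * y.1 = (conjGL (toGL' Y hYne) y).1 * Y := of_conjGL_eq (g := toGL' Y hYne) rfl
    have h2 : ∀ i j, ((Y * y.1) i j : F) = (((conjGL (toGL' Y hYne) y).1 * Y) i j : F) := by
      intro i j; rw [h1]
    ext i j
    have h3 := h2 i j
    rw [mat_mul, mat_mul] at h3
    change δ * X.1 i 0 * (y.1 0 j : F) + δ * X.1 i 1 * (y.1 1 j : F) =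
      ((conjGL (toGL' Y hYne) y).1 i 0 : F) * (δ * X.1 0 j) +
        ((conjGL (toGL' Y hYne) y).1 i 1 : F) * (δ * X.1 1 j) at h3
    change (X.1 * (inc K y).1) i j = ((inc K (conjGL (toGL' Y hYne) y)).1 * X.1) i j
    rw [mat_mul, mat_mul]
    apply mul_left_cancel₀ hδ0
    change δ * (X.1 i 0 * (y.1 0 j : F) + X.1 i 1 * (y.1 1 j : F)) =
      δ * (((conjGL (toGL' Y hYne) y).1 i 0 : F) * X.1 0 j +
        ((conjGL (toGL' Y hYne) y).1 i 1 : F) * X.1 1 j)
    linear_combination h3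
  rw [hβ']
  refine ⟨gl_mem_PGL _ _, ?_⟩
  rw [gl_mem_inn]
  rintro ⟨e, he⟩
  have he' : Y.det = e * e := he
  rw [hYdet] at he'
  have h4 : δ * δ = (e : F) * e := congrArg Subtype.val he'
  have h5 : (δ - e) * (δ + e) = 0 := by linear_combination h4
  have hδK : δ ∉ K := by
    intro h
    rw [hK, hδ] at h
    apply hδ0
    have : (2 : F) * δ = 0 := by linear_combination -h
    exact (mul_eq_zero.1 this).resolve_left R.two
  rcases mul_eq_zero.1 h5 with h6 | h6
  · apply hδK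
    rw [show δ = (e : F) by linear_combination h6]
    exact e.2
  · apply hδK
    rw [show δ = -(e : F) by linear_combination h6]
    exact neg_mem e.2

theorem sub_le_fix {K : Subfield F} {σ : F ≃+* F} (hK : ∀ a, a ∈ K ↔ σ a = a) :
    R.sub K ≤ fixSub (R.fa σ) := by
  rintro _ ⟨x, rfl⟩
  exact R.mem_fix_fa.2 (Or.inl (fieldAut_inc hK x))

end Rep

end Cfsg.Agent.GH.L2Aut

private theorem dce_4b165b9db5a2 : _root_.True := by
  try have : _root_.True := by simp only [_root_.Cfsg.Agent.GH.L2Aut.Rep.fld.congr_simp]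
  exact _root_.True.intro
end

-- part: GH/L2AutF
section
prune_inst 0x20200400000002000000051040000044c8000100002304010d21010000004361050027003d801601490223200008000000000059401000000a20020040010020802a50061300a10406001f809884000000000000000000000000000000000000000000000
set_option linter.all false
open scoped Cfsg.Agent.FastGrp

/-!
# Field type involutions of `Aut(L)`, `L ≅ PSL(2,F)`, and Sylow 2-subgroups of `L`
-/

set_option autoImplicit false

namespace Cfsg.Agent.GH.L2Aut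

open Cfsg.Agent.Lib.SL2Mat Cfsg.Agent.Lib.AutSL2 Cfsg.Agent.Lib.AutSL2Out

section arith

/-- `2 i = Q (Q² + 1)` -/
theorem odd_of_two {Q i n : ℕ} (hQ : Odd Q) (hQ1 : 1 < Q)
    (h : i * (Q * (Q ^ 2 - 1)) * 2 = n) (hn : n = Q ^ 2 * ((Q ^ 2) ^ 2 - 1)) : ¬ 2 ∣ i := by
  subst hn
  obtain ⟨a, rfl⟩ := hQ
  have h1 : (2 * a + 1) ^ 2 - 1 = 4 * a * (a + 1) := by
    have : (2 * a + 1) ^ 2 = 4 * a * (a + 1) + 1 := by ring
    rw [this, Nat.add_sub_cancel]
  have h2 : ((2 * a + 1) ^ 2) ^ 2 - 1 = 4 * a * (a + 1) * (4 * a * (a + 1) + 2) := by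
    have : ((2 * a + 1) ^ 2) ^ 2 = 4 * a * (a + 1) * (4 * a * (a + 1) + 2) + 1 := by ring
    rw [this, Nat.add_sub_cancel]
  rw [h1, h2] at h
  have hpos : 0 < (2 * a + 1) * (4 * a * (a + 1)) * 2 := by
    have : 0 < a := by omega
    positivity
  have h3 : i * ((2 * a + 1) * (4 * a * (a + 1)) * 2) =
      ((2 * a + 1) * (2 * a * (a + 1) + 1)) * ((2 * a + 1) * (4 * a * (a + 1)) * 2) := by
    rw [← mul_assoc, h]; ring
  have h4 := Nat.eq_of_mul_eq_mul_right hpos h3
  rw [h4, Nat.prime_two.dvd_mul]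
  rintro (h5 | h5)
  · omega
  · have : 2 * a * (a + 1) + 1 = 2 * (a * (a + 1)) + 1 := by ring
    rw [this] at h5
    omega

/-- `2 i (Q (Q² - 1)) = Q^m (Q^(2m) - 1)`, `4 ∣ m` -/
theorem even_of_four {Q i m : ℕ} (hQ : Odd Q) (hQ1 : 1 < Q) (hm : 4 ∣ m)
    (h : i * (Q * (Q ^ 2 - 1)) * 2 = Q ^ m * ((Q ^ m) ^ 2 - 1)) : 2 ∣ i := by
  obtain ⟨n, rfl⟩ := hm
  have h8 : (Q ^ (4 * n)) ^ 2 - 1 = (Q ^ 8) ^ n - 1 := by
    rw [← pow_mul, ← pow_mul]; congr 2; ring
  obtain ⟨t, ht⟩ : Q ^ 8 - 1 ∣ (Q ^ 8) ^ n - 1 := by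
    have := Nat.sub_dvd_pow_sub_pow (Q ^ 8) 1 n
    rwa [one_pow] at this
  have h81 : Q ^ 8 - 1 = (Q ^ 2 - 1) * ((Q ^ 2 + 1) * (Q ^ 4 + 1)) := by
    obtain ⟨b, hb⟩ : ∃ b, Q ^ 2 = b + 1 := ⟨Q ^ 2 - 1, by
      have : 0 < Q ^ 2 := by positivity
      omega⟩
    have h9 : Q ^ 8 = (b + 1) ^ 4 := by rw [← hb, ← pow_mul]
    have h10 : Q ^ 4 = (b + 1) ^ 2 := by rw [← hb, ← pow_mul]
    rw [h9, h10, hb, Nat.add_sub_cancel]
    have : (b + 1) ^ 4 = b * ((b + 1 + 1) * ((b + 1) ^ 2 + 1)) + 1 := by ring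
    rw [this, Nat.add_sub_cancel]
  rw [h8, ht, h81] at h
  have hQ2 : 0 < Q ^ 2 - 1 := by
    have : 1 < Q ^ 2 := Nat.one_lt_pow two_ne_zero hQ1
    omega
  have h11 : (i * Q * 2) * (Q ^ 2 - 1) = (Q ^ (4 * n) * ((Q ^ 2 + 1) * (Q ^ 4 + 1)) * t) * (Q ^ 2 - 1) := by
    calc (i * Q * 2) * (Q ^ 2 - 1) = i * (Q * (Q ^ 2 - 1)) * 2 := by ring
      _ = _ := by rw [h]; ring
  have h12 := Nat.eq_of_mul_eq_mul_right hQ2 h11
  have h13 : 4 ∣ i * Q * 2 := by
    rw [h12]
    have e1 : 2 ∣ Q ^ 2 + 1 := (hQ.pow.add_odd odd_one).two_dvd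
    have e2 : 2 ∣ Q ^ 4 + 1 := (hQ.pow.add_odd odd_one).two_dvd
    have e3 : 4 ∣ (Q ^ 2 + 1) * (Q ^ 4 + 1) := mul_dvd_mul e1 e2
    exact Dvd.dvd.mul_right (Dvd.dvd.mul_left e3 _) _
  have h14 : 2 ∣ i * Q := by
    obtain ⟨u, hu⟩ := h13
    exact ⟨u, by omega⟩
  rcases (Nat.prime_two.dvd_mul).1 h14 with h15 | h15
  · exact h15
  · exact absurd h15 (Nat.not_even_iff_odd.2 hQ ∘ even_iff_two_dvd.2)

end arith

namespace Rep

variable {F : Type*} [Field F] {L : Type*} [Group L] (R : Rep F L) [Finite F]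

local notation "SL2" => Matrix.SpecialLinearGroup (Fin 2) F
local notation "M2" => Matrix (Fin 2) (Fin 2) F

include R in
theorem card_mul_two : Nat.card L * 2 = Nat.card F * (Nat.card F ^ 2 - 1) := by
  have := Fintype.ofFinite F
  have h1 := Cfsg.Agent.ClassicalGeometry.PSL2Basic.card_SL2 (F := F)
  rw [← Nat.card_eq_fintype_card] at h1
  have h2 := Subgroup.card_eq_card_quotient_mul_card_subgroup R.π.ker
  have h3 : Nat.card (SL2 ⧸ R.π.ker) = Nat.card L :=
    Nat.card_congr (QuotientGroup.quotientKerEquivOfSurjective R.π R.surj).toEquiv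
  have h4 : Nat.card R.π.ker = 2 := by
    rw [Nat.card_eq_two_iff]
    refine ⟨1, ⟨-1, (R.ker _).2 (Or.inr rfl)⟩, ?_, ?_⟩
    · intro h
      exact R.neg_one_ne_one (congrArg Subtype.val h).symm
    · rw [Set.eq_univ_iff_forall]
      rintro ⟨x, hx⟩
      rcases (R.ker x).1 hx with rfl | rfl
      · exact Or.inl rfl
      · exact Or.inr rfl
  rw [← h1, h2, h3, h4]

theorem card_fix {K : Subfield F} {σ : F ≃+* F} (hm : Even (orderOf σ))
    (hK : ∀ a, a ∈ K ↔ σ a = a) (hcard : Nat.card F = Nat.card K ^ orderOf σ) :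
    Nat.card (fixSub (R.fa σ)) = Nat.card K * (Nat.card K ^ 2 - 1) := by
  obtain ⟨w, hw, hws, hcov⟩ := R.exists_outer hm hK hcard
  have h1 : (R.sub K).relIndex (fixSub (R.fa σ)) = 2 := by
    rw [Subgroup.relIndex, Subgroup.index_eq_two_iff]
    refine ⟨⟨w, hw⟩, ?_⟩
    rintro ⟨x, hx⟩
    rw [Subgroup.mem_subgroupOf, Subgroup.mem_subgroupOf]
    change Xor (x * w ∈ R.sub K) (x ∈ R.sub K)
    by_cases hxs : x ∈ R.sub K
    · right
      exact ⟨hxs, fun h => hws ((Subgroup.mul_mem_cancel_left _ hxs).1 h)⟩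
    · left
      refine ⟨?_, hxs⟩
      have h2 : x⁻¹ ∉ R.sub K := fun h => hxs (inv_mem_iff.1 h)
      have h3 := hcov w hw hws
      have h4 := hcov x⁻¹ (inv_mem hx) h2
      have h5 := mul_mem (inv_mem h4) h3
      have h6 : (w * x⁻¹)⁻¹ * (w * w) = x * w := by group
      rwa [h6] at h5
  have h2 := Subgroup.card_mul_index ((R.sub K).subgroupOf (fixSub (R.fa σ)))
  have h3 : Nat.card ((R.sub K).subgroupOf (fixSub (R.fa σ))) = Nat.card (R.sub K) :=
    Nat.card_congr (Subgroup.subgroupOfEquivOfLe (R.sub_le_fix hK)).toEquiv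
  rw [Subgroup.relIndex] at h1
  rw [h3, h1, (R.subRep K).card_mul_two] at h2
  exact h2.symm

theorem one_lt_card' : 1 < Nat.card F := Finite.one_lt_card

/-- index of the fixed points -/
theorem index_fix {K : Subfield F} {σ : F ≃+* F} (hm : Even (orderOf σ))
    (hK : ∀ a, a ∈ K ↔ σ a = a) (hcard : Nat.card F = Nat.card K ^ orderOf σ) :
    (fixSub (R.fa σ)).index * (Nat.card K * (Nat.card K ^ 2 - 1)) * 2 =
      Nat.card F * (Nat.card F ^ 2 - 1) := by
  rw [← R.card_fix hm hK hcard, mul_comm (fixSub (R.fa σ)).index, Subgroup.card_mul_index,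
    R.card_mul_two]

/-- the centralizer of an involutory field automorphism has odd index -/
theorem odd_index {σ : F ≃+* F} (hσ : orderOf σ = 2) : ¬ 2 ∣ (fixSub (R.fa σ)).index := by
  obtain ⟨K, hK, hcard⟩ := exists_fixed_field σ
  have h := R.index_fix (by rw [hσ]; exact even_two) hK hcard
  rw [hσ] at hcard
  exact odd_of_two (odd_card (two_sub R.two K)) one_lt_card' h (by rw [hcard])

/-- the centralizer of a field automorphism of order divisible by four has even index -/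
theorem even_index {σ : F ≃+* F} (hσ : 4 ∣ orderOf σ) : 2 ∣ (fixSub (R.fa σ)).index := by
  obtain ⟨K, hK, hcard⟩ := exists_fixed_field σ
  have h := R.index_fix (even_iff_two_dvd.2 (dvd_trans (by norm_num) hσ)) hK hcard
  rw [hcard] at h
  exact even_of_four (odd_card (two_sub R.two K)) one_lt_card' hσ h

theorem fld_order_two {α : MulAut L} (h1 : α ∉ R.PGL) (h2 : α * α = 1) : orderOf (R.fld α) = 2 := by
  have h3 : R.fld α ≠ 1 := fun h => h1 (R.mem_PGL_iff_fld.2 h)
  exact orderOf_eq_prime (by rw [sq, ← map_mul, h2, map_one]) h3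

/-- **field type involutions** : another representation in which `α` is a field automorphism -/
theorem ftype_rep {α : MulAut L} (h1 : α ∉ R.PGL) (h2 : α * α = 1) :
    ∃ R' : Rep F L, R'.PGL = R.PGL ∧ R'.fld = R.fld ∧ α = R'.fa (R.fld α) ∧ orderOf (R.fld α) = 2 := by
  have h3 := R.fld_order_two h1 h2
  obtain ⟨R', ha, hb, hc⟩ := R.exists_rep α (by rw [h3, sq, h2])
  exact ⟨R', ha, hb, hc, h3⟩

theorem ftype_index {α : MulAut L} (h1 : α ∉ R.PGL) (h2 : α * α = 1) : ¬ 2 ∣ (fixSub α).index := by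
  obtain ⟨R', ha, hb, hc, hd⟩ := R.ftype_rep h1 h2
  rw [hc]
  exact R'.odd_index hd

include R in
theorem exists_syl_of_index {α : MulAut L} (h : ¬ 2 ∣ (fixSub α).index) :
    ∃ S : Sylow 2 L, ∀ s ∈ S, α s = s := by
  have := R.finite
  obtain ⟨S, hS⟩ : ∃ S : Sylow 2 L, (S : Subgroup L) ≤ fixSub α := by
    obtain ⟨Q⟩ : Nonempty (Sylow 2 (fixSub α)) := inferInstance
    have h1 : IsPGroup 2 ((Q : Subgroup (fixSub α)).map (fixSub α).subtype) := Q.2.map _
    have h2 : ¬ 2 ∣ ((Q : Subgroup (fixSub α)).map (fixSub α).subtype).index := by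
      rw [Subgroup.index_map_subtype]
      intro h3
      rcases Nat.prime_two.dvd_mul.1 h3 with h4 | h4
      · exact Q.not_dvd_index h4
      · exact h h4
    refine ⟨h1.toSylow h2, ?_⟩
    rintro x ⟨y, -, rfl⟩
    exact y.2
  exact ⟨S, fun s hs => hS hs⟩

/-- a field type involution centralizes a Sylow 2-subgroup of `L` -/
theorem ftype_syl {α : MulAut L} (h1 : α ∉ R.PGL) (h2 : α * α = 1) :
    ∃ S : Sylow 2 L, ∀ s ∈ S, α s = s :=
  R.exists_syl_of_index (R.ftype_index h1 h2)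

include R in
/-- a 2-element of `Aut(L)` centralizing a Sylow 2-subgroup of `L` has order at most two -/
theorem cent_syl (S : Sylow 2 L) {α : MulAut L} (h1 : ∃ n, α ^ 2 ^ n = 1) (h2 : ∀ s ∈ S, α s = s) :
    α * α = 1 := by
  have := R.finite
  have := finite_ringEquiv (F := F)
  obtain ⟨a, b, ha, hb, hab⟩ := R.exists_four_mem S
  by_cases hα : α ∈ R.PGL
  · rcases R.fix_four hab hα (h2 a ha) (h2 b hb) with h | h | h | h
    · rw [h, mul_one]
    · rw [h, ← map_mul, hab.aa, map_one]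
    · rw [h, ← map_mul, hab.bb, map_one]
    · rw [h, ← map_mul, hab.right.bb, map_one]
  · obtain ⟨Φ, y, δ, hΦ, hΦa, hΦb, -, -, -, -, -, -, -, -, -, -, hcov, -⟩ := R.exists_frame hab
    obtain ⟨u, hu, hα'⟩ := hcov α (h2 a ha) (h2 b hb)
    have huu : u * u = 1 := by
      rcases hu with rfl | rfl | rfl | rfl
      · exact one_mul 1
      · exact hab.aa
      · exact hab.bb
      · exact hab.right.bb
    have hΦu : ∀ σ, Φ σ u = u := by
      intro σ
      rcases hu with rfl | rfl | rfl | rfl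
      · exact map_one _
      · exact hΦa σ
      · exact hΦb σ
      · rw [map_mul, hΦa, hΦb]
    have hcomm : Commute (MulAut.conj u) (Φ (R.fld α)) := by
      have h3 := conj_conj (Φ (R.fld α)) u
      rw [hΦu, mul_inv_eq_iff_eq_mul] at h3
      exact h3.symm
    -- the order of the field automorphism
    obtain ⟨n, hn⟩ := h1
    have h3 : R.fld α ^ 2 ^ n = 1 := by rw [← map_pow, hn, map_one]
    have h4 : R.fld α ≠ 1 := fun h => hα (R.mem_PGL_iff_fld.2 h)
    obtain ⟨k, hk, hk'⟩ := (Nat.dvd_prime_pow Nat.prime_two).1 (orderOf_dvd_of_pow_eq_one h3)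
    have hk0 : k ≠ 0 := by
      rintro rfl
      rw [pow_zero, orderOf_eq_one_iff] at hk'
      exact h4 hk'
    obtain ⟨j, rfl⟩ := Nat.exists_eq_succ_of_ne_zero hk0
    have hpow : α ^ orderOf (R.fld α) = 1 := by
      rw [hk']
      have h5 : α ^ 2 ^ (j + 1) = MulAut.conj u ^ 2 ^ (j + 1) * Φ (R.fld α) ^ 2 ^ (j + 1) := by
        nth_rw 1 [hα']
        exact hcomm.mul_pow _
      rw [h5, ← map_pow, ← map_pow, ← hk', pow_orderOf_eq_one, map_one, mul_one, hk', pow_succ', pow_mul,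
        sq, huu, one_pow, map_one]
    rcases j with _ | j
    · rw [hk'] at hpow
      have h5 : α ^ 2 = 1 := by simpa using hpow
      rwa [sq] at h5
    · exfalso
      obtain ⟨R', hR1, hR2, hR3⟩ := R.exists_rep α hpow
      have h5 : 4 ∣ orderOf (R.fld α) := by
        rw [hk']
        exact ⟨2 ^ j, by rw [pow_succ, pow_succ]; ring⟩
      have h6 := R'.even_index h5
      rw [← hR3] at h6
      have h7 : (S : Subgroup L) ≤ fixSub α := fun s hs => h2 s hs
      exact S.not_dvd_index (dvd_trans h6 (Subgroup.index_dvd_of_le h7))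

include R in
/-- `N_L(S) = S` if `|S| ≥ 8` -/
theorem norm_syl (S : Sylow 2 L) {d r : L} (hd : Dih (S : Subgroup L) d r) (hdd : d * d ≠ 1) {x : L}
    (hx : ∀ s ∈ S, x * s * x⁻¹ ∈ S) : x ∈ S := by
  have := R.finite
  obtain ⟨n, hn, hzz, hz1⟩ := hd.exists_z S.2
  obtain ⟨z, hz⟩ : ∃ z, z = d ^ 2 ^ n := ⟨_, rfl⟩
  rw [← hz] at hzz hz1
  have hinv : z⁻¹ = z := inv_eq_of_mul_eq_one_left hzz
  have hrz : r * z = z * r := by
    have := hd.r_pow' ((2 ^ n : ℕ) : ℤ)
    rw [zpow_natCast, zpow_neg, zpow_natCast, ← hz, hinv] at this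
    exact this
  have hdz : d * z = z * d := by rw [hz]; exact (Commute.refl d).pow_right _
  have hSz : ∀ s ∈ S, s * z = z * s := by
    intro s hs
    have hcd : ∀ k : ℤ, d ^ k * z = z * d ^ k := fun k => ((show Commute d z from hdz).zpow_left k)
    rcases hd.cov s hs with h | ⟨k, rfl⟩
    · obtain ⟨k, rfl⟩ := Subgroup.mem_zpowers_iff.1 h
      exact hcd k
    · rw [mul_assoc, hrz, ← mul_assoc, hcd, mul_assoc]
  -- `z` is the only central involution of `S`
  have huniq : ∀ u ∈ S, (∀ s ∈ S, s * u = u * s) → u * u = 1 → u ≠ 1 → u = z := by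
    intro u hu hc huu hu1
    rcases hd.cov u hu with h | ⟨k, rfl⟩
    · by_contra hne
      exact four_not_cyc (c := d) (a := u) (b := z) { aa := huu, bb := hzz, a1 := hu1, b1 := hz1, ne := hne, comm := hSz u hu } h (by rw [hz]; exact pow_mem (Subgroup.mem_zpowers d) _)
    · exfalso
      have h1 := hc d hd.d_mem
      have h2 := hd.pow_r_conj k 1
      rw [zpow_one, ← h1, mul_inv_cancel_right, zpow_neg, zpow_one] at h2
      apply hdd
      nth_rw 1 [h2]
      exact inv_mul_cancel d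
  have hzS : z ∈ S := by rw [hz]; exact pow_mem hd.d_mem _
  have hxz : x * z = z * x := by
    have hx' : ∀ s ∈ S, ∃ t ∈ S, x * t * x⁻¹ = s := by
      have h3 : (S : Subgroup L).map (MulAut.conj x).toMonoidHom = S := by
        apply Subgroup.eq_of_le_of_card_ge
        · rintro _ ⟨s, hs, rfl⟩
          exact hx s hs
        · exact (Nat.card_congr ((S : Subgroup L).equivMapOfInjective (MulAut.conj x).toMonoidHom
            (MulAut.conj x).injective).toEquiv).le
      intro s hs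
      have h4 : s ∈ (S : Subgroup L).map (MulAut.conj x).toMonoidHom := by rw [h3]; exact hs
      obtain ⟨t, ht, hts⟩ := h4
      exact ⟨t, ht, hts⟩
    have h1 : x * z * x⁻¹ = z := by
      apply huniq _ (hx z hzS)
      · intro s hs
        obtain ⟨t, ht, rfl⟩ := hx' s hs
        have h5 : x * t * x⁻¹ * (x * z * x⁻¹) = x * (t * z) * x⁻¹ := by group
        have h6 : x * z * x⁻¹ * (x * t * x⁻¹) = x * (z * t) * x⁻¹ := by group
        rw [h5, h6, hSz t ht]
      · have h5 : x * z * x⁻¹ * (x * z * x⁻¹) = x * (z * z) * x⁻¹ := by group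
        rw [h5, hzz, mul_one, mul_inv_cancel]
      · intro h5
        apply hz1
        rw [mul_inv_eq_one] at h5
        exact mul_eq_left.1 h5
    rwa [mul_inv_eq_iff_eq_mul] at h1
  obtain ⟨B, hzB, hBc, hBu, hBcov⟩ := R.inner_cent hzz hz1
  have hdB : d ∈ B := (hBcov d hdz).resolve_right (fun h => hdd h.1)
  have hrB : r ∉ B := by
    intro h
    have h1 := hd.rd
    rw [hBc r h d hdB, mul_inv_cancel_right] at h1
    apply hdd
    nth_rw 1 [h1]
    exact inv_mul_cancel d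
  have hrinv := ((hBcov r hrz).resolve_left hrB).2
  apply mem_syl_of_norm S _ hx
  rcases hBcov x hxz with h | h
  · -- `x² ∈ S`
    have h1 : x * r * x⁻¹ ∈ S := hx r hd.r_mem
    have h2 : x * r * x⁻¹ * r⁻¹ = x * x := by
      have h3 := hrinv x⁻¹ (inv_mem h)
      rw [inv_inv] at h3
      calc x * r * x⁻¹ * r⁻¹ = x * (r * x⁻¹ * r⁻¹) := by group
        _ = x * x := by rw [h3]
    have h3 : x * x ∈ S := by
      rw [← h2]
      exact mul_mem h1 (inv_mem (show r ∈ (S : Subgroup L) from hd.r_mem))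
    obtain ⟨m, hm⟩ := exists_pow_of_mem S.2 h3
    refine ⟨m + 1, ?_⟩
    rw [pow_succ', pow_mul, sq, hm]
  · exact ⟨1, by rw [pow_one, sq, h.1]⟩

theorem ftype_dd {α : MulAut L} (h1 : α ∉ R.PGL) (h2 : α * α = 1) (S : Sylow 2 L) {d r : L}
    (hd : Dih (S : Subgroup L) d r) : d * d ≠ 1 := by
  have := R.finite
  have h3 := R.fld_order_two h1 h2
  obtain ⟨K, hK, hcard⟩ := exists_fixed_field (R.fld α)
  rw [h3] at hcard
  -- `8 ∣ |L|`
  have h8 : 8 ∣ Nat.card L := by
    have h4 := R.card_mul_two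
    rw [hcard] at h4
    obtain ⟨a, ha⟩ := odd_card (two_sub R.two K)
    have h5 : (Nat.card K ^ 2) ^ 2 - 1 = 8 * (a * (a + 1)) * (2 * (a * (a + 1)) + 1) := by
      rw [ha]
      have : ((2 * a + 1) ^ 2) ^ 2 = 8 * (a * (a + 1)) * (2 * (a * (a + 1)) + 1) + 1 := by ring
      rw [this, Nat.add_sub_cancel]
    obtain ⟨b, hb⟩ := (Nat.even_mul_succ_self a).two_dvd
    have hb' : a * (a + 1) = 2 * b := hb
    rw [h5, hb'] at h4
    have h6 : Nat.card L * 2 = (8 * (Nat.card K ^ 2 * b * (2 * (2 * b) + 1))) * 2 := by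
      rw [h4]; ring
    exact ⟨_, Nat.eq_of_mul_eq_mul_right (by norm_num) h6⟩
  have h9 : 8 ∣ Nat.card S := by
    have := (S : Subgroup L).card_mul_index
    have h10 := S.not_dvd_index
    have h11 : Nat.Coprime 8 (S : Subgroup L).index := by
      rw [show 8 = 2 ^ 3 by norm_num]
      exact Nat.Coprime.pow_left 3 ((Nat.Prime.coprime_iff_not_dvd Nat.prime_two).2 h10)
    rw [← this] at h8
    exact h11.dvd_of_dvd_mul_right h8
  have h10 : Nat.card (S : Subgroup L) = 2 * orderOf d := hd.card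
  have h11 : 8 ∣ 2 * orderOf d := by rw [← h10]; exact h9
  intro hdd
  have h12 : orderOf d ∣ 2 := orderOf_dvd_of_pow_eq_one (by rw [sq, hdd])
  have h13 := Nat.le_of_dvd (by norm_num) h12
  have h14 := orderOf_pos d
  have h15 := Nat.le_of_dvd (by omega) h11
  omega

end Rep

end Cfsg.Agent.GH.L2Aut
end
end
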