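import Mathlib
import Cfsg.Agent.GH.LowRankLie
import Cfsg.Agent.ChevalleyStructure.D4Twisted
import Cfsg.Agent.ChevalleyStructure.SL2All
set_option linter.all false

/-!
# Groups of sectional 2-rank at least four: `³D₄(q)`  (GH-0, S0500)
-/

set_option autoImplicit false
set_option maxHeartbeats 400000

namespace Cfsg.Agent.GH.LowRankD4

open Cfsg Cfsg.Lie Cfsg.Agent.GH.Rank Cfsg.Agent.GH.LowRankQ8
open Cfsg.Agent.ChevalleyStructure.LaurentWord
open Cfsg.Agent.ChevalleyStructure.LaurentNH
open Cfsg.Agent.ChevalleyStructure.SL2Rep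
open Cfsg.Agent.ChevalleyStructure.SL2Hom
open Cfsg.Agent.ChevalleyStructure.D4Cols (colsOK xU coe_xU xU_inv xU_comm outerPairs)
open Cfsg.Agent.ChevalleyStructure.D4Fixed (exists_frob X_mem Y_mem x14_mem x9_mem)
open Cfsg.Agent.ChevalleyStructure.D4NConj (nG nG_conj)
open Cfsg.Agent.ChevalleyStructure.D4NCheck (rfl' eta)
open Cfsg.Agent.ChevalleyStructure.D4Comm (xG)
open Cfsg.Agent.ChevalleyStructure.D4U (na nb na_mem nb_mem)

/-! ### The kernel checks -/

/-- The root subgroups of `±(highest root)` commute with those of `±p₁, ±p₃, ±p₄`. -/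
def highPairs : List (ℕ × ℕ) :=
  [(23, 18), (23, 5), (23, 13), (23, 10), (23, 12), (23, 11), (0, 18), (0, 5), (0, 13), (0, 10), (0, 12), (0, 11)]

theorem check_comm : (highPairs.all fun p =>
      checkEq 28 24 (col chevD4) [(p.1, 1, 1, 0), (p.2, 1, 0, 1)] [(p.2, 1, 0, 1), (p.1, 1, 1, 0)]) = true := by
  decide +kernel

/-- the word of the Weyl element of the highest root -/
def w23 : List (ℕ × Mono) := [(23, -1, 0, 0), (0, 1, 0, 0), (23, -1, 0, 0)]

/-- the word of the Weyl element of the outer nodes -/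
def wo : List (ℕ × Mono) :=
  [(18, -1, 0, 0), (13, -1, 0, 0), (12, -1, 0, 0), (5, 1, 0, 0), (10, 1, 0, 0), (11, 1, 0, 0),
    (18, -1, 0, 0), (13, -1, 0, 0), (12, -1, 0, 0)]

/-- the diagonal matrices of the central involutions -/
def dz : ℕ → Mono := fun j => ((applyW 28 (col chevD4) (w23 ++ w23) [(j, 1, 0, 0)]).headD (j, 1, 0, 0)).2

/-- the diagonal matrices of the central involutions -/
def dzo : ℕ → Mono := fun j => ((applyW 28 (col chevD4) (wo ++ wo) [(j, 1, 0, 0)]).headD (j, 1, 0, 0)).2

theorem check_dz : checkDiag 28 24 (col chevD4) (w23 ++ w23) dz = true := by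
  decide +kernel

theorem check_dzo : checkDiag 28 24 (col chevD4) (wo ++ wo) dzo = true := by
  decide +kernel

theorem dz_val : dz 18 = (-1, 0, 0) := by decide +kernel
theorem dzo_val : dzo 18 = (-1, 0, 0) := by decide +kernel

/-! ### The homomorphisms -/

section Field

variable {F : Type*} [Field F]

theorem good (r : ℕ) (hr : r < 24) : Good chevD4 r :=
  Cfsg.Agent.ChevalleyStructure.SL2All.good_of_mem chevD4 (by simp) r hr

theorem high_comm {r s : ℕ} (h : (r, s) ∈ highPairs) (t u : F) : Commute (xU r t) (xU (F := F) s u) :=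
  Units.ext (x_comm_of_check chevD4 colsOK (List.all_eq_true.1 check_comm _ h) t u)

theorem phi_up (r : ℕ) (hr : r < 24) (t : F) : phi (good r hr) F (up t) = xU r t :=
  Units.ext (phi_upper (good r hr) _ t rfl)

theorem phi_lo (r s : ℕ) (hr : r < 24) (hs : chevD4.neg r = s) (t : F) : phi (good r hr) F (lo t) = xU s t := by
  subst hs
  exact Units.ext (phi_lower (good r hr) _ t rfl)

/-- Commutation of homomorphisms from the generators. -/
theorem commute_of {L L' Γ : Type*} [Group L] [Group L'] [Group Γ] (φ : L →* Γ) (ψ : L' →* Γ) (S : Set L)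
    (S' : Set L') (hS : ∀ g, g ∈ Subgroup.closure S) (hS' : ∀ g, g ∈ Subgroup.closure S')
    (h : ∀ a ∈ S, ∀ b ∈ S', Commute (φ a) (ψ b)) (a : L) (b : L') : Commute (φ a) (ψ b) := by
  have h1 : ∀ a ∈ S, ∀ b, Commute (φ a) (ψ b) := by
    intro a ha b
    refine Subgroup.closure_induction (p := fun b _ => Commute (φ a) (ψ b)) (fun b hb => h a ha b hb)
      ?_ ?_ ?_ (hS' b)
    · rw [map_one]; exact Commute.one_right _
    · intro x y _ _ hx hy
      rw [map_mul]; exact hx.mul_right hy
    · intro x _ hx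
      rw [map_inv]; exact hx.inv_right
  refine Subgroup.closure_induction (p := fun a _ => Commute (φ a) (ψ b)) (fun a ha => h1 a ha b)
    ?_ ?_ ?_ (hS a)
  · rw [map_one]; exact Commute.one_left _
  · intro x y _ _ hx hy
    rw [map_mul]; exact hx.mul_left hy
  · intro x _ hx
    rw [map_inv]; exact hx.inv_left

variable {P : Type*} [Field P] (c : P →+* F)

/-- The homomorphism of the highest root. -/
noncomputable def hi : Matrix.SpecialLinearGroup (Fin 2) P →* GL chevD4.Idx F :=
  (phi (good 23 (by decide)) F).comp (Matrix.SpecialLinearGroup.map c)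

/-- The homomorphism of an outer node. -/
noncomputable def ou (r : ℕ) (hr : r < 24) : Matrix.SpecialLinearGroup (Fin 2) P →* GL chevD4.Idx F :=
  (phi (good r hr) F).comp (Matrix.SpecialLinearGroup.map c)

theorem map_up (t : P) : Matrix.SpecialLinearGroup.map c (up t) = up (c t) := by
  apply Subtype.ext
  change (!![1, t; 0, 1] : Matrix (Fin 2) (Fin 2) P).map c = !![1, c t; 0, 1]
  ext i j
  fin_cases i <;> fin_cases j <;> simp

theorem map_lo (t : P) : Matrix.SpecialLinearGroup.map c (lo t) = lo (c t) := by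
  apply Subtype.ext
  change (!![1, 0; t, 1] : Matrix (Fin 2) (Fin 2) P).map c = !![1, 0; c t, 1]
  ext i j
  fin_cases i <;> fin_cases j <;> simp

theorem ou_up (r : ℕ) (hr : r < 24) (t : P) : ou c r hr (up t) = xU r (c t) := by
  change phi (good r hr) F (Matrix.SpecialLinearGroup.map c (up t)) = _
  rw [map_up, phi_up r hr]

theorem ou_lo (r s : ℕ) (hr : r < 24) (hs : chevD4.neg r = s) (t : P) : ou c r hr (lo t) = xU s (c t) := by
  change phi (good r hr) F (Matrix.SpecialLinearGroup.map c (lo t)) = _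
  rw [map_lo, phi_lo r s hr hs]

theorem ou_comm (r s r' s' : ℕ) (hr : r < 24) (hr' : r' < 24) (hs : chevD4.neg r = s) (hs' : chevD4.neg r' = s')
    (h1 : ∀ t u : F, Commute (xU r t) (xU r' u)) (h2 : ∀ t u : F, Commute (xU r t) (xU s' u))
    (h3 : ∀ t u : F, Commute (xU s t) (xU r' u)) (h4 : ∀ t u : F, Commute (xU s t) (xU s' u))
    (g h : Matrix.SpecialLinearGroup (Fin 2) P) : Commute (ou c r hr g) (ou c r' hr' h) := by
  refine commute_of (ou c r hr) (ou c r' hr') _ _ mem_closure_SL2 mem_closure_SL2 ?_ g h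
  rintro _ (⟨t, rfl⟩ | ⟨t, rfl⟩) _ (⟨u, rfl⟩ | ⟨u, rfl⟩)
  · rw [ou_up, ou_up]; exact h1 _ _
  · rw [ou_up, ou_lo c _ _ _ hs']; exact h2 _ _
  · rw [ou_lo c _ _ _ hs, ou_up]; exact h3 _ _
  · rw [ou_lo c _ _ _ hs, ou_lo c _ _ _ hs']; exact h4 _ _

theorem pc {r s : ℕ} (h : (r, s) ∈ outerPairs) : ∀ t u : F, Commute (xU r t) (xU s u) := fun t u => xU_comm h t u
theorem pc' {r s : ℕ} (h : (s, r) ∈ outerPairs) : ∀ t u : F, Commute (xU r t) (xU s u) :=
  fun t u => (xU_comm h u t).symm

theorem c1 (g h : Matrix.SpecialLinearGroup (Fin 2) P) :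
    Commute (ou c 18 (by decide) g) (ou c 13 (by decide) h) :=
  ou_comm c 18 5 13 10 (by decide) (by decide) (by decide +kernel) (by decide +kernel) (pc (by decide))
    (pc (by decide)) (pc (by decide)) (pc (by decide)) g h

theorem c2 (g h : Matrix.SpecialLinearGroup (Fin 2) P) :
    Commute (ou c 18 (by decide) g) (ou c 12 (by decide) h) :=
  ou_comm c 18 5 12 11 (by decide) (by decide) (by decide +kernel) (by decide +kernel) (pc (by decide))
    (pc (by decide)) (pc (by decide)) (pc (by decide)) g h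

theorem c3 (g h : Matrix.SpecialLinearGroup (Fin 2) P) :
    Commute (ou c 13 (by decide) g) (ou c 12 (by decide) h) :=
  ou_comm c 13 10 12 11 (by decide) (by decide) (by decide +kernel) (by decide +kernel) (pc (by decide))
    (pc (by decide)) (pc (by decide)) (pc (by decide)) g h

/-- The product of the three outer nodes. -/
noncomputable def out : Matrix.SpecialLinearGroup (Fin 2) P →* GL chevD4.Idx F :=
  MonoidHom.mk' (fun g => ou c 18 (by decide) g * ou c 13 (by decide) g * ou c 12 (by decide) g) (by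
    intro g h
    simp only [map_mul]
    have e1 := (c1 c h g).eq
    have e2 := (c2 c h g).eq
    have e3 := (c3 c h g).eq
    set A := ou c 18 (by decide) g
    set A' := ou c 18 (by decide) h
    set B := ou c 13 (by decide) g
    set B' := ou c 13 (by decide) h
    set D := ou c 12 (by decide) g
    set D' := ou c 12 (by decide) h
    calc A * A' * (B * B') * (D * D') = A * (A' * B) * B' * D * D' := by simp only [mul_assoc]
      _ = A * (B * A') * B' * D * D' := by rw [e1]
      _ = A * B * A' * (B' * D) * D' := by simp only [mul_assoc]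
      _ = A * B * A' * (D * B') * D' := by rw [e3]
      _ = A * B * (A' * D) * B' * D' := by simp only [mul_assoc]
      _ = A * B * (D * A') * B' * D' := by rw [e2]
      _ = A * B * D * (A' * B' * D') := by simp only [mul_assoc])

theorem out_up (t : P) : out c (up t) = xU 18 (c t) * xU 13 (c t) * xU 12 (c t) := by
  change ou c 18 _ _ * ou c 13 _ _ * ou c 12 _ _ = _
  rw [ou_up, ou_up, ou_up]

theorem out_lo (t : P) : out c (lo t) = xU 5 (c t) * xU 10 (c t) * xU 11 (c t) := by
  change ou c 18 _ _ * ou c 13 _ _ * ou c 12 _ _ = _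
  rw [ou_lo c 18 5 _ (by decide +kernel), ou_lo c 13 10 _ (by decide +kernel), ou_lo c 12 11 _ (by decide +kernel)]

theorem hi_up (t : P) : hi c (up t) = xU 23 (c t) := ou_up c 23 (by decide) t
theorem hi_lo (t : P) : hi c (lo t) = xU 0 (c t) := ou_lo c 23 0 (by decide) (by decide +kernel) t

theorem hi_out_comm (g h : Matrix.SpecialLinearGroup (Fin 2) P) : Commute (hi c g) (out c h) := by
  have q : ∀ {r s : ℕ}, (r, s) ∈ highPairs → ∀ t u : F, Commute (xU r t) (xU s u) :=
    fun h t u => high_comm h t u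
  change Commute (ou c 23 (by decide) g) (ou c 18 (by decide) h * ou c 13 (by decide) h * ou c 12 (by decide) h)
  refine ((ou_comm c 23 0 18 5 (by decide) (by decide) (by decide +kernel) (by decide +kernel) (q (by decide))
    (q (by decide)) (q (by decide)) (q (by decide)) g h).mul_right
    (ou_comm c 23 0 13 10 (by decide) (by decide) (by decide +kernel) (by decide +kernel) (q (by decide))
    (q (by decide)) (q (by decide)) (q (by decide)) g h)).mul_right
    (ou_comm c 23 0 12 11 (by decide) (by decide) (by decide +kernel) (by decide +kernel) (q (by decide))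
    (q (by decide)) (q (by decide)) (q (by decide)) g h)

/-! ### The central involutions -/

theorem wordMat_append (l₁ l₂ : List (ℕ × F)) :
    chevD4.wordMat F (l₁ ++ l₂) = chevD4.wordMat F l₁ * chevD4.wordMat F l₂ := by
  simp [ChevalleyDatum.wordMat]

theorem evW_append (t u : F) (l₁ l₂ : List (ℕ × Mono)) : evW t u (l₁ ++ l₂) = evW t u l₁ ++ evW t u l₂ := by
  simp [evW]

theorem neg_one_eq_sq : (-1 : Matrix.SpecialLinearGroup (Fin 2) P) =
    (up (-1) * lo 1 * up (-1)) * (up (-1) * lo 1 * up (-1)) :=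
  (Cfsg.Agent.ClassificationK.GTwoChev.wsl_sq (F := P)).symm

theorem hi_neg_one (h2 : (2 : F) ≠ 0) : hi c (-1) ≠ 1 := by
  intro h
  have e : ((hi c (up (-1) * lo 1 * up (-1)) : GL chevD4.Idx F) : Matrix _ _ F) =
      chevD4.wordMat F (evW (1 : F) 1 w23) := by
    simp only [evW, w23, List.map_cons, List.map_nil, ChevalleyDatum.wordMat, List.prod_cons, List.prod_nil,
      mul_one, evM_neg_one, evM_one]
    rw [map_mul, map_mul, hi_up, hi_lo, map_neg, map_one]
    rw [Units.val_mul, Units.val_mul, coe_xU, coe_xU, mul_assoc]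
  rw [neg_one_eq_sq, map_mul] at h
  have h1 := congrArg Units.val h
  rw [Units.val_mul, e, ← wordMat_append, ← evW_append,
    wordMat_eq_of_checkDiag chevD4 colsOK one_ne_zero one_ne_zero check_dz, Units.val_one] at h1
  have h3 := congrFun (congrFun h1 (Sum.inr ⟨14, by decide⟩)) (Sum.inr ⟨14, by decide⟩)
  rw [Matrix.diagonal_apply_eq, Matrix.one_apply_eq] at h3
  have h4 : code chevD4 (Sum.inr ⟨14, by decide⟩) = 18 := rfl
  rw [h4, dz_val, evM_neg_one] at h3
  exact h2 (by linear_combination -h3)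

theorem out_neg_one (h2 : (2 : F) ≠ 0) : out c (-1) ≠ 1 := by
  intro h
  have e : ((out c (up (-1) * lo 1 * up (-1)) : GL chevD4.Idx F) : Matrix _ _ F) =
      chevD4.wordMat F (evW (1 : F) 1 wo) := by
    simp only [evW, wo, List.map_cons, List.map_nil, ChevalleyDatum.wordMat, List.prod_cons, List.prod_nil,
      mul_one, evM_neg_one, evM_one]
    rw [map_mul, map_mul, out_up, out_lo, map_neg, map_one]
    simp only [Units.val_mul, coe_xU, mul_assoc]
  rw [neg_one_eq_sq, map_mul] at h
  have h1 := congrArg Units.val h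
  rw [Units.val_mul, e, ← wordMat_append, ← evW_append,
    wordMat_eq_of_checkDiag chevD4 colsOK one_ne_zero one_ne_zero check_dzo, Units.val_one] at h1
  have h3 := congrFun (congrFun h1 (Sum.inr ⟨14, by decide⟩)) (Sum.inr ⟨14, by decide⟩)
  rw [Matrix.diagonal_apply_eq, Matrix.one_apply_eq] at h3
  have h4 : code chevD4 (Sum.inr ⟨14, by decide⟩) = 18 := rfl
  rw [h4, dzo_val, evM_neg_one] at h3
  exact h2 (by linear_combination -h3)

end Field

/-! ### Membership in `³D₄(q)` -/

section Mem

variable {K : Type*} [Field K] {φ : K →+* K} {q : ℕ}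

theorem xU_eq_xG (r : ℕ) (t : K) : (xU r t : GL chevD4.Idx K) = xG r t := Units.ext rfl

/-- The conjugation of a root element by `n_a n_b`. -/
theorem conj_eq {s : ℕ} (hs : s = 14 ∨ s = 9) (t : K) :
    (na K * nb K) * xG s t * (na K * nb K)⁻¹ =
      xG (if s = 14 then 23 else 0) (((eta 1 (if s = 14 then 22 else 1) * eta 0 (if s = 14 then 17 else 6) *
        eta 2 (if s = 14 then 15 else 8) * eta 3 s : ℤ) : K) * t) := by
  have e : (na K * nb K) * xG s t * (na K * nb K)⁻¹ =
      nG K 1 * (nG K 0 * (nG K 2 * (nG K 3 * xG s t * (nG K 3)⁻¹) * (nG K 2)⁻¹) * (nG K 0)⁻¹) * (nG K 1)⁻¹ := by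
    unfold na nb
    group
  rcases hs with rfl | rfl
  · rw [e, nG_conj (by norm_num) (by norm_num), show rfl' 3 14 = 15 from by decide +kernel,
      nG_conj (by norm_num) (by norm_num), show rfl' 2 15 = 17 from by decide +kernel,
      nG_conj (by norm_num) (by norm_num), show rfl' 0 17 = 22 from by decide +kernel,
      nG_conj (by norm_num) (by norm_num), show rfl' 1 22 = 23 from by decide +kernel]
    simp only [if_true]
    congr 1
    push_cast
    ring
  · rw [e, nG_conj (by norm_num) (by norm_num), show rfl' 3 9 = 8 from by decide +kernel,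
      nG_conj (by norm_num) (by norm_num), show rfl' 2 8 = 6 from by decide +kernel,
      nG_conj (by norm_num) (by norm_num), show rfl' 0 6 = 1 from by decide +kernel,
      nG_conj (by norm_num) (by norm_num), show rfl' 1 1 = 0 from by decide +kernel]
    rw [if_neg (by norm_num), if_neg (by norm_num), if_neg (by norm_num), if_neg (by norm_num)]
    congr 1
    push_cast
    ring

theorem sign_cases (s : ℕ) (hs : s = 14 ∨ s = 9) :
    (eta 1 (if s = 14 then 22 else 1) * eta 0 (if s = 14 then 17 else 6) *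
        eta 2 (if s = 14 then 15 else 8) * eta 3 s : ℤ) = 1 ∨
    (eta 1 (if s = 14 then 22 else 1) * eta 0 (if s = 14 then 17 else 6) *
        eta 2 (if s = 14 then 15 else 8) * eta 3 s : ℤ) = -1 := by
  rcases hs with rfl | rfl <;> decide +kernel

theorem high_mem (hφ : ∀ x, φ x = x ^ q) {s : ℕ} (hs : s = 14 ∨ s = 9) {t : K} (ht : φ t = t) :
    xU (if s = 14 then 23 else 0) t ∈ twistedD4 K q := by
  have hn : na K * nb K ∈ twistedD4 K q := mul_mem (na_mem hφ) (nb_mem hφ)
  have hx : ∀ u : K, φ u = u → (na K * nb K) * xG s u * (na K * nb K)⁻¹ ∈ twistedD4 K q := by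
    intro u hu
    refine mul_mem (mul_mem hn ?_) (inv_mem hn)
    have hu' : u ^ q = u := (hφ u).symm.trans hu
    rcases hs with rfl | rfl
    · rw [← xU_eq_xG]; exact x14_mem hu'
    · rw [← xU_eq_xG]; exact x9_mem hu'
  rw [xU_eq_xG]
  rcases sign_cases s hs with h | h
  · have h1 := hx t ht
    rw [conj_eq hs, h, Int.cast_one, one_mul] at h1
    exact h1
  · have h1 := hx (-t) (by rw [map_neg, ht])
    rw [conj_eq hs, h, Int.cast_neg, Int.cast_one, neg_mul_neg, one_mul] at h1
    exact h1

variable {P : Type*} [Field P] (c : P →+* K)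

theorem hi_mem (hφ : ∀ x, φ x = x ^ q) (hc : ∀ t, φ (c t) = c t) (g : Matrix.SpecialLinearGroup (Fin 2) P) :
    hi c g ∈ twistedD4 K q := by
  refine Subgroup.closure_induction (p := fun g _ => hi c g ∈ twistedD4 K q) ?_ ?_ ?_ ?_ (mem_closure_SL2 g)
  · rintro _ (⟨t, rfl⟩ | ⟨t, rfl⟩)
    · rw [hi_up]
      exact high_mem hφ (s := 14) (Or.inl rfl) (hc t)
    · rw [hi_lo]
      exact high_mem hφ (s := 9) (Or.inr rfl) (hc t)
  · rw [map_one]; exact one_mem _
  · intro x y _ _ hx hy
    rw [map_mul]; exact mul_mem hx hy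
  · intro x _ hx
    rw [map_inv]; exact inv_mem hx

theorem out_mem (hφ : ∀ x, φ x = x ^ q) (hc : ∀ t, φ (c t) = c t) (g : Matrix.SpecialLinearGroup (Fin 2) P) :
    out c g ∈ twistedD4 K q := by
  refine Subgroup.closure_induction (p := fun g _ => out c g ∈ twistedD4 K q) ?_ ?_ ?_ ?_ (mem_closure_SL2 g)
  · rintro _ (⟨t, rfl⟩ | ⟨t, rfl⟩)
    · rw [out_up]
      have h := X_mem hφ (c t)
      unfold Cfsg.Agent.ChevalleyStructure.D4Fixed.X at h
      rw [hc, hc] at h
      exact h
    · rw [out_lo]
      have h := Y_mem hφ (c t)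
      unfold Cfsg.Agent.ChevalleyStructure.D4Fixed.Y at h
      rw [hc, hc] at h
      exact h
  · rw [map_one]; exact one_mem _
  · intro x y _ _ hx hy
    rw [map_mul]; exact mul_mem hx hy
  · intro x _ hx
    rw [map_inv]; exact inv_mem hx

end Mem

/-- `³D₄(q)`, `q` odd, is not of sectional 2-rank at most three. -/
theorem tw_not_three {K : Type*} [Field K] [Fintype K] {q : ℕ} (hq : Odd q) (hK : Fintype.card K = q ^ 3) :
    ¬ SectionalPRankLE 2 3 ↥(twistedD4 K q) := by
  have hodd : Odd (Fintype.card K) := by rw [hK]; exact hq.pow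
  have h2 : (2 : K) ≠ 0 := LowRankLie.two_ne_zero_of_odd hodd
  have hpp : IsPrimePow q := by
    have h1 : IsPrimePow (q ^ 3) := by rw [← hK]; exact Fintype.isPrimePow_card_of_field
    rwa [isPrimePow_pow_iff (by norm_num)] at h1
  obtain ⟨φ, hφ⟩ := exists_frob hpp hK
  obtain ⟨p, hp⟩ := CharP.exists K
  have hpr : p.Prime := by
    rcases CharP.char_is_prime_or_zero K p with h | h
    · exact h
    · exfalso
      subst h
      have := CharP.charP_to_charZero K
      exact (Infinite.of_injective (Nat.cast : ℕ → K) Nat.cast_injective).not_finite inferInstance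
  have := Fact.mk hpr
  let c : ZMod p →+* K := ZMod.castHom (dvd_refl p) K
  have hc : ∀ t, φ (c t) = c t := by
    intro t
    have h1 : (φ : K →+* K).comp c = c := Subsingleton.elim _ _
    exact congrFun (congrArg DFunLike.coe h1) t
  have hfin : Finite ↥(twistedD4 K q) := inferInstance
  refine not_three_sl2 (MonoidHom.id ↥(twistedD4 K q)) (fun s hs t => ?_)
    ((hi c).codRestrict (twistedD4 K q) (hi_mem c hφ hc))
    ((out c).codRestrict (twistedD4 K q) (out_mem c hφ hc)) ?_ ?_ ?_
  · have h : s = 1 := hs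
    rw [h, one_mul, mul_one]
  · intro h
    exact hi_neg_one c h2 (congrArg Subtype.val h)
  · intro h
    exact out_neg_one c h2 (congrArg Subtype.val h)
  · intro u v
    exact Subtype.ext (hi_out_comm c u v)

end Cfsg.Agent.GH.LowRankD4
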