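import Mathlib
import Cfsg.Agent.GH.MTwSyl
import Cfsg.Agent.CoThreeStd.MTwelveCent
set_option linter.all false

-- part: GH/MTwFacts
section
/-!
# 2.M12: facts on the Sylow 2-subgroup `T`
-/

set_option autoImplicit false
set_option maxRecDepth 100000

namespace Cfsg.Agent.GH.MTwFacts

open Cfsg.Agent.GH.MTwCode Cfsg.Agent.GH.MTwBound Cfsg.Agent.GH.MTwModel Cfsg.Agent.GH.MTwSyl
open Subgroup

theorem eqB {a b : ℕ} (h : a = b) : Nat.beq a b = true := by rw [h]; exact Nat.beq_refl _

/-- `t ↦ W t W` on codes -/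
noncomputable def tc (c : ℕ) : ℕ := force (comp c cW) fun x => comp cW x

theorem code_tau (t : Pm) : code (W * t * W) = tc (code t) := by
  rw [tc, force_eq, mul_assoc, code_mul, code_mul, code_W]

noncomputable def sq (c : ℕ) : ℕ := comp c c

theorem pow4 {X : Type*} [Group X] (t : X) : t ^ 4 = (t * t) * (t * t) := by
  rw [show 4 = 2 + 2 by norm_num, pow_add, pow_two]

theorem code_sq (t : Pm) : code (t * t) = sq (code t) := code_mul t t

noncomputable def cAZ : ℕ := comp cA cZ

theorem code_AZ : code (A * Z) = cAZ := by rw [code_mul, code_A, code_Z]; rfl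

theorem A_mem : A ∈ T := by
  rw [mem_iff, code_A]; exact memb_iff.mp (by decide +kernel)

theorem Z_mem : Z ∈ T := by
  rw [mem_iff, code_Z]; exact memb_iff.mp (by decide +kernel)

theorem Z_ne_one : Z ≠ 1 := by
  intro h
  have h1 : code Z = code 1 := by rw [h]
  rw [code_Z, code_one] at h1
  have h2 : Nat.beq cZ one = false := by decide +kernel
  rw [h1, Nat.beq_refl] at h2
  exact absurd h2 (by simp)

theorem A_ne_one : A ≠ 1 := by
  intro h
  have h1 : code A = code 1 := by rw [h]
  rw [code_A, code_one] at h1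
  have h2 : Nat.beq cA one = false := by decide +kernel
  rw [h1, Nat.beq_refl] at h2
  exact absurd h2 (by simp)

theorem A_ne_Z : A ≠ Z := by
  intro h
  have h1 : code A = code Z := by rw [h]
  rw [code_A, code_Z] at h1
  have h2 : Nat.beq cA cZ = false := by decide +kernel
  rw [h1, Nat.beq_refl] at h2
  exact absurd h2 (by simp)

theorem W_sq : W * W = 1 := by
  apply code_inj
  rw [code_sq, code_W, code_one]
  exact Nat.eq_of_beq_eq_true (by decide +kernel)

theorem WA : W * A * W = A := by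
  apply code_inj
  rw [code_tau, code_A]
  exact Nat.eq_of_beq_eq_true (by decide +kernel)

theorem WB : W * B * W = B⁻¹ := by
  apply code_inj
  rw [code_tau, code_B, code_Bi]
  exact Nat.eq_of_beq_eq_true (by decide +kernel)

theorem WZ : W * Z * W = Z := by
  apply code_inj
  rw [code_tau, code_Z]
  exact Nat.eq_of_beq_eq_true (by decide +kernel)

/-- (c1) -/
theorem pow_four {t : Pm} (ht : t ∈ T) : t ^ 4 = 1 ∨ t ^ 4 = A * Z := by
  refine forall_T (P := fun t => t ^ 4 = 1 ∨ t ^ 4 = A * Z)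
    (fun c => force (sq c) fun x => force (sq x) fun y => Bool.rec (Nat.beq y cAZ) true (Nat.beq y one))
    ?_ (by decide +kernel) t ht
  intro t h
  simp only [force_eq] at h
  rw [pow4]
  rw [← code_sq, ← code_sq] at h
  rcases hb : Nat.beq (code (t * t * (t * t))) one with _ | _
  · rw [hb] at h
    right
    apply code_inj
    rw [code_AZ]; exact Nat.eq_of_beq_eq_true h
  · left
    apply code_inj
    rw [code_one]; exact Nat.eq_of_beq_eq_true hb

/-- (c2) -/
theorem sq_ne_A {t : Pm} (ht : t ∈ T) : t * t ≠ A := by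
  refine forall_T (P := fun t => t * t ≠ A)
    (fun c => force (sq c) fun x => Bool.rec true false (Nat.beq x cA)) ?_ (by decide +kernel) t ht
  intro t h he
  simp only [force_eq] at h
  rw [← code_sq, he, code_A, Nat.beq_refl] at h
  exact absurd h (by simp)

/-- (c3) -/
theorem G0_pow_four : G0 ^ 4 = A * Z := by
  apply code_inj
  rw [pow4, code_sq, code_sq, code_G0, code_AZ]
  exact Nat.eq_of_beq_eq_true (by decide +kernel)

theorem G1_pow_four : G1 ^ 4 = A * Z := by
  apply code_inj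
  rw [pow4, code_sq, code_sq, code_G1, code_AZ]
  exact Nat.eq_of_beq_eq_true (by decide +kernel)

theorem G0G1_sq : (G0 * G1) * (G0 * G1) = Z := by
  apply code_inj
  rw [code_sq, code_mul, code_G0, code_G1, code_Z]
  exact Nat.eq_of_beq_eq_true (by decide +kernel)

/-- (c4) -/
theorem center {t : Pm} (ht : t ∈ T) (hc : ∀ u ∈ T, u * t = t * u) :
    t = 1 ∨ t = A ∨ t = Z ∨ t = A * Z := by
  have key : ∀ t ∈ T, (G0 * t = t * G0 ∧ G1 * t = t * G1 ∧ G2 * t = t * G2) →
      code t ∈ [one, cA, cZ, cAZ] := by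
    refine forall_T (P := fun t => (G0 * t = t * G0 ∧ G1 * t = t * G1 ∧ G2 * t = t * G2) →
      code t ∈ [one, cA, cZ, cAZ])
      (fun c => Bool.rec true (memb c [one, cA, cZ, cAZ])
        ((Nat.beq (comp c0 c) (comp c c0)) && (Nat.beq (comp c1 c) (comp c c1)) &&
        (Nat.beq (comp c2 c) (comp c c2)))) ?_ (by decide +kernel)
    rintro t h ⟨h0, h1, h2⟩
    rw [← code_G0, ← code_G1, ← code_G2, ← code_mul, ← code_mul, ← code_mul, ← code_mul,
      ← code_mul, ← code_mul, h0, h1, h2, Nat.beq_refl, Nat.beq_refl, Nat.beq_refl] at h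
    exact memb_iff.mp h
  have h := key t ht ⟨hc _ G0_mem, hc _ G1_mem, hc _ G2_mem⟩
  simp only [List.mem_cons, List.not_mem_nil, or_false] at h
  rcases h with h | h | h | h
  · left; apply code_inj; rw [h, code_one]
  · right; left; apply code_inj; rw [h, code_A]
  · right; right; left; apply code_inj; rw [h, code_Z]
  · right; right; right; apply code_inj; rw [h, code_AZ]

/-- `A` and `Z` are central in `T` -/
theorem comm_A {t : Pm} (ht : t ∈ T) : A * t = t * A := by
  refine forall_T (P := fun t => A * t = t * A)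
    (fun c => Nat.beq (comp cA c) (comp c cA)) ?_ (by decide +kernel) t ht
  intro t h
  apply code_inj
  rw [code_mul, code_mul, code_A]
  exact Nat.eq_of_beq_eq_true h

theorem comm_Z {t : Pm} (ht : t ∈ T) : Z * t = t * Z := by
  refine forall_T (P := fun t => Z * t = t * Z)
    (fun c => Nat.beq (comp cZ c) (comp c cZ)) ?_ (by decide +kernel) t ht
  intro t h
  apply code_inj
  rw [code_mul, code_mul, code_Z]
  exact Nat.eq_of_beq_eq_true h

/-- `T` is invariant under the outer automorphism -/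
theorem tau_mem {t : Pm} (ht : t ∈ T) : W * t * W ∈ T := by
  refine forall_T (P := fun t => W * t * W ∈ T)
    (fun c => force (tc c) fun x => memb x TL) ?_ (by decide +kernel) t ht
  intro t h
  rw [force_eq] at h
  rw [mem_iff, code_tau]
  exact memb_iff.mp h

/-- (c5) -/
theorem outer_pow {t : Pm} (ht : t ∈ T) :
    ((t * (W * t * W)) * (t * (W * t * W)) = 1 ∨ (t * (W * t * W)) * (t * (W * t * W)) = Z) := by
  refine forall_T (P := fun t => ((t * (W * t * W)) * (t * (W * t * W)) = 1 ∨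
    (t * (W * t * W)) * (t * (W * t * W)) = Z))
    (fun c => force (comp c (tc c)) fun x => force (sq x) fun y =>
      Bool.rec (Nat.beq y cZ) true (Nat.beq y one)) ?_ (by decide +kernel) t ht
  intro t h
  simp only [force_eq] at h
  rw [← code_tau, ← code_mul, ← code_sq] at h
  rcases hb : Nat.beq (code (t * (W * t * W) * (t * (W * t * W)))) one with _ | _
  · rw [hb] at h
    right
    apply code_inj
    rw [code_Z]; exact Nat.eq_of_beq_eq_true h
  · left
    apply code_inj
    rw [code_one]; exact Nat.eq_of_beq_eq_true hb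

/-- (c6) -/
theorem outer_ne_Z {t : Pm} (ht : t ∈ T) : t * (W * t * W) ≠ Z := by
  refine forall_T (P := fun t => t * (W * t * W) ≠ Z)
    (fun c => force (comp c (tc c)) fun x => Bool.rec true false (Nat.beq x cZ)) ?_
    (by decide +kernel) t ht
  intro t h he
  simp only [force_eq] at h
  rw [← code_tau, ← code_mul, he, code_Z, Nat.beq_refl] at h
  exact absurd h (by simp)

theorem outer_ne_A {t : Pm} (ht : t ∈ T) : t * (W * t * W) ≠ A := by
  refine forall_T (P := fun t => t * (W * t * W) ≠ A)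
    (fun c => force (comp c (tc c)) fun x => Bool.rec true false (Nat.beq x cA)) ?_
    (by decide +kernel) t ht
  intro t h he
  simp only [force_eq] at h
  rw [← code_tau, ← code_mul, he, code_A, Nat.beq_refl] at h
  exact absurd h (by simp)

/-- (c5') -/
theorem exists_outer_AZ : ∃ t ∈ T, t * (W * t * W) = A * Z := by
  have h : anyC (fun c => force (comp c (tc c)) fun x => Nat.beq x cAZ) TL = true := by
    decide +kernel
  obtain ⟨c, hc, h⟩ := anyC_iff.mp h
  obtain ⟨t, ht, hte⟩ := exists_of_mem_TL hc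
  refine ⟨t, ht, code_inj ?_⟩
  rw [force_eq] at h
  rw [code_mul, code_tau, hte, code_AZ]
  exact Nat.eq_of_beq_eq_true h

/-- (c7) -/
theorem outer_one {t : Pm} (ht : t ∈ T) (h1 : t * (W * t * W) = 1) :
    ∃ y ∈ T, t * (W * y * W) = y := by
  refine forall_T (P := fun t => t * (W * t * W) = 1 → ∃ y ∈ T, t * (W * y * W) = y)
    (fun c => Bool.rec true (anyC (fun d => force (comp c (tc d)) fun x => Nat.beq x d) TL)
      (Nat.beq (comp c (tc c)) one)) ?_ (by decide +kernel) t ht h1
  intro t h h1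
  rw [← code_tau, ← code_mul, h1, code_one, Nat.beq_refl] at h
  obtain ⟨d, hd, h⟩ := anyC_iff.mp h
  obtain ⟨y, hy, hye⟩ := exists_of_mem_TL hd
  refine ⟨y, hy, code_inj ?_⟩
  rw [force_eq] at h
  rw [code_mul, code_tau, hye]
  exact Nat.eq_of_beq_eq_true h

/-- (c8) -/
theorem fixed_sq {t : Pm} (ht : t ∈ T) (h1 : W * t * W = t) : t * t = 1 := by
  refine forall_T (P := fun t => W * t * W = t → t * t = 1)
    (fun c => Bool.rec true (Nat.beq (sq c) one) (Nat.beq (tc c) c)) ?_ (by decide +kernel) t ht h1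
  intro t h h1
  rw [← code_tau, h1, Nat.beq_refl] at h
  apply code_inj
  rw [code_sq, code_one]
  exact Nat.eq_of_beq_eq_true h

theorem card_roots_Z : Nat.card {t : T // (t : Pm) * t = Z} = 24 := by
  refine card_filter (fun t => t * t = Z) (fun c => Nat.beq (sq c) cZ) ?_ 24 (by decide +kernel)
  intro t
  rw [← code_sq, ← code_Z]
  exact ⟨fun h => eqB (by rw [h]), fun h => code_inj (Nat.eq_of_beq_eq_true h)⟩

theorem card_roots_AZ : Nat.card {t : T // (t : Pm) * t = A * Z} = 24 := by
  refine card_filter (fun t => t * t = A * Z) (fun c => Nat.beq (sq c) cAZ) ?_ 24 (by decide +kernel)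
  intro t
  rw [← code_sq, ← code_AZ]
  exact ⟨fun h => eqB (by rw [h]), fun h => code_inj (Nat.eq_of_beq_eq_true h)⟩

/-! ### normalizer -/

/-- word of an element centralizing `A` and not normalizing `T` -/
def wnx : List ℕ := [1,0,2,0,1,0,2,0,1,0,2]

noncomputable def X0 : Pm := ew A B Z wnx

theorem X0_comm : X0 * A = A * X0 := by
  apply code_inj
  rw [code_mul, code_mul, X0, code_ew, code_A]
  exact Nat.eq_of_beq_eq_true (by decide +kernel)

theorem X0_sq : X0 * X0 = 1 := by
  apply code_inj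
  rw [code_sq, X0, code_ew, code_one]
  exact Nat.eq_of_beq_eq_true (by decide +kernel)

theorem X0_not : X0 * G0 * X0⁻¹ ∉ T := by
  rw [show X0⁻¹ = X0 from inv_eq_of_mul_eq_one_left X0_sq, mem_iff, mul_assoc, code_mul, code_mul,
    X0, code_ew, code_G0]
  intro h
  have h1 : memb (comp (wc wnx) (comp c0 (wc wnx))) TL = false := by decide +kernel
  rw [memb_iff.mpr h] at h1
  exact absurd h1 (by simp)

end Cfsg.Agent.GH.MTwFacts
end

-- part: GH/MTwCover
section
/-!
# 2.M12: every perfect double cover of M12 is isomorphic to the model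
-/

set_option autoImplicit false
set_option maxRecDepth 100000

open Subgroup
open scoped commutatorElement

namespace Cfsg.Agent.GH.MTwCover

open Cfsg.Agent.CoThreeStd.MTwelve (H wd wd_append wd_nil wd_cons wd_eq wd_reverse eqW cj wd_cj
  inv_class card_H closure_gen)
open Cfsg.Agent.GH.MTwBound Cfsg.Agent.GH.MTwModel Cfsg.Agent.GH.MTwSyl Cfsg.Agent.GH.MTwFacts
open Cfsg.Agent.GH.MTwCode (Pm)

/-! ### words in M12 -/

/-- the letters `a, b, b⁻¹` in terms of the involutory generators -/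
def ex : ℕ → List ℕ
  | 0 => [1, 3]
  | 1 => [2, 1, 5]
  | 2 => [5, 1, 2]
  | _ => []

def a0 : H := wd [1, 3]
def b0 : H := wd [2, 1, 5]

theorem a0_eq : a0 = Cfsg.Agent.CoThreeStd.MTwelve.p * Cfsg.Agent.CoThreeStd.MTwelve.r :=
  Cfsg.Agent.CoThreeStd.MTwelve.wd_pr

theorem b0_inv : b0⁻¹ = wd [5, 1, 2] := by rw [b0, wd_reverse]; rfl

theorem lt_wd (x : ℕ) : lt a0 b0 1 x = wd (ex x) := by
  rcases x with _ | _ | _ | _ | x
  · rfl
  · rfl
  · exact b0_inv
  · rfl
  · rfl

theorem ew_wd (w : List ℕ) : ew a0 b0 1 w = wd (w.flatMap ex) := by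
  induction w with
  | nil => rfl
  | cons x w ih => rw [ew_cons, ih, lt_wd, List.flatMap_cons, wd_append]

theorem ew_eq_wd {w v : List ℕ} (h : eqW (w.flatMap ex) v = true) : ew a0 b0 1 w = wd v := by
  rw [ew_wd]; exact wd_eq h

theorem ew_eq_conj {w m : List ℕ} {x : List ℕ} (h : eqW (w.flatMap ex) (cj x m) = true) :
    (wd m)⁻¹ * wd x * wd m = ew a0 b0 1 w := by
  rw [ew_eq_wd h, wd_cj]

theorem ew_mem {X : Type*} [Group X] (a b : X) (w : List ℕ) : ew a b 1 w ∈ closure {a, b} := by
  have ha : a ∈ closure {a, b} := subset_closure (by simp)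
  have hb : b ∈ closure {a, b} := subset_closure (by simp)
  induction w with
  | nil => exact one_mem _
  | cons x w ih =>
    rw [ew_cons]
    refine mul_mem ?_ ih
    rcases x with _ | _ | _ | _ | x
    · exact ha
    · exact hb
    · exact inv_mem hb
    · exact one_mem _
    · exact one_mem _

def LWY : List ℕ := [0,1,0,1,0,1,0,1,0,2,0,2,0,2,0,1,0,1,0,2,0,2,0,1,0,2,0,2,0,2,0,1,0,2,0,1,0,2]
def LWP : List ℕ := [2,0,1,0,2,0,1,0,2,0,2,0,2,0,1,0,2,0,2,0,1,0,1,0,2,0,2,0,2,0,1,0,1,0,1,0,1]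
def LWQ : List ℕ := [0,2,0,2,0,2,0,2,0,1,0,2,0,2,0,2,0,1,0,1,0,2,0,2,0,2,0,1]
def LWR : List ℕ := [0,2,0,1,0,2,0,1,0,2,0,2,0,2,0,1,0,2,0,2,0,1,0,1,0,2,0,2,0,2,0,1,0,1,0,1,0,1]
def LWS : List ℕ := [0,2,0,1,0,2,0,1,0,2,0,2,0,2,0,1,0,1,0,2,0,2,0,2,0,1]
def LWB : List ℕ := [1,0,1,0,2,0,2,0,2,0,1,0,1,0,2,0,1,0,1,0,1,0,2,0,1]

theorem closure_ab : closure {a0, b0} = (⊤ : Subgroup H) := by
  rw [eq_top_iff, ← closure_gen, closure_le]
  have key : ∀ (i : ℕ) (w : List ℕ), eqW (w.flatMap ex) [i] = true → wd [i] ∈ closure {a0, b0} := by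
    intro i w h
    rw [← ew_eq_wd h]
    exact ew_mem _ _ _
  rintro x hx
  simp only [Set.mem_insert_iff, Set.mem_singleton_iff] at hx
  have L : ∀ i, wd [i] = Cfsg.Agent.CoThreeStd.MTwelve.gen i := fun i => by rw [wd_cons, wd_nil, mul_one]
  rcases hx with rfl | rfl | rfl | rfl | rfl | rfl
  · have := key 0 LWY (by decide +kernel)
    rwa [L] at this
  · have := key 1 LWP (by decide +kernel)
    rwa [L] at this
  · have := key 2 LWQ (by decide +kernel)
    rwa [L] at this
  · have := key 3 LWR (by decide +kernel)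
    rwa [L] at this
  · have := key 4 LWS (by decide +kernel)
    rwa [L] at this
  · have := key 5 LWB (by decide +kernel)
    rwa [L] at this

theorem ab11 : (a0 * b0) ^ 11 = 1 := by
  have h : ew a0 b0 1 [0,1,0,1,0,1,0,1,0,1,0,1,0,1,0,1,0,1,0,1,0,1] = wd [] :=
    ew_eq_wd (by decide +kernel)
  rw [wd_nil] at h
  rw [← h]
  simp only [ew_cons, ew_nil, lt, mul_one, pow_succ, pow_zero, one_mul, mul_assoc]

theorem b03 : b0 ^ 3 = 1 := by
  have h : ew a0 b0 1 [1,1,1] = wd [] :=
    ew_eq_wd (by decide +kernel)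
  rw [wd_nil] at h
  rw [← h]
  simp only [ew_cons, ew_nil, lt, mul_one, pow_succ, pow_zero, one_mul, mul_assoc]

/-! ### double covers -/

/-- perfect double covers of M12 -/
structure Cov {X : Type*} [Group X] (π : X →* H) (z : X) : Prop where
  surj : Function.Surjective π
  ker : ∀ x, π x = 1 → x = 1 ∨ x = z
  hz : z * z = 1
  hz1 : z ≠ 1
  hπz : π z = 1
  comm : ∀ x, z * x = x * z
  perfect : commutator X = ⊤

section cov

variable {X : Type*} [Group X] {π : X →* H} {z : X}

theorem Cov.eq_or (h : Cov π z) {x y : X} (hxy : π x = π y) : x = y ∨ x = y * z := by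
  have h1 : π (y⁻¹ * x) = 1 := by rw [map_mul, map_inv, hxy, inv_mul_cancel]
  rcases h.ker _ h1 with h2 | h2
  · left; exact (inv_mul_eq_one.mp h2).symm
  · right; rw [← h2, mul_inv_cancel_left]

theorem Cov.sq_z (h : Cov π z) (x : X) : (x * z) * (x * z) = x * x := by
  calc (x * z) * (x * z) = x * (z * x) * z := by group
    _ = x * x * (z * z) := by rw [h.comm]; group
    _ = x * x := by rw [h.hz, mul_one]

/-- lifts of conjugate elements: the squares agree if one is central -/
theorem Cov.sq_conj (h : Cov π z) {x y : X} {c : H} (hc : c⁻¹ * π x * c = π y)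
    (hx : ∀ g, g * (x * x) = (x * x) * g) : y * y = x * x := by
  obtain ⟨g, rfl⟩ := h.surj c
  have h1 : π y = π (g⁻¹ * x * g) := by rw [map_mul, map_mul, map_inv, hc]
  have h2 : (g⁻¹ * x * g) * (g⁻¹ * x * g) = x * x := by
    calc (g⁻¹ * x * g) * (g⁻¹ * x * g) = g⁻¹ * ((x * x) * g) := by group
      _ = g⁻¹ * (g * (x * x)) := by rw [hx]
      _ = x * x := by group
  rcases h.eq_or h1 with h3 | h3
  · rw [h3, h2]
  · rw [h3, h.sq_z, h2]

theorem Cov.central (h : Cov π z) {x : X} (hx : π x = 1) (g : X) : g * x = x * g := by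
  rcases h.ker x hx with h1 | h1
  · rw [h1, mul_one, one_mul]
  · rw [h1, h.comm]

theorem a0_sq : a0 * a0 = 1 := by
  have h : eqW ([1, 3] ++ [1, 3]) [] = true := by decide +kernel
  have := wd_eq h
  rwa [wd_append, wd_nil] at this

/-- the semidihedral group -/
def wr : List ℕ := [1, 2, 5, 3]
def ws : List ℕ := [2, 3, 2, 4, 3, 2]

/-- lifts of elements of type 2B are involutions -/
theorem Cov.sq_eq_one (h : Cov π z) {x : X} {c : H} (hc : c⁻¹ * a0 * c = π x) : x * x = 1 := by
  obtain ⟨v, hv⟩ := h.surj a0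
  have hvc : ∀ g, g * (v * v) = (v * v) * g := h.central (by rw [map_mul, hv, a0_sq])
  -- all lifts have the same square
  have key : ∀ {x : X} {c : H}, c⁻¹ * a0 * c = π x → x * x = v * v := by
    intro x c hc
    exact h.sq_conj (by rw [hv]; exact hc) hvc
  have hν : (v * v) * (v * v) = 1 := by
    rcases h.ker (v * v) (by rw [map_mul, hv, a0_sq]) with h1 | h1
    · rw [h1, mul_one]
    · rw [h1, h.hz]
  rw [key hc]
  obtain ⟨r, hr⟩ := h.surj (wd wr)
  obtain ⟨s, hs⟩ := h.surj (wd ws)
  have hs2 : s * s = v * v := key (c := wd [2, 1, 4, 3, 2, 1]) (by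
    rw [hs, a0, ← wd_cj]; exact wd_eq (by decide +kernel))
  have hsr2 : (s * (r * r)) * (s * (r * r)) = v * v := key (c := wd [2, 4, 5, 0, 4, 3]) (by
    rw [map_mul, map_mul, hs, hr, a0, ← wd_cj, ← wd_append, ← wd_append]
    exact wd_eq (by decide +kernel))
  have hr4 : (r * r * (r * r)) * (r * r * (r * r)) = v * v := key (c := wd [4, 5, 1, 3, 4]) (by
    rw [map_mul, map_mul, hr, a0, ← wd_cj, ← wd_append, ← wd_append]
    exact wd_eq (by decide +kernel))
  have hc3 : π (s * r) = π (r * r * r * s) := by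
    rw [map_mul, map_mul, map_mul, map_mul, hs, hr, ← wd_append, ← wd_append, ← wd_append,
      ← wd_append]
    exact wd_eq (by decide +kernel)
  -- `s r² = r⁶ s`
  have h6 : s * (r * r) = (r * r * r) * (r * r * r) * s := by
    have h1 : ∃ e, (s * r = r * r * r * s * e) ∧ e * e = 1 ∧ ∀ g, g * e = e * g := by
      rcases h.eq_or hc3 with h2 | h2
      · exact ⟨1, by rw [mul_one]; exact h2, by simp, by simp⟩
      · exact ⟨z, h2, h.hz, fun g => (h.comm g).symm⟩
    obtain ⟨e, he1, he2, he3⟩ := h1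
    calc s * (r * r) = (s * r) * r := by group
      _ = r * r * r * s * e * r := by rw [he1]
      _ = r * r * r * s * (e * r) := by group
      _ = r * r * r * (s * r) * e := by rw [← he3 r]; group
      _ = r * r * r * (r * r * r * s * e) * e := by rw [he1]
      _ = (r * r * r) * (r * r * r) * s * (e * e) := by group
      _ = _ := by rw [he2, mul_one]
  have h7 : (s * (r * r)) * (s * (r * r)) = (r * r * (r * r)) * (r * r * (r * r)) * (s * s) := by
    calc (s * (r * r)) * (s * (r * r)) = (r * r * r) * (r * r * r) * s * (s * (r * r)) := by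
          nth_rewrite 1 [h6]; rfl
      _ = (r * r * r) * (r * r * r) * ((s * s) * (r * r)) := by group
      _ = (r * r * r) * (r * r * r) * ((r * r) * (s * s)) := by rw [hs2, hvc]
      _ = _ := by group
  rw [hsr2, hr4, hs2] at h7
  exact h7.trans hν

theorem ew_pow (a b z : X) (w : List ℕ) (n : ℕ) :
    ew a b z (List.replicate n w).flatten = (ew a b z w) ^ n := by
  induction n with
  | zero => rw [pow_zero]; rfl
  | succ n ih => rw [List.replicate_succ, List.flatten_cons, ew_append, ih, pow_succ']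

/-- even relators -/
theorem Cov.even_rel (h : Cov π z) {a b : X} (ha : π a = a0) (hb : π b = b0) (w m : List ℕ)
    (k : ℕ) (hk : eqW ((List.replicate k w).flatten.flatMap ex) (cj [1, 3] m) = true) (z' : X)
    (hz' : π z' = 1) : ew a b z' (List.replicate (k * 2) w).flatten = 1 := by
  have h1 : ew a b z' (List.replicate (k * 2) w).flatten =
      ew a b z' (List.replicate k w).flatten * ew a b z' (List.replicate k w).flatten := by
    rw [ew_pow, ew_pow, pow_mul, pow_two]
  rw [h1]
  refine h.sq_eq_one (c := wd m) ?_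
  rw [map_ew, ha, hb, hz', a0]
  exact ew_eq_conj hk

theorem Cov.exists_lift (h : Cov π z) : ∃ a b : X, π a = a0 ∧ π b = b0 ∧ Rels a b z := by
  have hz4 : ∀ x, π x = 1 → x ^ 2 = 1 := by
    intro x hx
    rcases h.ker x hx with h1 | h1
    · rw [h1, one_pow]
    · rw [h1, pow_two, h.hz]
  obtain ⟨a1, ha1⟩ := h.surj a0
  obtain ⟨b1, hb1⟩ := h.surj b0
  obtain ⟨b, hb, hb3⟩ : ∃ b, π b = b0 ∧ b ^ 3 = 1 := by
    refine ⟨b1 ^ 4, ?_, ?_⟩
    · rw [map_pow, hb1, pow_succ, b03, one_mul]
    · have : (b1 ^ 4) ^ 3 = ((b1 ^ 3) ^ 2) ^ 2 := by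
        rw [← pow_mul, ← pow_mul, ← pow_mul]
      rw [this, hz4 (b1 ^ 3) (by rw [map_pow, hb1, b03]), one_pow]
  obtain ⟨a, ha, hab⟩ : ∃ a, π a = a0 ∧ (a * b) ^ 11 = 1 := by
    have h1 : π ((a1 * b) ^ 11) = 1 := by rw [map_pow, map_mul, ha1, hb, ab11]
    refine ⟨(a1 * b) ^ 11 * a1, by rw [map_mul, h1, one_mul, ha1], ?_⟩
    have h2 : Commute ((a1 * b) ^ 11) (a1 * b) := (Commute.refl _).pow_left 11
    rw [mul_assoc, h2.mul_pow, ← pow_succ, show 11 + 1 = 2 * 6 by norm_num, pow_mul, hz4 _ h1,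
      one_pow]
  have ha2 : a * a = 1 := h.sq_eq_one (c := 1) (by rw [ha]; group)
  have hb3' : b * (b * b) = 1 := by
    rw [← hb3]; simp only [pow_succ, pow_zero, one_mul, mul_assoc]
  have hrel : ∀ z', π z' = 1 → z' * z' = 1 → (∀ x, z' * x = x * z') →
      ew a b z' [0,1,0,1,0,2,0,1,0,1,0,2,0,1,0,1,0,2,0,1,0,1,0,2,0,1,0,1,0,2,0,1,0,1,0,2,3] = 1 →
      Rels a b z' := by
    intro z' hz'1 hz'2 hz'3 hlast
    refine ⟨ha2, hz'2, ?_⟩
    intro r hr
    simp only [MTwCertData.rels, List.mem_cons, List.not_mem_nil, or_false] at hr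
    rcases hr with rfl | rfl | rfl | rfl | rfl | rfl | rfl | rfl
    · simp only [ew_cons, ew_nil, lt, mul_one]; exact hb3'
    · simp only [ew_cons, ew_nil, lt, mul_one]
      calc z' * (a * (z' * a)) = (z' * a) * (z' * a) := by group
        _ = (a * z') * (z' * a) := by rw [hz'3 a]
        _ = a * (z' * z') * a := by group
        _ = 1 := by rw [hz'2, mul_one, ha2]
    · simp only [ew_cons, ew_nil, lt, mul_one]
      calc z' * (b * (z' * b⁻¹)) = (z' * b) * (z' * b⁻¹) := by group
        _ = (b * z') * (z' * b⁻¹) := by rw [hz'3 b]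
        _ = b * (z' * z') * b⁻¹ := by group
        _ = 1 := by rw [hz'2, mul_one, mul_inv_cancel]
    · rw [← hab]
      simp only [ew_cons, ew_nil, lt, mul_one, pow_succ, pow_zero, one_mul, mul_assoc]
    · exact h.even_rel ha hb [0, 2, 0, 1] [2, 4, 5, 1, 5, 1, 4] 3 (by decide +kernel) z' hz'1
    · exact hlast
    · exact h.even_rel ha hb [0,1,0,1,0,2,0,2,0,1,0,2] [4, 5, 2, 3] 2 (by decide +kernel) z' hz'1
    · exact h.even_rel ha hb [0,1,0,1,0,2,0,1,0,2] [5, 3, 2, 5, 3, 2] 3 (by decide +kernel) z' hz'1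
  have hμ : π ((a * b * a * b * a * b⁻¹) ^ 6) = 1 := by
    have h1 : ew a0 b0 1 (List.replicate 6 [0,1,0,1,0,2]).flatten = wd [] :=
      ew_eq_wd (by decide +kernel)
    rw [ew_pow, wd_nil] at h1
    rw [← h1, map_pow]
    simp only [map_mul, map_inv, ha, hb, ew_cons, ew_nil, lt, mul_one, mul_assoc]
  have hlast : ∀ z', ew a b z' [0,1,0,1,0,2,0,1,0,1,0,2,0,1,0,1,0,2,0,1,0,1,0,2,0,1,0,1,0,2,0,1,0,1,0,2,3]
      = (a * b * a * b * a * b⁻¹) ^ 6 * z' := by
    intro z'
    simp only [ew_cons, ew_nil, lt, mul_one, pow_succ, pow_zero, one_mul, mul_assoc]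
  refine ⟨a, b, ha, hb, ?_⟩
  rcases h.ker _ hμ with h1 | h1
  · -- impossible
    exfalso
    have hR : Rels a b 1 := hrel 1 (map_one π) (by simp) (by simp) (by rw [hlast, h1, mul_one])
    obtain ⟨hfin, hcard⟩ := hR.card_le_one
    set D := closure {a, b} with hD
    have hDmap : D.map π = ⊤ := by
      rw [hD, MonoidHom.map_closure, Set.image_pair, ha, hb, closure_ab]
    have hDs : ∀ x : X, ∃ d ∈ D, x = d ∨ x = d * z := by
      intro x
      have h2 : π x ∈ D.map π := by rw [hDmap]; trivial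
      obtain ⟨d, hd, hdx⟩ := h2
      exact ⟨d, hd, h.eq_or hdx.symm⟩
    have hsurj : Function.Surjective (π.comp D.subtype) := by
      intro y
      have h2 : y ∈ D.map π := by rw [hDmap]; trivial
      obtain ⟨d, hd, hdx⟩ := h2
      exact ⟨⟨d, hd⟩, hdx⟩
    have hinj := (hsurj.bijective_of_nat_card_le (by rw [card_H]; exact hcard)).1
    have hzD : z ∉ D := by
      intro hzD
      have h2 : (⟨z, hzD⟩ : D) = 1 := hinj (by
        show π z = (π.comp D.subtype) 1
        rw [map_one, h.hπz])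
      exact h.hz1 (congrArg Subtype.val h2)
    have hcomm : commutator X ≤ D := by
      rw [_root_.commutator_def, commutator_le]
      intro x _ y _
      obtain ⟨d, hd, hdx⟩ := hDs x
      obtain ⟨e, he, hey⟩ := hDs y
      have hd' : ∃ ε, x = d * ε ∧ ∀ g, g * ε = ε * g := by
        rcases hdx with h2 | h2
        · exact ⟨1, by rw [mul_one]; exact h2, by simp⟩
        · exact ⟨z, h2, fun g => (h.comm g).symm⟩
      have he' : ∃ ε, y = e * ε ∧ ∀ g, g * ε = ε * g := by
        rcases hey with h2 | h2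
        · exact ⟨1, by rw [mul_one]; exact h2, by simp⟩
        · exact ⟨z, h2, fun g => (h.comm g).symm⟩
      obtain ⟨ε, rfl, hε⟩ := hd'
      obtain ⟨δ, rfl, hδ⟩ := he'
      have h2 : ⁅d * ε, e * δ⁆ = ⁅d, e⁆ := by
        rw [commutatorElement_def, commutatorElement_def]
        calc d * ε * (e * δ) * (d * ε)⁻¹ * (e * δ)⁻¹
            = d * (ε * (e * δ)) * (ε⁻¹ * d⁻¹) * (δ⁻¹ * e⁻¹) := by group
          _ = d * ((e * δ) * ε) * (ε⁻¹ * d⁻¹) * (δ⁻¹ * e⁻¹) := by rw [hε]
          _ = d * e * (δ * d⁻¹) * δ⁻¹ * e⁻¹ := by group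
          _ = d * e * (d⁻¹ * δ) * δ⁻¹ * e⁻¹ := by rw [← hδ d⁻¹]
          _ = d * e * d⁻¹ * e⁻¹ := by group
      rw [h2]
      exact D.mul_mem (D.mul_mem (D.mul_mem hd he) (D.inv_mem hd)) (D.inv_mem he)
    rw [h.perfect] at hcomm
    exact hzD (hcomm trivial)
  · exact hrel z h.hπz h.hz h.comm (by rw [hlast, h1, h.hz])

end cov

end Cfsg.Agent.GH.MTwCover
end

-- part: GH/MTwPsi
section
/-!
# 2.M12: the embedding of a double cover into the permutations of 48 points
-/

set_option autoImplicit false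
set_option maxRecDepth 100000

open Subgroup
open scoped commutatorElement

namespace Cfsg.Agent.GH.MTwPsi

open Cfsg.Agent.CoThreeStd.MTwelve (H card_H)
open Cfsg.Agent.GH.MTwBound Cfsg.Agent.GH.MTwModel Cfsg.Agent.GH.MTwSyl Cfsg.Agent.GH.MTwFacts
  Cfsg.Agent.GH.MTwCover
open Cfsg.Agent.GH.MTwCode (Pm)

variable {X : Type*} [Group X] {π : X →* H} {z : X}

theorem Cov.mem_ker (h : Cov π z) (x : X) : x ∈ π.ker ↔ x ∈ zpowers z := by
  constructor
  · intro hx
    rcases h.ker x hx with h1 | h1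
    · rw [h1]; exact one_mem _
    · rw [h1]; exact mem_zpowers _
  · intro hx
    have : zpowers z ≤ π.ker := by rw [zpowers_le]; exact h.hπz
    exact this hx

theorem Cov.orderOf_z (h : Cov π z) : orderOf z = 2 :=
  orderOf_eq_prime (by rw [pow_two, h.hz]) h.hz1

theorem Cov.card_ker (h : Cov π z) : Nat.card π.ker = 2 := by
  have h1 : π.ker = zpowers z := by ext x; exact Cov.mem_ker h x
  rw [h1, Nat.card_zpowers, Cov.orderOf_z h]

theorem Cov.card (h : Cov π z) : Nat.card X = 190080 := by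
  have h1 := π.ker.card_mul_index
  rw [Cov.card_ker h, index_ker, MonoidHom.range_eq_top.mpr h.surj, Subgroup.card_top, card_H] at h1
  omega

theorem Cov.finite (h : Cov π z) : Finite X :=
  Nat.finite_of_card_ne_zero (by rw [Cov.card h]; norm_num)

theorem Cov.closure_eq_top (h : Cov π z) {a b : X} (ha : π a = a0) (hb : π b = b0)
    (hR : Rels a b z) : closure {a, b} = (⊤ : Subgroup X) := by
  rw [eq_top_iff]
  intro x _
  have h1 : π x ∈ (closure {a, b}).map π := by
    rw [MonoidHom.map_closure, Set.image_pair, ha, hb, closure_ab]; trivial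
  obtain ⟨d, hd, hdx⟩ := h1
  rcases h.eq_or hdx.symm with h2 | h2
  · rw [h2]; exact hd
  · rw [h2]; exact mul_mem hd hR.z_mem

theorem Cov.exists_hom (h : Cov π z) : ∃ (ψ : X →* Pm) (a b : X), π a = a0 ∧ π b = b0 ∧
    Rels a b z ∧ ψ a = A ∧ ψ b = B ∧ ψ z = Z := by
  obtain ⟨a, b, ha, hb, hR⟩ := h.exists_lift
  have hfin := Cov.finite h
  have hR2 : Rels ((a, A) : X × Pm) (b, B) (z, Z) := by
    refine ⟨Prod.ext hR.ha rels.ha, Prod.ext hR.hz rels.hz, fun r hr => Prod.ext ?_ ?_⟩
    · have := map_ew (MonoidHom.fst X Pm) ((a, A) : X × Pm) (b, B) (z, Z) r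
      exact this.trans (hR.hrel r hr)
    · have := map_ew (MonoidHom.snd X Pm) ((a, A) : X × Pm) (b, B) (z, Z) r
      exact this.trans (rels.hrel r hr)
  obtain ⟨hfD, hcD⟩ := hR2.card_le_two
  set D := closure {((a, A) : X × Pm), (b, B)} with hD
  have haD : ((a, A) : X × Pm) ∈ D := subset_closure (by simp)
  have hbD : ((b, B) : X × Pm) ∈ D := subset_closure (by simp)
  have hzD : ((z, Z) : X × Pm) ∈ D := hR2.z_mem
  let f : D →* X := (MonoidHom.fst X Pm).comp D.subtype
  have hf : Function.Surjective f := by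
    rw [← MonoidHom.range_eq_top, eq_top_iff, ← Cov.closure_eq_top h ha hb hR, closure_le]
    rintro x hx
    rcases hx with rfl | rfl
    · exact ⟨⟨_, haD⟩, rfl⟩
    · exact ⟨⟨_, hbD⟩, rfl⟩
  have hbij := hf.bijective_of_nat_card_le (by rw [Cov.card h]; exact hcD)
  let e : D ≃* X := MulEquiv.ofBijective f hbij
  let ψ : X →* Pm := ((MonoidHom.snd X Pm).comp D.subtype).comp e.symm.toMonoidHom
  have key : ∀ (x : X) (σ : Pm) (hx : (x, σ) ∈ D), ψ x = σ := by
    intro x σ hx
    have h1 : e.symm x = ⟨(x, σ), hx⟩ := by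
      rw [MulEquiv.symm_apply_eq]; rfl
    show (MonoidHom.snd X Pm) (e.symm x : X × Pm) = σ
    rw [h1]; rfl
  exact ⟨ψ, a, b, ha, hb, hR, key _ _ haD, key _ _ hbD, key _ _ hzD⟩

theorem Cov.injective (h : Cov π z) [IsSimpleGroup H] {ψ : X →* Pm} {a : X}
    (ha : ψ a = A) (hz : ψ z = Z) : Function.Injective ψ := by
  rw [← MonoidHom.ker_eq_bot_iff]
  have hN : (ψ.ker.map π).Normal := Subgroup.Normal.map inferInstance π h.surj
  rcases hN.eq_bot_or_eq_top with h1 | h1
  · rw [eq_bot_iff]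
    intro x hx
    have h2 : π x = 1 := by
      have : π x ∈ ψ.ker.map π := ⟨x, hx, rfl⟩
      rwa [h1, mem_bot] at this
    rcases h.ker x h2 with h3 | h3
    · exact h3
    · exfalso
      rw [h3, MonoidHom.mem_ker, hz] at hx
      exact Z_ne_one hx
  · exfalso
    have h2 : π a ∈ ψ.ker.map π := by rw [h1]; trivial
    obtain ⟨n, hn, hna⟩ := h2
    have hn : ψ n = 1 := hn
    rcases h.eq_or hna.symm with h3 | h3
    · rw [h3, hn] at ha
      exact A_ne_one ha.symm
    · rw [h3, map_mul, hn, one_mul, hz] at ha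
      exact A_ne_Z ha.symm

/-- all the data -/
structure Model {X : Type*} [Group X] (π : X →* H) (z : X) (ψ : X →* Pm) (a b : X) : Prop where
  cov : Cov π z
  πa : π a = a0
  πb : π b = b0
  rel : Rels a b z
  ψa : ψ a = A
  ψb : ψ b = B
  ψz : ψ z = Z
  inj : Function.Injective ψ
  top : closure {a, b} = (⊤ : Subgroup X)
  range : ψ.range = M

theorem Cov.exists_model (h : Cov π z) [IsSimpleGroup H] : ∃ (ψ : X →* Pm) (a b : X),
    Model π z ψ a b := by
  obtain ⟨ψ, a, b, ha, hb, hR, ha', hb', hz'⟩ := Cov.exists_hom h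
  have htop := Cov.closure_eq_top h ha hb hR
  refine ⟨ψ, a, b, h, ha, hb, hR, ha', hb', hz', Cov.injective h ha' hz', htop, ?_⟩
  rw [MonoidHom.range_eq_map, ← htop, MonoidHom.map_closure, Set.image_pair, ha', hb']
  rfl

end Cfsg.Agent.GH.MTwPsi
end

-- part: GH/MTwCenter
section
/-!
# 2.M12: a perfect central extension of M12 by a 2-group has a center of order at most 2
-/

set_option autoImplicit false
set_option maxRecDepth 100000

open Subgroup
open scoped commutatorElement

namespace Cfsg.Agent.GH.MTwCenter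

open Cfsg.Agent.CoThreeStd.MTwelve (H card_H)
open Cfsg.Agent.GH.MTwBound Cfsg.Agent.GH.MTwModel Cfsg.Agent.GH.MTwSyl Cfsg.Agent.GH.MTwFacts
  Cfsg.Agent.GH.MTwCover Cfsg.Agent.GH.MTwPsi
open Cfsg.Agent.GH.MTwCode (Pm)

/-- word of an involution of type 2A -/
def wx : List ℕ := (List.replicate 3 [0,1,0,1,0,2]).flatten
/-- word of an element commuting with it in M12 -/
def wg : List ℕ := [0,2,0,1,0,1,0,2,0,2,0,1,0,2,0,1,0,1,0,1,0,2,0,1]

theorem model_comm : ew A B Z (wg ++ wx) = ew A B Z (wx ++ wg ++ [3]) :=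
  ew_eq (by decide +kernel)

section

variable {X : Type*} [Group X] {π : X →* H} {z : X}

/-- lifts of the two elements do not commute -/
theorem lifts (h : Cov π z) [IsSimpleGroup H] {x g : X} (hx : π x = ew a0 b0 1 wx)
    (hg : π g = ew a0 b0 1 wg) : g * x = x * g * z := by
  obtain ⟨ψ, a, b, hM⟩ := Cov.exists_model h
  have h1 : ew a b z wg * ew a b z wx = ew a b z wx * ew a b z wg * z := by
    apply hM.inj
    have h2 := map_ew ψ a b z (wg ++ wx)
    have h3 := map_ew ψ a b z (wx ++ wg ++ [3])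
    rw [hM.ψa, hM.ψb, hM.ψz] at h2 h3
    have h4 : ew a b z (wg ++ wx) = ew a b z wg * ew a b z wx := ew_append _ _ _ _ _
    have h5 : ew a b z (wx ++ wg ++ [3]) = ew a b z wx * ew a b z wg * z := by
      rw [ew_append, ew_append]
      simp [ew_cons, ew_nil, lt]
    rw [← h4, ← h5, h2, h3, model_comm]
  have hX : ∀ {y : X} {w : List ℕ}, π y = ew a0 b0 1 w →
      ∃ ε, y = ew a b z w * ε ∧ ∀ g, ε * g = g * ε := by
    intro y w hy
    have h2 : π y = π (ew a b z w) := by rw [map_ew, hM.πa, hM.πb, h.hπz, hy]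
    rcases h.eq_or h2 with h3 | h3
    · exact ⟨1, by rw [mul_one]; exact h3, by simp⟩
    · exact ⟨z, h3, h.comm⟩
  obtain ⟨ε, rfl, hε⟩ := hX hx
  obtain ⟨δ, rfl, hδ⟩ := hX hg
  calc ew a b z wg * δ * (ew a b z wx * ε) = ew a b z wg * (δ * (ew a b z wx * ε)) := by group
    _ = ew a b z wg * ((ew a b z wx * ε) * δ) := by rw [hδ]
    _ = (ew a b z wg * ew a b z wx) * (ε * δ) := by group
    _ = (ew a b z wx * ew a b z wg * z) * (ε * δ) := by rw [h1]
    _ = ew a b z wx * (ew a b z wg * (z * (ε * δ))) := by group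
    _ = ew a b z wx * (ew a b z wg * ((ε * δ) * z)) := by rw [h.comm (ε * δ)]
    _ = ew a b z wx * ((ew a b z wg * ε) * δ * z) := by group
    _ = ew a b z wx * ((ε * ew a b z wg) * δ * z) := by rw [hε]
    _ = ew a b z wx * ε * (ew a b z wg * δ) * z := by group

end

theorem involution_x : ew a0 b0 1 wx * ew a0 b0 1 wx = 1 := by
  have h : ew a0 b0 1 (wx ++ wx) = Cfsg.Agent.CoThreeStd.MTwelve.wd [] :=
    ew_eq_wd (by decide +kernel)
  rwa [ew_append] at h

theorem comm_xg : ew a0 b0 1 wg * ew a0 b0 1 wx = ew a0 b0 1 wx * ew a0 b0 1 wg := by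
  rw [← ew_append, ← ew_append, ew_wd, ew_wd]
  exact Cfsg.Agent.CoThreeStd.MTwelve.wd_eq (by decide +kernel)

theorem exists_cov {X : Type*} [Group X] [Finite X] [IsSimpleGroup H] (π : X →* H)
    (hs : Function.Surjective π) (hk : π.ker = center X) (hp : commutator X = ⊤)
    (h2 : IsPGroup 2 (center X)) (hne : center X ≠ ⊥) : ∃ z, Cov π z := by
  obtain ⟨x, hx⟩ := hs (ew a0 b0 1 wx)
  obtain ⟨g, hg⟩ := hs (ew a0 b0 1 wg)
  -- the commutator
  set ζ := (x * g)⁻¹ * (g * x) with hζ
  have hζ1 : g * x = x * g * ζ := by rw [hζ]; group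
  have hζk : ζ ∈ center X := by
    rw [← hk, MonoidHom.mem_ker, hζ, map_mul, map_inv, map_mul, map_mul, hx, hg, comm_xg,
      inv_mul_cancel]
  have hζc : ∀ y, y * ζ = ζ * y := mem_center_iff.mp hζk
  have hxx : x * x ∈ center X := by
    rw [← hk, MonoidHom.mem_ker, map_mul, hx, involution_x]
  have hζ2 : ζ * ζ = 1 := by
    have h3 : g * (x * x) = x * x * g * (ζ * ζ) := by
      calc g * (x * x) = (g * x) * x := by group
        _ = x * g * ζ * x := by rw [hζ1]
        _ = x * g * (ζ * x) := by group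
        _ = x * (g * x) * ζ := by rw [← hζc x]; group
        _ = x * (x * g * ζ) * ζ := by rw [hζ1]
        _ = _ := by group
    have h4 := mem_center_iff.mp hxx g
    rw [h4] at h3
    exact (mul_eq_left.mp h3.symm)
  -- `ζ` generates the center
  have key : zpowers ζ = center X := by
    by_contra hcon
    have hle : zpowers ζ ≤ center X := by rw [zpowers_le]; exact hζk
    let ζ' : center X := ⟨ζ, hζk⟩
    have hp2 : Fact (Nat.Prime 2) := ⟨Nat.prime_two⟩
    obtain ⟨k, hkc⟩ := (IsPGroup.iff_card).mp h2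
    obtain ⟨m, hm⟩ := (IsPGroup.iff_card).mp (h2.to_subgroup (zpowers ζ'))
    have hlt : 2 ^ m < 2 ^ k := by
      rw [← hm, ← hkc]
      refine lt_of_le_of_ne (Subgroup.card_le_card_group _) ?_
      intro heq
      apply hcon
      have h3 := Subgroup.eq_top_of_card_eq _ heq
      refine le_antisymm hle ?_
      intro y hy
      have h4 : (⟨y, hy⟩ : center X) ∈ zpowers ζ' := by rw [h3]; trivial
      obtain ⟨n, hn⟩ := mem_zpowers_iff.mp h4
      exact mem_zpowers_iff.mpr ⟨n, by simpa [ζ'] using congrArg Subtype.val hn⟩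
    have hmk : m < k := (Nat.pow_lt_pow_iff_right (by norm_num)).mp hlt
    obtain ⟨N', hN', hζN'⟩ := Sylow.exists_subgroup_card_pow_prime_le (p := 2) (n := m) (m := k - 1)
      (by rw [hkc]; exact pow_dvd_pow 2 (by omega)) (zpowers ζ') hm (by omega)
    set N : Subgroup X := N'.map (center X).subtype with hN
    have hNc : N ≤ center X := map_subtype_le _
    have hNn : N.Normal := by
      refine ⟨fun n hn y => ?_⟩
      rw [mem_center_iff.mp (hNc hn) y, mul_inv_cancel_right]; exact hn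
    have hidx : N'.index = 2 := by
      have h3 := N'.card_mul_index
      rw [hN', hkc] at h3
      have h4 : 2 ^ k = 2 ^ (k - 1) * 2 := by rw [← pow_succ]; congr 1; omega
      rw [h4] at h3
      exact Nat.eq_of_mul_eq_mul_left (by positivity) h3
    have hmemN : ∀ (y : X) (hy : y ∈ center X), y ∈ N ↔ (⟨y, hy⟩ : center X) ∈ N' := by
      intro y hy
      rw [hN, mem_map]
      constructor
      · rintro ⟨w, hw, rfl⟩; exact hw
      · intro h; exact ⟨_, h, rfl⟩
    obtain ⟨w, hw⟩ : ∃ w : center X, w ∉ N' := by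
      by_contra hall
      push Not at hall
      have : N' = ⊤ := eq_top_iff.mpr fun y _ => hall y
      rw [this, index_top] at hidx
      norm_num at hidx
    have hmul : ∀ u v : center X, u ∉ N' → v ∉ N' → u * v ∈ N' := by
      intro u v hu hv
      rw [mul_mem_iff_of_index_two hidx]
      simp [hu, hv]
    let q := QuotientGroup.mk' N
    let π' : X ⧸ N →* H := QuotientGroup.lift N π (fun y hy => by
      have := hNc hy
      rw [← hk] at this
      exact this)
    have hπ' : ∀ y, π' (q y) = π y := fun y => rfl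
    have hcov : Cov π' (q w) := by
      refine ⟨?_, ?_, ?_, ?_, ?_, ?_, ?_⟩
      · intro y
        obtain ⟨u, rfl⟩ := hs y
        exact ⟨q u, rfl⟩
      · intro y hy
        obtain ⟨u, rfl⟩ := QuotientGroup.mk'_surjective N y
        have hu : u ∈ center X := by rw [← hk]; exact hy
        by_cases h3 : (⟨u, hu⟩ : center X) ∈ N'
        · left
          exact (QuotientGroup.eq_one_iff u).mpr ((hmemN u hu).mpr h3)
        · right
          have h4 : (⟨u, hu⟩ : center X)⁻¹ * w ∈ N' := hmul _ _ (by rwa [inv_mem_iff]) hw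
          exact QuotientGroup.eq.mpr ((hmemN _ ((⟨u, hu⟩ : center X)⁻¹ * w).2).mpr h4)
      · rw [← map_mul]
        exact (QuotientGroup.eq_one_iff _).mpr ((hmemN _ (w * w).2).mpr (hmul w w hw hw))
      · intro h3
        exact hw ((hmemN _ w.2).mp ((QuotientGroup.eq_one_iff _).mp h3))
      · have h3 : (w : X) ∈ π.ker := by rw [hk]; exact w.2
        exact h3
      · intro y
        obtain ⟨u, rfl⟩ := QuotientGroup.mk'_surjective N y
        show q w * q u = q u * q w
        rw [← map_mul, ← map_mul, mem_center_iff.mp w.2 u]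
      · have h3 : (commutator X).map q = commutator (X ⧸ N) := by
          rw [_root_.commutator_def, _root_.commutator_def, map_commutator,
            Subgroup.map_top_of_surjective q (QuotientGroup.mk'_surjective N)]
        rw [← h3, hp, Subgroup.map_top_of_surjective q (QuotientGroup.mk'_surjective N)]
    have h3 := lifts hcov (x := q x) (g := q g) (by rw [hπ', hx]) (by rw [hπ', hg])
    have h4 : q g * q x = q x * q g * q ζ := by
      rw [← map_mul, hζ1, map_mul, map_mul]
    rw [h3] at h4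
    have h5 : q w = q ζ := mul_left_cancel h4
    have h6 : q ζ = 1 := (QuotientGroup.eq_one_iff ζ).mpr ((hmemN ζ hζk).mpr
      (hζN' (mem_zpowers ζ')))
    exact hcov.hz1 (h5.trans h6)
  have hζne : ζ ≠ 1 := by
    intro h3
    apply hne
    rw [← key, h3, zpowers_one_eq_bot]
  refine ⟨ζ, hs, ?_, hζ2, hζne, ?_, fun y => (hζc y).symm, hp⟩
  · intro y hy
    have h3 : y ∈ zpowers ζ := by rw [key, ← hk]; exact hy
    have h4 : orderOf ζ = 2 := orderOf_eq_prime (by rw [pow_two, hζ2]) hζne
    obtain ⟨n, hn⟩ := mem_zpowers_iff.mp h3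
    rw [← zpow_mod_orderOf, h4] at hn
    rcases Int.emod_two_eq_zero_or_one n with h5 | h5
    · rw [show ((2 : ℕ) : ℤ) = 2 by norm_num, h5, zpow_zero] at hn
      exact Or.inl hn.symm
    · rw [show ((2 : ℕ) : ℤ) = 2 by norm_num, h5, zpow_one] at hn
      exact Or.inr hn.symm
  · have h3 : ζ ∈ π.ker := by rw [hk]; exact hζk
    exact h3

end Cfsg.Agent.GH.MTwCenter
end
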