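import Cfsg.Agent.GH.C2Syl
set_option linter.all false

/-!
# GH-C2: lifting the natural data, and the rank 5 section for `S₆`, `A₈`
-/

set_option autoImplicit false

namespace Cfsg.Agent.GH.C2Syl

open Subgroup Cfsg.Agent.GH.Pc Cfsg.Agent.GH.PcTypes
open Cfsg.Agent.TwoFusion.SectionalRank

variable {X : Type*} [Group X] {V : Subgroup X}

/-- A preimage of an element of order three acting fixed point freely has order three. -/
theorem cube_eq_one {d : X} (hd : ∀ v ∈ V, d * v * d⁻¹ = v → v = 1) (h : d * d * d ∈ V) :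
    d * d * d = 1 := hd _ h (by group)

/-- Lifting an element normalising `⟨d⟩` modulo `V`. -/
theorem exists_lift [Finite X] (hV : El V) {d d' t₀ : X} (hd : ∀ v ∈ V, d * v * d⁻¹ = v → v = 1)
    (hd' : ∀ v ∈ V, d' * v * d'⁻¹ = v → v = 1) (h1 : t₀ * d * t₀⁻¹ * d'⁻¹ ∈ V) (h2 : t₀ * t₀ ∈ V)
    (h3 : ∀ t : X, t * d * t⁻¹ = d' → (t * t) * d * (t * t)⁻¹ = d) :
    ∃ t : X, t * t₀⁻¹ ∈ V ∧ t * t = 1 ∧ t * d * t⁻¹ = d' := by
  obtain ⟨q, hq, h4⟩ := C2Base.exists_conj_eq hV.normal (x := d') (y := t₀ * d * t₀⁻¹)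
    (fun q hq h => hd' q hq (by rw [h]; group)) h1
  have h5 : (q⁻¹ * t₀) * d * (q⁻¹ * t₀)⁻¹ = d' := by
    have h6 : (q⁻¹ * t₀) * d * (q⁻¹ * t₀)⁻¹ = q⁻¹ * (t₀ * d * t₀⁻¹) * q := by group
    rw [h6, ← h4]; group
  refine ⟨q⁻¹ * t₀, by simpa using hq, ?_, h5⟩
  apply hd
  · have h6 : q⁻¹ * t₀ * (q⁻¹ * t₀) = q⁻¹ * (t₀ * q⁻¹ * t₀⁻¹) * (t₀ * t₀) := by group
    rw [h6]
    exact V.mul_mem (V.mul_mem (V.inv_mem hq) (hV.conj _ (V.inv_mem hq))) h2
  · have h6 := h3 _ h5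
    generalize q⁻¹ * t₀ = t at h6 ⊢
    rw [mul_inv_eq_iff_eq_mul] at h6
    rw [← h6]; group

/-- An involution over `f_a` centralised by `t`. -/
theorem exists_invol_fix (hV : El V) {U : Subgroup X} (hUV : U ≤ V) {t : X} (htt : t * t = 1)
    {z e : X} (he : e ∈ U) (hte : t * e * t⁻¹ = z * e) (hz : ∀ u ∈ U, t * u * t⁻¹ = u → u = 1 ∨ u = z)
    {a : X} (haa : a * a = 1) (hfa : ∀ v ∈ V, a * v * a⁻¹ = v ↔ v ∈ U) (hta : t * a * t⁻¹ * a⁻¹ ∈ V) :
    ∃ u ∈ U, (u * a) * (u * a) = 1 ∧ t * (u * a) = u * a * t := by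
  set w := t * a * t⁻¹ * a⁻¹ with hw
  have hw' : t * a * t⁻¹ = w * a := by rw [hw]; group
  have hwa : a * w * a⁻¹ = w := by
    have h1 : (w * a) * (w * a) = 1 := by
      rw [← hw']
      have h2 : t * a * t⁻¹ * (t * a * t⁻¹) = t * (a * a) * t⁻¹ := by group
      rw [h2, haa]; group
    have h2 : w * (a * w * a⁻¹) = 1 := by
      have h3 : w * (a * w * a⁻¹) = (w * a) * (w * a) * (a * a)⁻¹ := by group
      rw [h3, h1, haa]; group
    have h3 := inv_eq_of_mul_eq_one_right h2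
    rw [← h3]
    exact hV.inv hta
  have hwU : w ∈ U := (hfa w hta).mp hwa
  have htw : t * w * t⁻¹ = w := by
    have h1 : a = (t * w * t⁻¹) * w * a := by
      have h3 : t * (t * a * t⁻¹) * t⁻¹ = (t * t) * a * (t * t)⁻¹ := by group
      rw [htt, one_mul, inv_one, mul_one] at h3
      calc a = t * (t * a * t⁻¹) * t⁻¹ := h3.symm
        _ = t * (w * a) * t⁻¹ := by rw [hw']
        _ = (t * w * t⁻¹) * (t * a * t⁻¹) := by group
        _ = (t * w * t⁻¹) * w * a := by rw [hw']; simp only [mul_assoc]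
    have h2 : (t * w * t⁻¹) * w = 1 := by
      have h3 := congrArg (· * a⁻¹) h1
      simpa using h3.symm
    have h3 := inv_eq_of_mul_eq_one_left h2
    rw [← h3]
    exact hV.inv hta
  have hu : ∀ u ∈ U, (u * a) * (u * a) = 1 := by
    intro u hu
    have h1 : (u * a) * (u * a) = u * (a * u * a⁻¹) * (a * a) := by group
    rw [h1, (hfa u (hUV hu)).mpr hu, haa, mul_one, hV.sq u (hUV hu)]
  rcases hz w hwU htw with h | h
  · refine ⟨1, U.one_mem, hu 1 U.one_mem, ?_⟩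
    rw [one_mul]
    have h1 : t * a = (t * a * t⁻¹) * t := by group
    rw [h1, hw', h, one_mul]
  · refine ⟨e, he, hu e he, ?_⟩
    have h1 : t * (e * a) = (t * e * t⁻¹) * (t * a * t⁻¹) * t := by group
    have hzz : z * z = 1 := by rw [← h]; exact hV.sq _ hta
    rw [h1, hte, hw', h]
    have h2 : z * e * (z * a) = z * z * e * a := by
      have h3 : z * e = e * z := hV.comm (by rw [← h]; exact hta) (hUV he)
      calc z * e * (z * a) = z * (e * z) * a := by group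
        _ = z * z * e * a := by rw [← h3]; group
    rw [h2, hzz, one_mul]

/-- The elements `t a t⁻¹` for `b = a^d`. -/
theorem inv_conj {a d t : X} (hd3 : d * d * d = 1) (htd : t * d * t⁻¹ = d⁻¹) (hta : t * a = a * t)
    (hk : d * (d * a * d⁻¹) * d⁻¹ = a * (d * a * d⁻¹)) :
    t * (d * a * d⁻¹) = a * (d * a * d⁻¹) * t := by
  have h1 : t * (d * a * d⁻¹) = (t * d * t⁻¹) * (t * a * t⁻¹) * (t * d * t⁻¹)⁻¹ * t := by group
  have h2 : t * a * t⁻¹ = a := by rw [hta]; group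
  rw [h1, h2, htd, ← hk]
  have h3 : d⁻¹ = d * d := by
    rw [eq_comm]
    exact eq_inv_of_mul_eq_one_left hd3
  congr 1
  rw [inv_inv]
  have h4 : d * (d * a * d⁻¹) * d⁻¹ = (d * d) * a * (d * d)⁻¹ := by group
  rw [h4, ← h3, inv_inv]

/-- Adding an element to an elementary section, with control. -/
theorem exists_ext' [Finite X] {Y N : Subgroup X} (h : ElemSection 2 Y N) {b : X} (hbb : b * b ∈ N)
    (hby : ∀ y ∈ Y, b * y * b⁻¹ * y⁻¹ ∈ N) (hbY : b ∉ Y) :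
    ∃ Z : Subgroup X, ElemSection 2 Z N ∧ Y ≤ Z ∧ b ∈ Z ∧ Nat.card Z = 2 * Nat.card Y ∧
      ∀ g ∈ Z, g ∈ Y ∨ b⁻¹ * g ∈ Y := by
  obtain ⟨Z, h1, h2, h3, h4⟩ := C2Base.exists_ext h hbb hby hbY
  refine ⟨Z, h1, h2, h3, h4, fun g hg => ?_⟩
  have h5 : (Y.subgroupOf Z).index = 2 := by
    have h6 := card_eq_relIndex_mul Z Y h2
    rw [h4] at h6
    have h7 : 0 < Nat.card Y := Nat.card_pos
    exact (Nat.eq_of_mul_eq_mul_right h7 h6).symm
  by_contra hcon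
  push Not at hcon
  have h6 := Subgroup.mul_mem_iff_of_index_two h5 (a := (⟨b, h3⟩ : Z)⁻¹) (b := ⟨g, hg⟩)
  simp only [mem_subgroupOf, inv_mem_iff] at h6
  apply hcon.2
  exact h6.mpr (iff_of_false hbY hcon.1)

/-- The commutator condition for one more element. -/
theorem cm_ext {Y N Z : Subgroup X} {b c : X} (hZ : ∀ g ∈ Z, g ∈ Y ∨ b⁻¹ * g ∈ Y)
    (hN : ∀ n ∈ N, b * n * b⁻¹ ∈ N) (hcb : c * b * c⁻¹ * b⁻¹ ∈ N)
    (hcY : ∀ y ∈ Y, c * y * c⁻¹ * y⁻¹ ∈ N) : ∀ g ∈ Z, c * g * c⁻¹ * g⁻¹ ∈ N := by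
  intro g hg
  rcases hZ g hg with h | h
  · exact hcY g h
  · have h1 : c * g * c⁻¹ * g⁻¹ = (c * b * c⁻¹ * b⁻¹) *
        (b * (c * (b⁻¹ * g) * c⁻¹ * (b⁻¹ * g)⁻¹) * b⁻¹) := by group
    rw [h1]
    exact N.mul_mem hcb (hN _ (hcY _ h))

/-- Case (N3) (`S₆`, `A₈`): a section of rank 5. -/
theorem NatF.false_of_extra [Finite X] (hV : El V) {U : Subgroup X} {a d t : X}
    (h : NatF V U a (d * a * d⁻¹)) (h16 : Nat.card V = 16)
    (hdU : ∀ u ∈ U, d * u * d⁻¹ ∈ U)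
    (haa : a * a = 1) (hab : a * (d * a * d⁻¹) = (d * a * d⁻¹) * a)
    (htt : t * t = 1) (htd : t * d = d * t) (hta : t * a * t⁻¹ * a⁻¹ ∈ V)
    (htU : ∀ u ∈ U, t * u * t⁻¹ = u)
    (htF : ∀ k ∈ closure ({a, d * a * d⁻¹} : Set X), k⁻¹ * t ∉ V)
    (hr : ∀ Y N : Subgroup X, ElemSection 2 Y N → Nat.card Y ≤ 16 * Nat.card N) : False := by
  set b := d * a * d⁻¹ with hb
  have hUa : ∀ u ∈ U, a * u * a⁻¹ = u := fun u hu => (h.fa u (h.le hu)).mpr hu
  have hUb : ∀ u ∈ U, b * u * b⁻¹ = u := fun u hu => (h.fb u (h.le hu)).mpr hu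
  have hbb : b * b = 1 := by
    have h1 : b * b = d * (a * a) * d⁻¹ := by rw [hb]; group
    rw [h1, haa]; group
  -- `[t, a] ∈ U`
  set w := t * a * t⁻¹ * a⁻¹ with hw
  have hw' : t * a * t⁻¹ = w * a := by rw [hw]; group
  have hwa : a * w * a⁻¹ = w := by
    have h1 : (w * a) * (w * a) = 1 := by
      rw [← hw']
      have h2 : t * a * t⁻¹ * (t * a * t⁻¹) = t * (a * a) * t⁻¹ := by group
      rw [h2, haa]; group
    have h2 : w * (a * w * a⁻¹) = 1 := by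
      have h3 : w * (a * w * a⁻¹) = (w * a) * (w * a) * (a * a)⁻¹ := by group
      rw [h3, h1, haa]; group
    have h3 := inv_eq_of_mul_eq_one_right h2
    rw [← h3]
    exact hV.inv hta
  have hwU : w ∈ U := (h.fa w hta).mp hwa
  have htb : t * b * t⁻¹ * b⁻¹ ∈ U := by
    have h1 : t * b * t⁻¹ * b⁻¹ = d * (t * a * t⁻¹ * a⁻¹) * d⁻¹ := by
      have h2 : d⁻¹ * t⁻¹ = t⁻¹ * d⁻¹ := by rw [← mul_inv_rev, ← mul_inv_rev, htd]
      calc t * b * t⁻¹ * b⁻¹ = (t * d) * a * (d⁻¹ * t⁻¹) * b⁻¹ := by rw [hb]; group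
        _ = d * t * a * (t⁻¹ * d⁻¹) * (d * a * d⁻¹)⁻¹ := by rw [htd, h2]
        _ = d * (t * a * t⁻¹ * a⁻¹) * d⁻¹ := by group
    rw [h1]
    exact hdU _ hwU
  -- `[t, v] ∈ U`
  have htv : ∀ v ∈ V, t * v * t⁻¹ * v⁻¹ ∈ U := by
    intro v hv
    have htv' := hV.conj t hv
    have h1 : a * (t * v * t⁻¹) * a⁻¹ * (t * v * t⁻¹)⁻¹ = a * v * a⁻¹ * v⁻¹ := by
      have h2 : t⁻¹ * a * t = (t⁻¹ * w⁻¹ * t) * a := by rw [hw]; group
      have h3 : t⁻¹ * w⁻¹ * t ∈ V := by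
        have := hV.conj t⁻¹ (V.inv_mem hta)
        simpa using this
      set x := t⁻¹ * w⁻¹ * t with hx
      have h4 : a * (t * v * t⁻¹) * a⁻¹ * (t * v * t⁻¹)⁻¹ =
          t * ((t⁻¹ * a * t) * v * (t⁻¹ * a * t)⁻¹ * v⁻¹) * t⁻¹ := by group
      rw [h4, h2]
      have h5 : x * a * v * (x * a)⁻¹ * v⁻¹ = x * (a * v * a⁻¹) * x⁻¹ * v⁻¹ := by group
      have h6 : x * (a * v * a⁻¹) * x⁻¹ = a * v * a⁻¹ := by
        rw [hV.comm h3 (hV.conj a hv)]; group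
      rw [h5, h6]
      exact htU _ (h.ca v hv)
    have h2 := (h.fa _ (V.mul_mem (V.inv_mem hv) htv')).mp (fix_of_cm_eq h1)
    rw [hV.comm htv' (V.inv_mem hv)]
    exact h2
  -- the section
  have e0 : ElemSection 2 V U :=
    ⟨h.le, fun g hg k hk => by
      rw [hV.comm hg hk, mul_inv_cancel_right, mul_inv_cancel]; exact U.one_mem,
      fun g hg => by rw [pow_two, hV.sq g hg]; exact U.one_mem⟩
  have hnotV : ∀ g : X, (∀ v ∈ V, g * v * g⁻¹ = v ↔ v ∈ U) → g ∉ V := by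
    intro g hg hgV
    have h1 : V ≤ U := fun v hv => (hg v hv).mp (by rw [hV.comm hgV hv]; group)
    have h2 := Subgroup.card_le_of_le h1
    rw [h16, h.card] at h2
    omega
  obtain ⟨Z1, s1, l1, b1, c1, m1⟩ := exists_ext' e0 (b := a) (by rw [haa]; exact U.one_mem)
    (fun v hv => h.ca v hv) (hnotV a h.fa)
  have hbZ1 : b ∉ Z1 := by
    intro hbZ
    rcases m1 b hbZ with hc | hc
    · exact hnotV b h.fb hc
    · apply hnotV (a * b) h.fc
      have ha' : a⁻¹ = a := inv_eq_of_mul_eq_one_left haa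
      rwa [ha'] at hc
  obtain ⟨Z2, s2, l2, b2, c2, m2⟩ := exists_ext' s1 (b := b) (by rw [hbb]; exact U.one_mem)
    (cm_ext m1 (fun n hn => by rw [hUa n hn]; exact hn)
      (by rw [hab.symm]; rw [mul_inv_cancel_right, mul_inv_cancel]; exact U.one_mem)
      (fun v hv => h.cb v hv)) hbZ1
  have htZ2 : t ∉ Z2 := by
    intro htZ
    have ca : a ∈ closure ({a, b} : Set X) := subset_closure (by simp)
    have cb : b ∈ closure ({a, b} : Set X) := subset_closure (by simp)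
    rcases m2 t htZ with hc | hc
    · rcases m1 t hc with hc | hc
      · exact htF 1 (one_mem _) (by simpa using hc)
      · exact htF a ca hc
    · rcases m1 _ hc with hc | hc
      · exact htF b cb hc
      · exact htF (b * a) (mul_mem cb ca) (by rw [mul_inv_rev, mul_assoc]; exact hc)
  obtain ⟨Z3, s3, l3, b3, c3, m3⟩ := exists_ext' s2 (b := t) (by rw [htt]; exact U.one_mem)
    (cm_ext m2 (fun n hn => by rw [hUb n hn]; exact hn) htb
      (cm_ext m1 (fun n hn => by rw [hUa n hn]; exact hn) hwU htv)) htZ2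
  have h1 := hr _ _ s3
  rw [c3, c2, c1, h16, h.card] at h1
  omega

end Cfsg.Agent.GH.C2Syl
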