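import Cfsg.Agent.GH.GL4Tab
import Cfsg.Agent.GH.C2GrowG
set_option linter.all false

-- part: GH/GL4Frame
section
/-!
# Models of `Y ≤ GL(4,2)` from frames; the model adapted to an element of order five (GH-C2, helper871)
-/

set_option autoImplicit false

namespace Cfsg.Agent.GH.GL4

section frame

variable {V : Type*} [Group V]

/-- `v` or `1` -/
def pw (v : V) (b : ℕ) : V := if b = 1 then v else 1

theorem pw_zero (v : V) : pw v 0 = 1 := rfl
theorem pw_one (v : V) : pw v 1 = v := rfl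

theorem pw_xor (hsq : ∀ v : V, v * v = 1) (v : V) {a b : ℕ} (ha : a = 0 ∨ a = 1) (hb : b = 0 ∨ b = 1) :
    pw v (a ^^^ b) = pw v a * pw v b := by
  rcases ha with rfl | rfl <;> rcases hb with rfl | rfl
  · rw [Nat.xor_self, pw_zero, mul_one]
  · rw [Nat.zero_xor, pw_zero, one_mul]
  · rw [Nat.xor_zero, pw_zero, mul_one]
  · rw [Nat.xor_self, pw_zero, pw_one, hsq]

/-- the element with code `a` in the basis `v0, v1, v2, v3` -/
def dec (v0 v1 v2 v3 : V) (a : ℕ) : V :=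
  (pw v0 (bt a 0) * pw v1 (bt a 1)) * (pw v2 (bt a 2) * pw v3 (bt a 3))

theorem mul_comm_of_sq (hsq : ∀ v : V, v * v = 1) (a b : V) : a * b = b * a := by
  have hi : ∀ v : V, v⁻¹ = v := fun v => inv_eq_of_mul_eq_one_left (hsq v)
  have := hi (a * b)
  rw [mul_inv_rev, hi, hi] at this
  exact this.symm

theorem dec_xor (hsq : ∀ v : V, v * v = 1) (v0 v1 v2 v3 : V) (a b : ℕ) :
    dec v0 v1 v2 v3 (a ^^^ b) = dec v0 v1 v2 v3 a * dec v0 v1 v2 v3 b := by
  have hc := mul_comm_of_sq hsq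
  unfold dec
  rw [bt_xor, bt_xor, bt_xor, bt_xor, pw_xor hsq _ (bt_cases _ _) (bt_cases _ _),
    pw_xor hsq _ (bt_cases _ _) (bt_cases _ _), pw_xor hsq _ (bt_cases _ _) (bt_cases _ _),
    pw_xor hsq _ (bt_cases _ _) (bt_cases _ _)]
  have h4 : ∀ p q r s : V, (p * q) * (r * s) = (p * r) * (q * s) := by
    intro p q r s
    rw [mul_assoc, ← mul_assoc q r s, hc q r, mul_assoc r q s, ← mul_assoc p r]
  rw [h4 (pw v0 _), h4 (pw v2 _), h4]

theorem dec_zero (v0 v1 v2 v3 : V) : dec v0 v1 v2 v3 0 = 1 := by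
  simp [dec, bt, pw]

theorem dec_basis (v0 v1 v2 v3 : V) : dec v0 v1 v2 v3 1 = v0 ∧ dec v0 v1 v2 v3 2 = v1 ∧
    dec v0 v1 v2 v3 4 = v2 ∧ dec v0 v1 v2 v3 8 = v3 := by
  simp [dec, bt, pw]

theorem dec_fifteen (v0 v1 v2 v3 : V) : dec v0 v1 v2 v3 15 = (v0 * v1) * (v2 * v3) := by
  simp [dec, bt, pw]

theorem dec_bt (v0 v1 v2 v3 : V) (a k m : ℕ) :
    dec v0 v1 v2 v3 (bt a k * m) = pw (dec v0 v1 v2 v3 m) (bt a k) := by
  rcases bt_cases a k with h | h
  · rw [h, zero_mul, dec_zero, pw_zero]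
  · rw [h, one_mul, pw_one]

/-- `dec` of an image -/
theorem dec_ap (hsq : ∀ v : V, v * v = 1) (v0 v1 v2 v3 : V) (M a : ℕ) :
    dec v0 v1 v2 v3 (ap M a) = dec (dec v0 v1 v2 v3 (col M 0)) (dec v0 v1 v2 v3 (col M 1))
      (dec v0 v1 v2 v3 (col M 2)) (dec v0 v1 v2 v3 (col M 3)) a := by
  rw [ap_def, dec_xor hsq, dec_xor hsq, dec_xor hsq, dec_bt, dec_bt, dec_bt, dec_bt]
  rfl

theorem map_dec (f : V →* V) (v0 v1 v2 v3 : V) (a : ℕ) :
    f (dec v0 v1 v2 v3 a) = dec (f v0) (f v1) (f v2) (f v3) a := by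
  have h : ∀ (v : V) (b : ℕ), f (pw v b) = pw (f v) b := by
    intro v b
    unfold pw
    split_ifs
    · rfl
    · exact map_one f
  unfold dec
  rw [map_mul, map_mul, map_mul, h, h, h, h]

/-- codes for `V` -/
structure Frame (V : Type*) [Group V] where
  c : V → ℕ
  c_lt : ∀ v, c v < 16
  c_inj : Function.Injective c
  c_surj : ∀ a < 16, ∃ v, c v = a
  c_mul : ∀ v w, c (v * w) = c v ^^^ c w

theorem exists_frame (hV : Nat.card V = 16) (hsq : ∀ v : V, v * v = 1) (v0 v1 v2 v3 : V)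
    (hker : ∀ a < 16, dec v0 v1 v2 v3 a = 1 → a = 0) :
    ∃ K : Frame V, ∀ a < 16, K.c (dec v0 v1 v2 v3 a) = a := by
  classical
  have hfin : Finite V := Nat.finite_of_card_ne_zero (by rw [hV]; norm_num)
  let d : Fin 16 → V := fun a => dec v0 v1 v2 v3 a.1
  have hinj : Function.Injective d := by
    intro a b hab
    have h1 : dec v0 v1 v2 v3 (a.1 ^^^ b.1) = 1 := by
      rw [dec_xor hsq]
      have : dec v0 v1 v2 v3 a.1 = dec v0 v1 v2 v3 b.1 := hab
      rw [this, hsq]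
    have h2 := hker _ (xor_lt a.2 b.2) h1
    exact Fin.ext (Nat.xor_eq_zero_iff.mp h2)
  have hbij : Function.Bijective d := by
    rw [Nat.bijective_iff_injective_and_card]
    exact ⟨hinj, by rw [hV, Nat.card_fin]⟩
  let e := Equiv.ofBijective d hbij
  refine ⟨⟨fun v => (e.symm v).1, fun v => (e.symm v).2, ?_, ?_, ?_⟩, ?_⟩
  · intro v w h
    exact e.symm.injective (Fin.ext h)
  · intro a ha
    exact ⟨e ⟨a, ha⟩, by simp⟩
  · intro v w
    show (e.symm (v * w)).1 = _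
    have h1 : v * w = e ⟨(e.symm v).1 ^^^ (e.symm w).1, xor_lt (e.symm v).2 (e.symm w).2⟩ := by
      show _ = dec v0 v1 v2 v3 ((e.symm v).1 ^^^ (e.symm w).1)
      rw [dec_xor hsq]
      have h2 : ∀ u, dec v0 v1 v2 v3 (e.symm u).1 = u := fun u => e.apply_symm_apply u
      rw [h2, h2]
    rw [h1, Equiv.symm_apply_apply]
  · intro a ha
    show (e.symm (dec v0 v1 v2 v3 a)).1 = a
    have : dec v0 v1 v2 v3 a = e ⟨a, ha⟩ := rfl
    rw [this, Equiv.symm_apply_apply]

end frame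

section model

variable {Y V : Type*} [Group Y] [Group V]

theorem Frame.c_one (K : Frame V) : K.c 1 = 0 := by
  have h := K.c_mul 1 1
  rw [mul_one, Nat.xor_self] at h
  exact h

theorem Frame.eq_dec (K : Frame V) {v0 v1 v2 v3 : V} (h0 : K.c v0 = 1) (h1 : K.c v1 = 2)
    (h2 : K.c v2 = 4) (h3 : K.c v3 = 8) (v : V) : v = dec v0 v1 v2 v3 (K.c v) := by
  apply K.c_inj
  have h : ∀ (w : V) (k : ℕ), K.c (pw w (bt (K.c v) k)) = bt (K.c v) k * K.c w := by
    intro w k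
    rcases bt_cases (K.c v) k with h | h
    · rw [h, pw_zero, zero_mul, K.c_one]
    · rw [h, pw_one, one_mul]
  unfold dec
  rw [K.c_mul, K.c_mul, K.c_mul, h, h, h, h, h0, h1, h2, h3]
  exact code_eq (K.c_lt v)

theorem Frame.exists_model (K : Frame V) (φ : Y →* MulAut V) : ∃ L : Model φ, L.c = K.c := by
  obtain ⟨v0, h0⟩ := K.c_surj 1 (by norm_num)
  obtain ⟨v1, h1⟩ := K.c_surj 2 (by norm_num)
  obtain ⟨v2, h2⟩ := K.c_surj 4 (by norm_num)
  obtain ⟨v3, h3⟩ := K.c_surj 8 (by norm_num)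
  refine ⟨⟨K.c, fun y => GL4.mk (K.c (φ y v0)) (K.c (φ y v1)) (K.c (φ y v2)) (K.c (φ y v3)), K.c_lt, K.c_inj,
    K.c_surj, K.c_mul, fun y => mk_lt (K.c_lt _) (K.c_lt _) (K.c_lt _) (K.c_lt _), ?_⟩, rfl⟩
  intro y v
  obtain ⟨e0, e1, e2, e3⟩ := mk_col (K.c_lt (φ y v0)) (K.c_lt (φ y v1)) (K.c_lt (φ y v2)) (K.c_lt (φ y v3))
  rw [ap_def, e0, e1, e2, e3]
  have h : ∀ (w : V) (k : ℕ), K.c (pw w (bt (K.c v) k)) = bt (K.c v) k * K.c w := by
    intro w k
    rcases bt_cases (K.c v) k with h | h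
    · rw [h, pw_zero, zero_mul, K.c_one]
    · rw [h, pw_one, one_mul]
  have hv := K.eq_dec h0 h1 h2 h3 v
  have hm : φ y (dec v0 v1 v2 v3 (K.c v)) = dec (φ y v0) (φ y v1) (φ y v2) (φ y v3) (K.c v) :=
    map_dec (φ y).toMonoidHom v0 v1 v2 v3 (K.c v)
  rw [← hv] at hm
  rw [hm]
  unfold dec
  rw [K.c_mul, K.c_mul, K.c_mul, h, h, h, h]

/-- the fixed points of an element of order five are trivial -/
theorem fixed_five {φ : Y →* MulAut V} (hφ : Function.Injective φ) (hV : Nat.card V = 16) {x : Y}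
    (hx5 : x ^ 5 = 1) (hx : x ≠ 1) {v : V} (hv : φ x v = v) : v = 1 := by
  classical
  have hfin : Finite V := Nat.finite_of_card_ne_zero (by rw [hV]; norm_num)
  haveI : Fact (Nat.Prime 5) := ⟨by norm_num⟩
  have hord : orderOf x = 5 := orderOf_eq_prime hx5 hx
  let Z := Subgroup.zpowers x
  have hZ : Nat.card Z = 5 := by rw [Nat.card_zpowers, hord]
  letI : MulAction Z V := MulAction.compHom V (φ.comp Z.subtype)
  have hsmul : ∀ (z : Z) (w : V), z • w = φ z.1 w := fun z w => rfl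
  have hp : IsPGroup 5 Z := IsPGroup.of_card (n := 1) (by rw [hZ]; norm_num)
  have hmod := hp.card_modEq_card_fixedPoints V
  let C : Subgroup V :=
    { carrier := {w | φ x w = w}
      mul_mem' := by
        intro a b ha hb
        show φ x (a * b) = a * b
        rw [map_mul, show φ x a = a from ha, show φ x b = b from hb]
      one_mem' := map_one _
      inv_mem' := by
        intro a ha
        show φ x a⁻¹ = a⁻¹
        rw [map_inv, show φ x a = a from ha] }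
  have hfix : ∀ w : V, w ∈ MulAction.fixedPoints Z V ↔ w ∈ C := by
    intro w
    constructor
    · intro h
      exact h ⟨x, Subgroup.mem_zpowers x⟩
    · intro h z
      rw [hsmul]
      obtain ⟨k, hk⟩ := Subgroup.mem_zpowers_iff.mp z.2
      rw [← hk, map_zpow]
      have h1 : φ x ∈ MulAction.stabilizer (MulAut V) w := by
        rw [MulAction.mem_stabilizer_iff]
        exact h
      have h2 := (MulAction.stabilizer (MulAut V) w).zpow_mem h1 k
      rw [MulAction.mem_stabilizer_iff] at h2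
      exact h2
  have hcard : Nat.card (MulAction.fixedPoints Z V) = Nat.card C :=
    Nat.card_congr (Equiv.subtypeEquivRight hfix)
  rw [hcard, hV] at hmod
  have hdvd : Nat.card C ∣ 16 := hV ▸ Subgroup.card_subgroup_dvd_card C
  have hle : Nat.card C ≤ 16 := Nat.le_of_dvd (by norm_num) hdvd
  have hpos : 0 < Nat.card C := Nat.card_pos
  have hcases : Nat.card C = 1 ∨ Nat.card C = 16 := by
    unfold Nat.ModEq at hmod
    generalize Nat.card C = n at *
    interval_cases n <;> simp_all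
  rcases hcases with h1 | h1
  · have h2 : C = ⊥ := Subgroup.eq_bot_of_card_eq C h1
    have h3 : v ∈ C := hv
    rw [h2] at h3
    exact Subgroup.mem_bot.mp h3
  · have h2 : C = ⊤ := Subgroup.eq_top_of_card_eq C (by rw [h1, hV])
    exfalso
    apply hx
    apply hφ
    rw [map_one]
    ext w
    have h3 : w ∈ C := by rw [h2]; trivial
    exact h3

def comb (s a : ℕ) : ℕ := ((bt s 0 * a) ^^^ (bt s 1 * ap 63554 a)) ^^^
  ((bt s 2 * ap 63554 (ap 63554 a)) ^^^ (bt s 3 * ap 63554 (ap 63554 (ap 63554 a))))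

theorem comb_check : ∀ a < 16, a ≠ 0 → ∃ s < 16, comb s a = 1 := by decide +kernel

/-- a model adapted to an element of order five and a vector -/
theorem exists_model_five {φ : Y →* MulAut V} (hφ : Function.Injective φ) (hV : Nat.card V = 16)
    (hsq : ∀ v : V, v * v = 1) {x : Y} (hx5 : x ^ 5 = 1) (hx : x ≠ 1) {v : V} (hv : v ≠ 1) :
    ∃ K : Model φ, K.m x = 63554 ∧ K.c v = 1 := by
  have hc := mul_comm_of_sq hsq
  let A : V →* V := (φ x).toMonoidHom
  have hA : ∀ w, φ x w = A w := fun w => rfl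
  have hA5 : ∀ w, A (A (A (A (A w)))) = w := by
    intro w
    show φ x (φ x (φ x (φ x (φ x w)))) = w
    have h : φ (x ^ 5) w = w := by rw [hx5, map_one]; rfl
    rw [map_pow] at h
    exact h
  have hfour : A (A (A (A v))) = (v * A v) * (A (A v) * A (A (A v))) := by
    have h1 : ((v * A v) * (A (A v) * A (A (A v)))) * A (A (A (A v))) = 1 := by
      apply fixed_five hφ hV hx5 hx
      rw [hA, map_mul, map_mul, map_mul, map_mul, hA5]
      rw [mul_comm_of_sq hsq _ v]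
      simp only [mul_assoc]
    have h2 := hsq (A (A (A (A v))))
    exact mul_right_cancel (h2.trans h1.symm)
  have hdA : ∀ a, A (dec v (A v) (A (A v)) (A (A (A v))) a) = dec v (A v) (A (A v)) (A (A (A v))) (ap 63554 a) := by
    intro a
    rw [map_dec, dec_ap hsq]
    have e0 : col 63554 0 = 2 := rfl
    have e1 : col 63554 1 = 4 := rfl
    have e2 : col 63554 2 = 8 := rfl
    have e3 : col 63554 3 = 15 := rfl
    obtain ⟨d0, d1, d2, d3⟩ := dec_basis v (A v) (A (A v)) (A (A (A v)))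
    rw [e0, e1, e2, e3, d1, d2, d3, dec_fifteen, hfour]
  have hker : ∀ a < 16, dec v (A v) (A (A v)) (A (A (A v))) a = 1 → a = 0 := by
    intro a ha h
    by_contra h0
    obtain ⟨s, hs, hsa⟩ := comb_check a ha h0
    have h1 : dec v (A v) (A (A v)) (A (A (A v))) (ap 63554 a) = 1 := by rw [← hdA, h, map_one]
    have h2 : dec v (A v) (A (A v)) (A (A (A v))) (ap 63554 (ap 63554 a)) = 1 := by rw [← hdA, h1, map_one]
    have h3 : dec v (A v) (A (A v)) (A (A (A v))) (ap 63554 (ap 63554 (ap 63554 a))) = 1 := by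
      rw [← hdA, h2, map_one]
    have h4 : dec v (A v) (A (A v)) (A (A (A v))) (comb s a) = 1 := by
      unfold comb
      have hp : ∀ b, pw (1 : V) b = 1 := by intro b; unfold pw; split_ifs <;> rfl
      rw [dec_xor hsq, dec_xor hsq, dec_xor hsq, dec_bt, dec_bt, dec_bt, dec_bt, h, h1, h2, h3, hp, hp, hp, hp]
      simp
    rw [hsa, (dec_basis v (A v) (A (A v)) (A (A (A v)))).1] at h4
    exact hv h4
  obtain ⟨F, hF⟩ := exists_frame hV hsq v (A v) (A (A v)) (A (A (A v))) hker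
  obtain ⟨K, hK⟩ := F.exists_model φ
  have hKc : ∀ a < 16, K.c (dec v (A v) (A (A v)) (A (A (A v))) a) = a := by rw [hK]; exact hF
  refine ⟨K, ?_, ?_⟩
  · apply eq_of_ap (K.m_lt _) (by norm_num)
    intro a ha
    rw [← hKc _ (ap_lt 63554 a), ← hdA]
    have := K.m_ap x (dec v (A v) (A (A v)) (A (A (A v))) a)
    rw [hKc a ha] at this
    rw [← this]
    rfl
  · have := hKc 1 (by norm_num)
    rw [(dec_basis v (A v) (A (A v)) (A (A (A v)))).1] at this
    exact this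

end model

end Cfsg.Agent.GH.GL4
end

-- part: GH/GL4Five
section
/-!
# Subgroups of `GL(4,2)` containing an element of order five: the trichotomy (GH-C2, helper871)
-/

set_option autoImplicit false

namespace Cfsg.Agent.GH.GL4

variable {Y V : Type*} [Group Y] [Group V] {φ : Y →* MulAut V}

namespace Model

variable (K : Model φ)

/-- `M` is the matrix of an element of `Y` -/
def Has (M : ℕ) : Prop := ∃ y, K.m y = M

theorem has_mu {a b : ℕ} (ha : K.Has a) (hb : K.Has b) : K.Has (mu a b) := by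
  obtain ⟨y, rfl⟩ := ha
  obtain ⟨z, rfl⟩ := hb
  exact ⟨y * z, K.m_mul y z⟩

theorem m_pow {x : Y} (hx : K.m x = 63554) : ∀ i < 5, K.m (x ^ i) = xp i := by
  intro i hi
  have h0 : K.m (x ^ 0) = 33825 := by rw [pow_zero]; exact K.m_one
  have h1 : K.m (x ^ 1) = 63554 := by rw [pow_one]; exact hx
  have h2 : K.m (x ^ 2) = 8068 := by rw [pow_succ, K.m_mul, h1, hx]; decide
  have h3 : K.m (x ^ 3) = 8696 := by rw [pow_succ, K.m_mul, h2, hx]; decide
  have h4 : K.m (x ^ 4) = 16927 := by rw [pow_succ, K.m_mul, h3, hx]; decide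
  interval_cases i
  · exact h0
  · exact h1
  · exact h2
  · exact h3
  · exact h4

theorem has_xp {x : Y} (hx : K.m x = 63554) (d : ℕ) : K.Has (xp d) := by
  by_cases h : d < 5
  · exact ⟨_, K.m_pow hx d h⟩
  · have : xp d = xp 4 := by
      unfold xp
      have e1 : Nat.beq d 1 = false := by
        rw [Bool.eq_false_iff]; intro h1; have := Nat.eq_of_beq_eq_true h1; omega
      have e2 : Nat.beq d 2 = false := by
        rw [Bool.eq_false_iff]; intro h1; have := Nat.eq_of_beq_eq_true h1; omega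
      have e3 : Nat.beq d 3 = false := by
        rw [Bool.eq_false_iff]; intro h1; have := Nat.eq_of_beq_eq_true h1; omega
      have e0 : Nat.beq d 0 = false := by
        rw [Bool.eq_false_iff]; intro h1; have := Nat.eq_of_beq_eq_true h1; omega
      rw [e1, e2, e3, e0]
      rfl
    rw [this]
    exact ⟨_, K.m_pow hx 4 (by norm_num)⟩

theorem has_ev {x : Y} (hx : K.m x = 63554) {M N : ℕ} (hM : K.Has M) (hN : K.Has N) (n w : ℕ) :
    K.Has (ev M N n w 33825) :=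
  ev_closed K.Has (fun _ _ ha hb => K.has_mu ha hb) (K.has_xp hx) hM hN n w _ ⟨1, K.m_one⟩

theorem m_inv_mul (y : Y) : mu (K.m y⁻¹) (K.m y) = 33825 := by
  rw [← K.m_mul, inv_mul_cancel, K.m_one]

end Model

theorem pres_spec {j M : ℕ} (h : pres j M = true) {a : ℕ} (ha : a < 16) (hO : inO j a = true) :
    inO j (ap M a) = true := by
  have := allLT_spec h a ha
  rw [hO] at this
  exact this

theorem pres_of {j M : ℕ} (h : ∀ a < 16, inO j a = true → inO j (ap M a) = true) : pres j M = true := by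
  have key : ∀ (n : ℕ) (p : ℕ → Bool), (∀ k < n, p k = true) → allLT n p = true := by
    intro n p
    induction n with
    | zero => intro _; rfl
    | succ n ih =>
      intro hk
      show (p n && allLT n p) = true
      rw [Bool.and_eq_true]
      exact ⟨hk n (Nat.lt_succ_self n), ih fun k h => hk k (Nat.lt_succ_of_lt h)⟩
  apply key
  intro a ha
  cases hO : inO j a
  · rfl
  · exact h a ha hO

theorem inO_shift : ∀ j < 4, ∀ a < 16, inO j a = inO j (ap 63554 a) := by decide +kernel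

theorem first_col : ∀ a < 16, a ≠ 0 → ∃ i < 5, ap (xp i) a = 1 ∨ ap (xp i) a = 3 ∨ ap (xp i) a = 5 := by
  decide +kernel

namespace Model

variable (K : Model φ)

theorem inO_pow {x : Y} (hx : K.m x = 63554) {j : ℕ} (hj : j < 4) (i : ℕ) (v : V) :
    inO j (K.c (φ (x ^ i) v)) = inO j (K.c v) := by
  induction i generalizing v with
  | zero => rw [pow_zero, map_one]; rfl
  | succ i ih =>
    rw [pow_succ, map_mul]
    show inO j (K.c (φ (x ^ i) (φ x v))) = _
    rw [ih, K.m_ap, hx]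
    exact (inO_shift j hj _ (K.c_lt v)).symm

/-- every element of `Y` permutes the vectors with code in `O_j` -/
theorem pres_iff {j : ℕ} (y : Y) :
    pres j (K.m y) = true ↔ ∀ v, inO j (K.c v) = true → inO j (K.c (φ y v)) = true := by
  constructor
  · intro h v hv
    rw [K.m_ap]
    exact pres_spec h (K.c_lt v) hv
  · intro h
    apply pres_of
    intro a ha hO
    obtain ⟨v, rfl⟩ := K.c_surj a ha
    rw [← K.m_ap]
    exact h v hO

/-- one element -/
theorem alt (hφ : Function.Injective φ) {x : Y} (hx : K.m x = 63554) (y : Y) :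
    (∃ k, 1 ≤ k ∧ k ≤ 4 ∧ y * x = x ^ k * y) ∨ K.Has 22833 ∨
    (∃ j, 1 ≤ j ∧ j ≤ 3 ∧ pres j (K.m y) = true ∧ K.Has (gen j)) := by
  have hc0 : ap (K.m y) 1 ≠ 0 := K.ne_zero y (by norm_num) (by norm_num)
  obtain ⟨i, hi, hcol⟩ := first_col _ (ap_lt _ _) hc0
  have hcol' : col (K.m (x ^ i * y)) 0 = ap (xp i) (ap (K.m y) 1) := by
    rw [← ap_pow _ (by norm_num), K.m_mul, ap_mu, K.m_pow hx i hi]
    rfl
  rw [← hcol'] at hcol
  have hy' : K.Has (K.m (x ^ i * y)) := ⟨_, rfl⟩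
  rcases table (K.m_lt _) hcol with ⟨a, ha1, ha2, ha3⟩ | ⟨k, hk1, hk4, hk⟩ | ⟨w, hw⟩ | ⟨j, hj1, hj3, hp, w, hw⟩
  · exact absurd ha3 (K.ne_zero _ (by omega) (by omega))
  · left
    refine ⟨k, hk1, hk4, ?_⟩
    have h1 : x ^ i * y * x = x ^ k * (x ^ i * y) := by
      apply K.m_inj hφ
      rw [K.m_mul, K.m_mul (x ^ k), hx, hk, K.m_pow hx k (by omega)]
    have h2 : x ^ i * (y * x) = x ^ i * (x ^ k * y) := by
      rw [← mul_assoc, h1, ← mul_assoc, ← mul_assoc, (Commute.pow_pow_self x k i).eq]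
    exact mul_left_cancel h2
  · right; left
    obtain ⟨w', hw'⟩ := inL_spec chkW_tn hw
    rw [← hw']
    exact K.has_ev hx (K.has_ev hx hy' hy' _ _) (K.has_ev hx hy' hy' _ _) _ _
  · right; right
    refine ⟨j, hj1, hj3, ?_, ?_⟩
    · rw [K.pres_iff] at hp ⊢
      intro v hv
      have h1 := hp v hv
      rw [map_mul] at h1
      have h2 := K.inO_pow hx (j := j) (by omega) i (φ y v)
      rw [← h2]
      exact h1
    · obtain ⟨w', hw'⟩ := tow_spec j hw
      rw [← hw']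
      exact K.has_ev hx (K.has_ev hx hy' hy' _ _) (K.has_ev hx hy' hy' _ _) _ _

theorem pair {x : Y} (hx : K.m x = 63554) {j k : ℕ} (hj1 : 1 ≤ j) (hj3 : j ≤ 3) (hk1 : 1 ≤ k) (hk3 : k ≤ 3)
    (hjk : j ≠ k) (hj : K.Has (gen j)) (hk : K.Has (gen k)) : K.Has 22833 := by
  have hp := pair_check
  rw [Bool.and_eq_true, Bool.and_eq_true] at hp
  have key : ∀ a b w : ℕ, K.Has a → K.Has b → inL tnw (ev a b 5 w 33825) = true → K.Has 22833 := by
    intro a b w ha hb h
    obtain ⟨w', hw'⟩ := inL_spec chkW_tn h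
    rw [← hw']
    exact K.has_ev hx (K.has_ev hx ha hb _ _) (K.has_ev hx ha hb _ _) _ _
  have g1 : gen 1 = 5368 := rfl
  have g2 : gen 2 = 18621 := rfl
  have g3 : gen 3 = 5064 := rfl
  interval_cases j <;> interval_cases k
  · exact absurd rfl hjk
  · exact key _ _ _ hj hk hp.1
  · exact key _ _ _ hj hk hp.2.1
  · exact key _ _ _ hk hj hp.1
  · exact absurd rfl hjk
  · exact key _ _ _ hj hk hp.2.2
  · exact key _ _ _ hk hj hp.2.1
  · exact key _ _ _ hk hj hp.2.2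
  · exact absurd rfl hjk

theorem x_five (hφ : Function.Injective φ) {x : Y} (hx : K.m x = 63554) : x ^ 5 = 1 := by
  apply K.m_inj hφ
  rw [pow_succ, K.m_mul, K.m_pow hx 4 (by norm_num), hx, K.m_one]
  decide

theorem x_ne {x : Y} (hx : K.m x = 63554) : x ≠ 1 := by
  rintro rfl
  rw [K.m_one] at hx
  exact absurd hx (by norm_num)

end Model

/-- the elements normalising `⟨x⟩` -/
def HG {x : Y} (hx5 : x ^ 5 = 1) : Subgroup Y where
  carrier := {y | ∃ k, 1 ≤ k ∧ k ≤ 4 ∧ y * x = x ^ k * y}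
  one_mem' := ⟨1, by norm_num, by norm_num, by rw [pow_one, one_mul, mul_one]⟩
  mul_mem' := by
    rintro y z ⟨k, hk1, hk4, hk⟩ ⟨l, hl1, hl4, hl⟩
    have hpow : ∀ n : ℕ, y * x ^ n = x ^ (k * n) * y := by
      intro n
      induction n with
      | zero => rw [Nat.mul_zero, pow_zero, one_mul, mul_one]
      | succ n ih => rw [pow_succ, ← mul_assoc, ih, mul_assoc, hk, ← mul_assoc, ← pow_add, Nat.mul_succ]
    refine ⟨(k * l) % 5, ?_, ?_, ?_⟩
    · interval_cases k <;> interval_cases l <;> norm_num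
    · have := Nat.mod_lt (k * l) (show 0 < 5 by norm_num); omega
    · have h1 : x ^ ((k * l) % 5) = x ^ (k * l) := by
        conv_rhs => rw [← Nat.div_add_mod (k * l) 5, pow_add, pow_mul, hx5, one_pow, one_mul]
      rw [mul_assoc, hl, ← mul_assoc, hpow, h1, mul_assoc]
  inv_mem' := by
    rintro y ⟨k, hk1, hk4, hk⟩
    have hpow : ∀ n : ℕ, y * x ^ n = x ^ (k * n) * y := by
      intro n
      induction n with
      | zero => rw [Nat.mul_zero, pow_zero, one_mul, mul_one]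
      | succ n ih => rw [pow_succ, ← mul_assoc, ih, mul_assoc, hk, ← mul_assoc, ← pow_add, Nat.mul_succ]
    have hl : ∃ l, 1 ≤ l ∧ l ≤ 4 ∧ (k * l) % 5 = 1 := by
      interval_cases k
      · exact ⟨1, by norm_num⟩
      · exact ⟨3, by norm_num⟩
      · exact ⟨2, by norm_num⟩
      · exact ⟨4, by norm_num⟩
    obtain ⟨l, hl1, hl4, hl⟩ := hl
    refine ⟨l, hl1, hl4, ?_⟩
    have h1 : x ^ (k * l) = x := by
      conv_lhs => rw [← Nat.div_add_mod (k * l) 5, pow_add, pow_mul, hx5, one_pow, one_mul, hl, pow_one]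
    have h2 := hpow l
    rw [h1] at h2
    rw [eq_comm, mul_inv_eq_iff_eq_mul, mul_assoc, ← h2, inv_mul_cancel_left]

theorem mem_HG {x : Y} (hx5 : x ^ 5 = 1) {y : Y} :
    y ∈ HG hx5 ↔ ∃ k, 1 ≤ k ∧ k ≤ 4 ∧ y * x = x ^ k * y := Iff.rfl

namespace Model

variable (K : Model φ)

/-- the trichotomy -/
theorem five_cases (hφ : Function.Injective φ) {x : Y} (hx : K.m x = 63554) (hx5 : x ^ 5 = 1) :
    (∀ y, y ∈ HG hx5) ∨ K.Has 22833 ∨
    (∃ j, 1 ≤ j ∧ j ≤ 3 ∧ (∀ y, pres j (K.m y) = true) ∧ ∃ y, y ∉ HG hx5) := by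
  by_cases hH : ∀ y, y ∈ HG hx5
  · exact Or.inl hH
  by_cases hN : K.Has 22833
  · exact Or.inr (Or.inl hN)
  right; right
  rw [not_forall] at hH
  obtain ⟨y1, hy1⟩ := hH
  rcases K.alt hφ hx y1 with h | h | ⟨j, hj1, hj3, hp, hg⟩
  · exact absurd h hy1
  · exact absurd h hN
  refine ⟨j, hj1, hj3, ?_, y1, hy1⟩
  -- an element outside `H` preserves `O_j`
  have key : ∀ y, y ∉ HG hx5 → pres j (K.m y) = true := by
    intro y hy
    rcases K.alt hφ hx y with h | h | ⟨k, hk1, hk3, hpk, hgk⟩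
    · exact absurd h hy
    · exact absurd h hN
    · by_cases hjk : j = k
      · rw [hjk]; exact hpk
      · exact absurd (K.pair hx hj1 hj3 hk1 hk3 hjk hg hgk) hN
  intro y
  by_cases hy : y ∈ HG hx5
  · have h1 : y1 * y ∉ HG hx5 := fun h => hy1 (((HG hx5).mul_mem_cancel_right hy).mp h)
    have h2 : y1⁻¹ ∉ HG hx5 := fun h => hy1 (by simpa using (HG hx5).inv_mem h)
    have h3 := key _ h1
    have h4 := key _ h2
    rw [K.pres_iff] at h3 h4 ⊢
    intro v hv
    have h5 := h4 _ (h3 v hv)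
    have h6 : φ y1⁻¹ (φ (y1 * y) v) = φ y v := by
      rw [← MulAut.mul_apply, ← map_mul, inv_mul_cancel_left]
    rw [h6] at h5
    exact h5
  · exact key y hy

end Model

end Cfsg.Agent.GH.GL4
end

-- part: GH/GL4Nat
section
/-!
# Subgroups of `GL(4,2)` containing the natural `A₅` (GH-C2, helper871)

Output: `NatD` (the four-group `⟨a, d a d⁻¹⟩`) and the cases (N1), (N2), (N3).
-/

set_option autoImplicit false

namespace Cfsg.Agent.GH.GL4

open Subgroup

variable {Y V : Type*} [Group Y] [Group V] {φ : Y →* MulAut V}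

/-- The four-group `⟨a, d a d⁻¹⟩` of the natural `A₅` on `V`, `U = C_V(F) = [V, F]`. -/
structure NatD (φ : Y →* MulAut V) (U : Subgroup V) (a d : Y) : Prop where
  cardU : Nat.card U = 4
  d3 : d * d * d = 1
  fpf : ∀ v, φ d v = v → v = 1
  dU : ∀ u ∈ U, φ d u ∈ U
  a_ne : a ≠ 1
  aa : a * a = 1
  prod : a * (d * a * d⁻¹) * (d * (d * a * d⁻¹) * d⁻¹) = 1
  comm : a * (d * a * d⁻¹) = (d * a * d⁻¹) * a
  ne : a ≠ d * a * d⁻¹
  fa : ∀ v, φ a v = v ↔ v ∈ U
  ca : ∀ v, φ a v * v⁻¹ ∈ U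
  sur : ∀ u ∈ U, ∃ v, φ a v * v⁻¹ = u

/-! ### the table -/

def inF (M : ℕ) : Bool := Nat.beq M 33825 || (Nat.beq M 22833 || (Nat.beq M 38369 || Nat.beq M 18673))

def conjF (M f : ℕ) : Bool := Nat.beq (mu M f) (mu 22833 M) || (Nat.beq (mu M f) (mu 38369 M) ||
  Nat.beq (mu M f) (mu 18673 M))

def tT (T : ℕ) : Bool := Nat.beq (mu T T) 33825 && (Nat.beq (mu T 9133) (mu 42892 T) &&
  ((Nat.beq (mu T 22833) (mu 22833 T) || (Nat.beq (mu T 38369) (mu 38369 T) ||
    Nat.beq (mu T 18673) (mu 18673 T))) && !(Nat.beq (ap T 1) 1 && Nat.beq (ap T 12) 12)))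

def t0T (T : ℕ) : Bool := Nat.beq (mu T T) 33825 && (Nat.beq (mu T 9133) (mu 9133 T) &&
  (Nat.beq (mu T 22833) (mu 22833 T) && (Nat.beq (ap T 1) 1 && Nat.beq (ap T 12) 12)))

def okT (T : ℕ) : Bool := tT T || t0T T

def okA (M : ℕ) : Bool :=
  bif (conjF M 22833 && conjF M 38369) && (inF (mu M M) && !(inF M)) then
    okT M || (okT (mu 22833 M) || (okT (mu 38369 M) || okT (mu 18673 M)))
  else true

def lU : List ℕ := [1, 12, 13]

theorem okA_check : (lU.all fun c0 => allLT 16 fun c1 => allLT 16 fun c2 => lU.all fun w =>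
    okA (Nat.add c0 (Nat.add (Nat.mul 16 c1) (Nat.add (Nat.mul 256 c2) (Nat.mul 4096 (Nat.xor c2 w)))))) = true := by
  decide +kernel

theorem okA_spec {M : ℕ} (hM : M < 65536) (h1 : ap M 1 ∈ lU) (h2 : ap M 12 ∈ lU) : okA M = true := by
  have h := okA_check
  rw [List.all_eq_true] at h
  have h' := List.all_eq_true.mp (allLT_spec (allLT_spec (h _ h1) (col M 1) (col_lt _ _)) (col M 2) (col_lt _ _))
    _ h2
  have e3 : (col M 2) ^^^ (ap M 12) = col M 3 := by
    have e : ap M 12 = col M 2 ^^^ col M 3 := by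
      have : (12 : ℕ) = 4 ^^^ 8 := rfl
      rw [this, ap_xor]
      have a1 := ap_pow M (k := 2) (by norm_num)
      have a2 := ap_pow M (k := 3) (by norm_num)
      norm_num at a1 a2
      rw [a1, a2]
    rw [e, ← Nat.xor_assoc, Nat.xor_self, Nat.zero_xor]
  have e0 : ap M 1 = col M 0 := by
    have a1 := ap_pow M (k := 0) (by norm_num)
    norm_num at a1
    exact a1
  have e : ap M 1 + (16 * col M 1 + (256 * col M 2 + 4096 * (col M 2 ^^^ ap M 12))) = M := by
    rw [e3, e0]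
    have h1 := eq_mk hM
    unfold GL4.mk at h1
    omega
  have h'' : okA (ap M 1 + (16 * col M 1 + (256 * col M 2 + 4096 * (col M 2 ^^^ ap M 12)))) = true := h'
  rwa [e] at h''

/-! ### action on `U` -/

/-- image of `a ∈ U` if `1 ↦ p`, `12 ↦ q` -/
def ua (p q a : ℕ) : ℕ := if a = 1 then p else if a = 12 then q else p ^^^ q

theorem ap_ua (M : ℕ) : ∀ a ∈ lU, ap M a = ua (ap M 1) (ap M 12) a := by
  intro a ha
  simp only [lU, List.mem_cons, List.not_mem_nil, or_false] at ha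
  rcases ha with rfl | rfl | rfl
  · rfl
  · rfl
  · have : (13 : ℕ) = 1 ^^^ 12 := rfl
    rw [this, ap_xor]
    rfl

def trOK (p q p' q' : ℕ) : Bool :=
  bif (Nat.beq (ua p q p) 1 && Nat.beq (ua p q q) 12 && !(Nat.beq p 1 && Nat.beq q 12) &&
    Nat.beq (ua p' q' p') 1 && Nat.beq (ua p' q' q') 12 && !(Nat.beq p' 1 && Nat.beq q' 12) &&
    Nat.beq (ua p q (ua p' q' (ua p q p'))) 1 && Nat.beq (ua p q (ua p' q' (ua p q q'))) 12) then
    Nat.beq (ua p q p') 1 && Nat.beq (ua p q q') 12 else true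

theorem trOK_check : (lU.all fun p => lU.all fun q => lU.all fun p' => lU.all fun q' => trOK p q p' q') = true := by
  decide +kernel

theorem tr_lemma {p q p' q' : ℕ} (hp : p ∈ lU) (hq : q ∈ lU) (hp' : p' ∈ lU) (hq' : q' ∈ lU)
    (h1 : ua p q p = 1) (h2 : ua p q q = 12) (h3 : ¬ (p = 1 ∧ q = 12)) (h4 : ua p' q' p' = 1)
    (h5 : ua p' q' q' = 12) (h6 : ¬ (p' = 1 ∧ q' = 12)) (h7 : ua p q (ua p' q' (ua p q p')) = 1)
    (h8 : ua p q (ua p' q' (ua p q q')) = 12) : ua p q p' = 1 ∧ ua p q q' = 12 := by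
  have h := List.all_eq_true.mp (List.all_eq_true.mp (List.all_eq_true.mp (List.all_eq_true.mp trOK_check
    p hp) q hq) p' hp') q' hq'
  unfold trOK at h
  have e3 : (Nat.beq p 1 && Nat.beq q 12) = false := by
    rw [Bool.eq_false_iff]
    intro h9
    rw [Bool.and_eq_true] at h9
    exact h3 ⟨Nat.eq_of_beq_eq_true h9.1, Nat.eq_of_beq_eq_true h9.2⟩
  have e6 : (Nat.beq p' 1 && Nat.beq q' 12) = false := by
    rw [Bool.eq_false_iff]
    intro h9
    rw [Bool.and_eq_true] at h9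
    exact h6 ⟨Nat.eq_of_beq_eq_true h9.1, Nat.eq_of_beq_eq_true h9.2⟩
  rw [h1, h2, e3, h4, h5, e6, h7, h8] at h
  simp only [Nat.beq_refl, Bool.not_false, Bool.and_true, cond_true, Bool.and_eq_true] at h
  exact ⟨Nat.eq_of_beq_eq_true h.1, Nat.eq_of_beq_eq_true h.2⟩

theorem four_lemma : ∀ p ∈ lU, ∀ q ∈ lU, p ≠ q → ua p q (ua p q (ua p q p)) = 1 →
    ua p q (ua p q (ua p q q)) = 12 → ua p q p = 1 ∧ ua p q q = 12 := by decide +kernel

/-! ### cardinalities from codes -/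

theorem card_of_codes {α : Type*} (f : α → ℕ) (hf : Function.Injective f) (l : List ℕ) (hl : l.Nodup)
    (A : Set α) (h : ∀ x, x ∈ A ↔ f x ∈ l) (h2 : ∀ n ∈ l, ∃ x, f x = n) : Nat.card A = l.length := by
  classical
  have e : A ≃ {n // n ∈ l.toFinset} := by
    refine Equiv.ofBijective (fun x => ⟨f x.1, by rw [List.mem_toFinset]; exact (h x.1).mp x.2⟩) ⟨?_, ?_⟩
    · intro x y hxy
      exact Subtype.ext (hf (congrArg Subtype.val hxy))
    · rintro ⟨n, hn⟩
      rw [List.mem_toFinset] at hn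
      obtain ⟨x, hx⟩ := h2 n hn
      exact ⟨⟨x, (h x).mpr (by rw [hx]; exact hn)⟩, Subtype.ext hx⟩
  rw [Nat.card_congr e, Nat.card_eq_fintype_card, Fintype.card_coe, List.toFinset_card_of_nodup hl]

namespace Model

variable (K : Model φ)

include K in
theorem sq_one (v : V) : v * v = 1 := by
  rw [← K.c_eq_zero, K.c_mul, Nat.xor_self]

include K in
theorem inv_eq (v : V) : v⁻¹ = v := inv_eq_of_mul_eq_one_left (K.sq_one v)

/-- subgroup of `V` with given codes -/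
def subV (l : List ℕ) (h0 : 0 ∈ l) (hl : ∀ a ∈ l, ∀ b ∈ l, a ^^^ b ∈ l) : Subgroup V where
  carrier := {v | K.c v ∈ l}
  one_mem' := by
    show K.c 1 ∈ l
    rw [K.c_one]
    exact h0
  mul_mem' := by
    intro a b ha hb
    show K.c (a * b) ∈ l
    rw [K.c_mul]
    exact hl _ ha _ hb
  inv_mem' := by
    intro a ha
    show K.c a⁻¹ ∈ l
    rw [K.inv_eq]
    exact ha

/-- subgroup of `Y` with given codes, `Y` finite -/
def subY [Finite Y] (l : List ℕ) (h0 : 33825 ∈ l) (hl : ∀ a ∈ l, ∀ b ∈ l, mu a b ∈ l) : Subgroup Y where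
  carrier := {y | K.m y ∈ l}
  one_mem' := by
    show K.m 1 ∈ l
    rw [K.m_one]
    exact h0
  mul_mem' := by
    intro a b ha hb
    show K.m (a * b) ∈ l
    rw [K.m_mul]
    exact hl _ ha _ hb
  inv_mem' := by
    intro y hy
    show K.m y⁻¹ ∈ l
    have hpow : ∀ n : ℕ, K.m (y ^ (n + 1)) ∈ l := by
      intro n
      induction n with
      | zero => rw [zero_add, pow_one]; exact hy
      | succ n ih => rw [pow_succ, K.m_mul]; exact hl _ ih _ hy
    have h1 : 0 < orderOf y := orderOf_pos y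
    have h2 : y⁻¹ = y ^ (orderOf y - 1) := by
      rw [inv_eq_iff_mul_eq_one, ← pow_succ', Nat.sub_add_cancel h1, pow_orderOf_eq_one]
    rw [h2]
    by_cases h3 : orderOf y - 1 = 0
    · rw [h3, pow_zero, K.m_one]
      exact h0
    · have h4 : orderOf y - 1 = (orderOf y - 2) + 1 := by omega
      rw [h4]
      exact hpow _

theorem mem_subY [Finite Y] {l : List ℕ} {h0 : 33825 ∈ l} {hl : ∀ a ∈ l, ∀ b ∈ l, mu a b ∈ l} {y : Y} :
    y ∈ K.subY l h0 hl ↔ K.m y ∈ l := Iff.rfl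

theorem mem_subV {l : List ℕ} {h0 : 0 ∈ l} {hl : ∀ a ∈ l, ∀ b ∈ l, a ^^^ b ∈ l} {v : V} :
    v ∈ K.subV l h0 hl ↔ K.c v ∈ l := Iff.rfl

end Model

def lU0 : List ℕ := [0, 1, 12, 13]

def lF : List ℕ := [33825, 22833, 38369, 18673]

def lF1 : List ℕ := [22833, 38369, 18673]

theorem lU0_xor : ∀ a ∈ lU0, ∀ b ∈ lU0, a ^^^ b ∈ lU0 := by decide
theorem lF_mu : ∀ a ∈ lF, ∀ b ∈ lF, mu a b ∈ lF := by decide

theorem nat_fix : ∀ M ∈ lF1, ∀ a < 16, (ap M a = a ↔ a ∈ lU0) := by decide +kernel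
theorem nat_cm : ∀ M ∈ lF1, ∀ a < 16, ap M a ^^^ a ∈ lU0 := by decide +kernel
theorem nat_sur : ∀ M ∈ lF1, ∀ u ∈ lU0, ∃ a < 16, ap M a ^^^ a = u := by decide +kernel
theorem nat_fpf : ∀ a < 16, ap 9133 a = a → a = 0 := by decide +kernel
theorem nat_dU : ∀ a ∈ lU0, ap 9133 a ∈ lU0 := by decide +kernel
theorem nat_d : mu (mu 9133 9133) 9133 = 33825 := by decide +kernel
theorem nat_f : ∀ M ∈ lF1, mu M M = 33825 ∧ mu (mu 9133 M) 42892 ∈ lF1 ∧
    mu (mu M (mu (mu 9133 M) 42892)) (mu (mu 9133 (mu (mu 9133 M) 42892)) 42892) = 33825 ∧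
    mu M (mu (mu 9133 M) 42892) = mu (mu (mu 9133 M) 42892) M ∧ M ≠ mu (mu 9133 M) 42892 ∧
    (∀ N ∈ lF, N = 33825 ∨ N = M ∨ N = mu (mu 9133 M) 42892 ∨ N = mu M (mu (mu 9133 M) 42892)) := by
  decide +kernel

namespace Model

variable (K : Model φ)

/-- `U` -/
def U : Subgroup V := K.subV lU0 (by decide) lU0_xor

/-- `F` -/
def F [Finite Y] : Subgroup Y := K.subY lF (by decide) lF_mu

theorem m_inv_d {d : Y} (hφ : Function.Injective φ) (hd : K.m d = 9133) : d * d * d = 1 ∧ K.m d⁻¹ = 42892 := by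
  have h1 : d * d * d = 1 := by
    apply K.m_inj hφ
    rw [K.m_mul, K.m_mul, hd, K.m_one]
    exact nat_d
  refine ⟨h1, ?_⟩
  have h2 : d⁻¹ = d * d := by
    rw [inv_eq_iff_mul_eq_one, ← mul_assoc]
    exact h1
  rw [h2, K.m_mul, hd]
  decide

theorem natD (hφ : Function.Injective φ) {a d : Y} (ha : K.m a ∈ lF1) (hd : K.m d = 9133) :
    NatD φ K.U a d := by
  obtain ⟨hd3, hdi⟩ := K.m_inv_d hφ hd
  obtain ⟨h1, h2, h3, h4, h5, h6⟩ := nat_f _ ha
  refine ⟨?_, hd3, ?_, ?_, ?_, ?_, ?_, ?_, ?_, ?_, ?_, ?_⟩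
  · exact card_of_codes K.c K.c_inj lU0 (by decide) (K.U : Set V) (fun v => Iff.rfl)
      (fun n hn => K.c_surj n (by revert n; decide))
  · intro v hv
    rw [← K.c_eq_zero]
    apply nat_fpf _ (K.c_lt v)
    rw [← hd, ← K.m_ap, hv]
  · intro u hu
    show K.c (φ d u) ∈ lU0
    rw [K.m_ap, hd]
    exact nat_dU _ hu
  · rintro rfl
    rw [K.m_one] at ha
    revert ha
    decide
  · apply K.m_inj hφ
    rw [K.m_mul, h1, K.m_one]
  · apply K.m_inj hφ
    simp only [K.m_mul, hd, hdi, K.m_one]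
    exact h3
  · apply K.m_inj hφ
    simp only [K.m_mul, hd, hdi]
    exact h4
  · intro h
    apply h5
    have := congrArg K.m h
    rw [K.m_mul, K.m_mul, hd, hdi] at this
    exact this
  · intro v
    rw [← K.c_inj.eq_iff, K.m_ap]
    exact nat_fix _ ha _ (K.c_lt v)
  · intro v
    show K.c (φ a v * v⁻¹) ∈ lU0
    rw [K.inv_eq, K.c_mul, K.m_ap]
    exact nat_cm _ ha _ (K.c_lt v)
  · intro u hu
    obtain ⟨b, hb, hb2⟩ := nat_sur _ ha _ hu
    obtain ⟨v, rfl⟩ := K.c_surj b hb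
    refine ⟨v, ?_⟩
    rw [← K.c_inj.eq_iff, K.inv_eq, K.c_mul, K.m_ap]
    exact hb2

theorem closure_F [Finite Y] (hφ : Function.Injective φ) {a d : Y} (ha : K.m a ∈ lF1) (hd : K.m d = 9133) :
    closure ({a, d * a * d⁻¹} : Set Y) = K.F := by
  obtain ⟨hd3, hdi⟩ := K.m_inv_d hφ hd
  obtain ⟨h1, h2, h3, h4, h5, h6⟩ := nat_f _ ha
  have hb : K.m (d * a * d⁻¹) = mu (mu 9133 (K.m a)) 42892 := by rw [K.m_mul, K.m_mul, hd, hdi]
  have hsub : ∀ M ∈ lF1, M ∈ lF := by decide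
  apply le_antisymm
  · rw [closure_le]
    rintro y (rfl | rfl)
    · exact hsub _ ha
    · show K.m _ ∈ lF
      rw [hb]
      exact hsub _ h2
  · intro y hy
    have hac : a ∈ closure ({a, d * a * d⁻¹} : Set Y) := subset_closure (Or.inl rfl)
    have hbc : d * a * d⁻¹ ∈ closure ({a, d * a * d⁻¹} : Set Y) := subset_closure (Or.inr rfl)
    rcases h6 _ hy with h | h | h | h
    · have : y = 1 := K.m_inj hφ (by rw [h, K.m_one])
      rw [this]
      exact one_mem _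
    · have : y = a := K.m_inj hφ h
      rw [this]
      exact hac
    · have : y = d * a * d⁻¹ := K.m_inj hφ (by rw [h, hb])
      rw [this]
      exact hbc
    · have : y = a * (d * a * d⁻¹) := K.m_inj hφ (by rw [h, K.m_mul a, hb])
      rw [this]
      exact mul_mem hac hbc

theorem card_F [Finite Y] (hφ : Function.Injective φ) (h : ∀ M ∈ lF, K.Has M) : Nat.card K.F = 4 :=
  card_of_codes K.m (K.m_inj hφ) lF (by decide) (K.F : Set Y) (fun _ => Iff.rfl) h

end Model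

end Cfsg.Agent.GH.GL4
end

-- part: GH/GL4NatSyl
section
/-!
# GH-C2, `GL(4,2)`: the Sylow 2-subgroups in the natural case (helper871)
-/

set_option autoImplicit false

namespace Cfsg.Agent.GH.GL4

open Subgroup

variable {Y V : Type*} [Group Y] [Group V] {φ : Y →* MulAut V}

/-- growth inside a 2-group -/
theorem exists_grow [Finite Y] {F P : Subgroup Y} (hP : IsPGroup 2 P) (hFP : F ≤ P) (hne : ¬ P ≤ F) :
    ∃ u ∈ P, u ∉ F ∧ u * u ∈ F ∧ ∀ f ∈ F, u * f * u⁻¹ ∈ F := by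
  obtain ⟨r, hrP, hrF, hrn⟩ := C2GrowG.exists_mem_normalizer hP (hP.to_le hFP) (hFP.trans le_normalizer) hne
  obtain ⟨k, hk⟩ := hP ⟨r, hrP⟩
  have hk' : r ^ (2 ^ k) = 1 := congrArg Subtype.val hk
  have hex : ∃ n, r ^ (2 ^ n) ∈ F := ⟨k, by rw [hk']; exact one_mem _⟩
  classical
  let n := Nat.find hex
  have hn : r ^ (2 ^ n) ∈ F := Nat.find_spec hex
  have hmin : ∀ m < n, r ^ (2 ^ m) ∉ F := fun m hm => Nat.find_min hex hm
  have hn0 : n ≠ 0 := by
    intro h0
    rw [h0, pow_zero, pow_one] at hn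
    exact hrF hn
  refine ⟨r ^ (2 ^ (n - 1)), P.pow_mem hrP _, hmin _ (by omega), ?_, ?_⟩
  · rw [← pow_add, ← two_mul, ← pow_succ', Nat.sub_add_cancel (Nat.one_le_iff_ne_zero.mpr hn0)]
    exact hn
  · intro f hf
    have h1 : r ^ (2 ^ (n - 1)) ∈ normalizer (F : Set Y) := pow_mem hrn _
    exact (mem_normalizer_iff.mp h1 f).mp hf

/-- `F ∪ F t` -/
def ext (F : Subgroup Y) (t : Y) (h1 : ∀ f ∈ F, t * f * t⁻¹ ∈ F) (h2 : t * t = 1) : Subgroup Y where
  carrier := {y | y ∈ F ∨ y * t ∈ F}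
  one_mem' := Or.inl (one_mem _)
  mul_mem' := by
    have ht : t⁻¹ = t := inv_eq_of_mul_eq_one_left h2
    rintro a b (ha | ha) (hb | hb)
    · exact Or.inl (mul_mem ha hb)
    · right
      rw [mul_assoc]
      exact mul_mem ha hb
    · right
      have e : a * b * t = (a * t) * (t * b * t⁻¹) := by
        rw [ht]
        calc a * b * t = a * (t * t) * b * t := by rw [h2]; group
          _ = _ := by group
      rw [e]
      exact mul_mem ha (h1 b hb)
    · left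
      have e : a * b = (a * t) * (t * (b * t) * t⁻¹) := by
        calc a * b = a * (t * t) * b := by rw [h2]; group
          _ = _ := by group
      rw [e]
      exact mul_mem ha (h1 _ hb)
  inv_mem' := by
    have ht : t⁻¹ = t := inv_eq_of_mul_eq_one_left h2
    rintro a (ha | ha)
    · exact Or.inl (inv_mem ha)
    · right
      have h3 := h1 _ (inv_mem ha)
      have e : t * (a * t)⁻¹ * t⁻¹ = a⁻¹ * t := by
        calc t * (a * t)⁻¹ * t⁻¹ = (t * t⁻¹) * a⁻¹ * t⁻¹ := by group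
          _ = a⁻¹ * t := by rw [ht, h2]; group
      rw [e] at h3
      exact h3

theorem mem_ext {F : Subgroup Y} {t : Y} {h1 : ∀ f ∈ F, t * f * t⁻¹ ∈ F} {h2 : t * t = 1} {y : Y} :
    y ∈ ext F t h1 h2 ↔ y ∈ F ∨ y * t ∈ F := Iff.rfl

theorem card_ext [Finite Y] {F : Subgroup Y} {t : Y} (h1 : ∀ f ∈ F, t * f * t⁻¹ ∈ F) (h2 : t * t = 1)
    (ht : t ∉ F) : Nat.card (ext F t h1 h2) = 2 * Nat.card F := by
  have hle : F ≤ ext F t h1 h2 := fun y hy => Or.inl hy
  have htm : t ∈ ext F t h1 h2 := Or.inr (by rw [h2]; exact one_mem _)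
  have hi : (F.subgroupOf (ext F t h1 h2)).index = 2 := by
    rw [index_eq_two_iff]
    refine ⟨⟨t, htm⟩, ?_⟩
    rintro ⟨b, hb⟩
    rw [mem_subgroupOf, mem_subgroupOf]
    rcases hb with hb | hb
    · right
      refine ⟨hb, fun h => ht ?_⟩
      have := mul_mem (inv_mem hb) h
      rwa [Subgroup.coe_mul, inv_mul_cancel_left] at this
    · left
      refine ⟨hb, fun h => ht ?_⟩
      have := mul_mem (inv_mem h) hb
      rwa [inv_mul_cancel_left] at this
  have h3 := (F.subgroupOf (ext F t h1 h2)).card_mul_index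
  rw [hi, Nat.card_congr (subgroupOfEquivOfLe hle).toEquiv] at h3
  omega

theorem ext_isPGroup [Finite Y] {F : Subgroup Y} {t : Y} (h1 : ∀ f ∈ F, t * f * t⁻¹ ∈ F) (h2 : t * t = 1)
    (ht : t ∉ F) (hF : Nat.card F = 4) : IsPGroup 2 (ext F t h1 h2) :=
  IsPGroup.of_card (n := 3) (by rw [card_ext h1 h2 ht, hF]; norm_num)

namespace Model

variable (K : Model φ)

theorem mem_U {v : V} : v ∈ K.U ↔ K.c v ∈ lU0 := Iff.rfl

theorem mem_F [Finite Y] {y : Y} : y ∈ K.F ↔ K.m y ∈ lF := Iff.rfl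

theorem F_fix [Finite Y] {f : Y} (hf : f ∈ K.F) {v : V} (hv : v ∈ K.U) : φ f v = v := by
  rw [← K.c_inj.eq_iff, K.m_ap]
  have h : ∀ M ∈ lF, ∀ a ∈ lU0, ap M a = a := by decide +kernel
  exact h _ hf _ hv

/-- a nontrivial element of `F` has fixed points `U` -/
theorem F_fix_iff [Finite Y] {f : Y} (hf : f ∈ K.F) (hf1 : f ≠ 1) (hφ : Function.Injective φ) {v : V} :
    φ f v = v ↔ v ∈ K.U := by
  rw [← K.c_inj.eq_iff, K.m_ap]
  have h : K.m f ∈ lF1 := by
    have h1 : K.m f ∈ lF := hf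
    have h2 : K.m f ≠ 33825 := fun h => hf1 (K.m_inj hφ (h.trans K.m_one.symm))
    revert h1 h2
    generalize K.m f = M
    intro h1 h2
    simp only [lF, lF1, List.mem_cons, List.not_mem_nil, or_false] at h1 ⊢
    rcases h1 with h | h | h | h
    · exact absurd h h2
    · exact Or.inl h
    · exact Or.inr (Or.inl h)
    · exact Or.inr (Or.inr h)
  exact nat_fix _ h _ (K.c_lt v)

/-- an element normalising `F` preserves `U` -/
theorem pres_U [Finite Y] (hφ : Function.Injective φ) (hF : ∀ M ∈ lF, K.Has M) {u : Y}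
    (hu : ∀ f ∈ K.F, u * f * u⁻¹ ∈ K.F) {v : V} (hv : v ∈ K.U) : φ u v ∈ K.U := by
  obtain ⟨f, hf⟩ := hF 22833 (by decide)
  have hfF : f ∈ K.F := by rw [K.mem_F, hf]; decide
  have hf1 : f ≠ 1 := by
    rintro rfl
    rw [K.m_one] at hf
    exact absurd hf (by norm_num)
  have h1 : u * f * u⁻¹ ≠ 1 := by
    intro h
    apply hf1
    have := mul_inv_eq_one.mp h
    simpa using this
  rw [← K.F_fix_iff (hu f hfF) h1 hφ]
  have h2 : φ (u * f * u⁻¹) (φ u v) = φ u (φ f v) := by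
    rw [← MulAut.mul_apply, ← MulAut.mul_apply, ← map_mul, ← map_mul]
    congr 2
    group
  rw [h2, K.F_fix hfF hv]

theorem mem_lU {a : ℕ} (h : a ∈ lU0) (h0 : a ≠ 0) : a ∈ lU := by
  simp only [lU0, lU, List.mem_cons, List.not_mem_nil, or_false] at h ⊢
  omega

theorem ap_mem_lU [Finite Y] (hφ : Function.Injective φ) (hF : ∀ M ∈ lF, K.Has M) {u : Y}
    (hu : ∀ f ∈ K.F, u * f * u⁻¹ ∈ K.F) {a : ℕ} (ha : a ∈ lU) : ap (K.m u) a ∈ lU := by
  have h16 : ∀ a ∈ lU, a < 16 ∧ a ≠ 0 ∧ a ∈ lU0 := by decide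
  obtain ⟨h1, h2, h3⟩ := h16 a ha
  obtain ⟨v, rfl⟩ := K.c_surj a h1
  apply mem_lU _ (K.ne_zero u h1 h2)
  rw [← K.m_ap]
  exact K.pres_U hφ hF hu h3

/-- check A -/
theorem step_A [Finite Y] (hφ : Function.Injective φ) (hF : ∀ M ∈ lF, K.Has M) {u : Y} (hu1 : u ∉ K.F)
    (hu2 : u * u ∈ K.F) (hu : ∀ f ∈ K.F, u * f * u⁻¹ ∈ K.F) : ∃ f ∈ K.F, okT (K.m (f * u)) = true := by
  have hA := okA_spec (K.m_lt u) (K.ap_mem_lU hφ hF hu (a := 1) (by decide))
    (K.ap_mem_lU hφ hF hu (a := 12) (by decide))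
  have hconj : ∀ M ∈ lF1, conjF (K.m u) M = true := by
    intro M hM
    have hMF : M ∈ lF := by revert M; decide
    obtain ⟨f, rfl⟩ := hF M hMF
    have h1 : K.m (u * f * u⁻¹) ∈ lF := hu f hMF
    have h2 : mu (K.m u) (K.m f) = mu (K.m (u * f * u⁻¹)) (K.m u) := by
      rw [← K.m_mul, ← K.m_mul, inv_mul_cancel_right]
    have h3 : K.m (u * f * u⁻¹) ≠ 33825 := by
      intro h
      have h4 : u * f * u⁻¹ = 1 := K.m_inj hφ (h.trans K.m_one.symm)
      have h5 : f = 1 := by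
        have := mul_inv_eq_one.mp h4
        simpa using this
      rw [h5, K.m_one] at hM
      revert hM
      decide
    unfold conjF
    rw [h2]
    simp only [lF, List.mem_cons, List.not_mem_nil, or_false] at h1
    rcases h1 with h | h | h | h
    · exact absurd h h3
    · rw [h]; simp
    · rw [h]; simp
    · rw [h]; simp
  have hin : ∀ y : Y, y ∈ K.F → inF (K.m y) = true := by
    intro y hy
    have h1 : ∀ M ∈ lF, inF M = true := by decide
    exact h1 _ hy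
  have hnin : inF (K.m u) = false := by
    rw [Bool.eq_false_iff]
    intro h
    apply hu1
    unfold inF at h
    rw [K.mem_F]
    simp only [Bool.or_eq_true] at h
    simp only [lF, List.mem_cons, List.not_mem_nil, or_false]
    rcases h with h | h | h | h
    · exact Or.inl (Nat.eq_of_beq_eq_true h)
    · exact Or.inr (Or.inl (Nat.eq_of_beq_eq_true h))
    · exact Or.inr (Or.inr (Or.inl (Nat.eq_of_beq_eq_true h)))
    · exact Or.inr (Or.inr (Or.inr (Nat.eq_of_beq_eq_true h)))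
  unfold okA at hA
  rw [hconj 22833 (by decide), hconj 38369 (by decide), ← K.m_mul, hin _ hu2, hnin] at hA
  simp only [Bool.and_self, Bool.not_false, cond_true, Bool.or_eq_true] at hA
  obtain ⟨f1, hf1⟩ := hF 22833 (by decide)
  obtain ⟨f2, hf2⟩ := hF 38369 (by decide)
  obtain ⟨f3, hf3⟩ := hF 18673 (by decide)
  rcases hA with h | h | h | h
  · exact ⟨1, one_mem _, by rw [one_mul]; exact h⟩
  · exact ⟨f1, by rw [K.mem_F, hf1]; decide, by rw [K.m_mul, hf1]; exact h⟩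
  · exact ⟨f2, by rw [K.mem_F, hf2]; decide, by rw [K.m_mul, hf2]; exact h⟩
  · exact ⟨f3, by rw [K.mem_F, hf3]; decide, by rw [K.m_mul, hf3]; exact h⟩

/-- meaning of `tT` -/
theorem tT_spec (hφ : Function.Injective φ) {d t : Y} (hd : K.m d = 9133) (h : tT (K.m t) = true) :
    t * t = 1 ∧ t * d * t⁻¹ = d⁻¹ ∧
      ((mu (K.m t) 22833 = mu 22833 (K.m t) ∨ mu (K.m t) 38369 = mu 38369 (K.m t) ∨
        mu (K.m t) 18673 = mu 18673 (K.m t)) ∧ ¬ (ap (K.m t) 1 = 1 ∧ ap (K.m t) 12 = 12)) := by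
  unfold tT at h
  simp only [Bool.and_eq_true, Bool.or_eq_true, Bool.not_eq_true'] at h
  obtain ⟨h1, h2, h3, h4⟩ := h
  have e1 := Nat.eq_of_beq_eq_true h1
  have e2 := Nat.eq_of_beq_eq_true h2
  refine ⟨?_, ?_, ?_, ?_⟩
  · apply K.m_inj hφ
    rw [K.m_mul, e1, K.m_one]
  · rw [mul_inv_eq_iff_eq_mul]
    apply K.m_inj hφ
    rw [K.m_mul, K.m_mul, hd, (K.m_inv_d hφ hd).2, e2]
  · rcases h3 with h | h | h
    · exact Or.inl (Nat.eq_of_beq_eq_true h)
    · exact Or.inr (Or.inl (Nat.eq_of_beq_eq_true h))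
    · exact Or.inr (Or.inr (Nat.eq_of_beq_eq_true h))
  · rintro ⟨a1, a2⟩
    rw [a1, a2] at h4
    exact absurd h4 (by decide)

theorem t0T_spec (hφ : Function.Injective φ) {d t : Y} (hd : K.m d = 9133) (h : t0T (K.m t) = true) :
    t * t = 1 ∧ t * d = d * t ∧ mu (K.m t) 22833 = mu 22833 (K.m t) ∧
      (ap (K.m t) 1 = 1 ∧ ap (K.m t) 12 = 12) := by
  unfold t0T at h
  simp only [Bool.and_eq_true] at h
  obtain ⟨h1, h2, h3, h4, h5⟩ := h
  have e1 := Nat.eq_of_beq_eq_true h1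
  have e2 := Nat.eq_of_beq_eq_true h2
  refine ⟨?_, ?_, Nat.eq_of_beq_eq_true h3, Nat.eq_of_beq_eq_true h4, Nat.eq_of_beq_eq_true h5⟩
  · apply K.m_inj hφ
    rw [K.m_mul, e1, K.m_one]
  · apply K.m_inj hφ
    rw [K.m_mul, K.m_mul, hd, e2]

/-- trivial on `U` -/
def TrivU (y : Y) : Prop := ap (K.m y) 1 = 1 ∧ ap (K.m y) 12 = 12

theorem trivU_iff {y : Y} : K.TrivU y ↔ ∀ v ∈ K.U, φ y v = v := by
  constructor
  · rintro ⟨h1, h2⟩ v hv
    rw [← K.c_inj.eq_iff, K.m_ap]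
    rw [K.mem_U] at hv
    by_cases h0 : K.c v = 0
    · rw [h0, ap_zero]
    · rw [ap_ua _ _ (mem_lU hv h0), h1, h2]
      have h3 : ∀ a ∈ lU, ua 1 12 a = a := by decide
      exact h3 _ (mem_lU hv h0)
  · intro h
    have key : ∀ a ∈ lU, ap (K.m y) a = a := by
      intro a ha
      have h16 : ∀ a ∈ lU, a < 16 ∧ a ∈ lU0 := by decide
      obtain ⟨v, rfl⟩ := K.c_surj a (h16 a ha).1
      rw [← K.m_ap, h v (h16 _ ha).2]
    exact ⟨key 1 (by decide), key 12 (by decide)⟩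

theorem trivU_mul {a b : Y} (ha : K.TrivU a) (hb : K.TrivU b) : K.TrivU (a * b) := by
  rw [K.trivU_iff] at ha hb ⊢
  intro v hv
  rw [map_mul, MulAut.mul_apply, hb v hv, ha v hv]

theorem trivU_inv {a : Y} (ha : K.TrivU a) : K.TrivU a⁻¹ := by
  rw [K.trivU_iff] at ha ⊢
  intro v hv
  have h1 : φ a⁻¹ (φ a v) = v := by rw [← MulAut.mul_apply, ← map_mul, inv_mul_cancel, map_one]; rfl
  rwa [ha v hv] at h1

theorem trivU_of_F [Finite Y] {f : Y} (hf : f ∈ K.F) : K.TrivU f :=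
  K.trivU_iff.mpr fun _ hv => K.F_fix hf hv

theorem ap_mul (y z : Y) (a : ℕ) : ap (K.m (y * z)) a = ap (K.m y) (ap (K.m z) a) := by
  rw [K.m_mul, ap_mu]

theorem ap_ne (y : Y) : ap (K.m y) 1 ≠ ap (K.m y) 12 := by
  intro h
  have h1 : ap (K.m y) 13 = 0 := by
    have : (13 : ℕ) = 1 ^^^ 12 := rfl
    rw [this, ap_xor, h, Nat.xor_self]
  exact K.ne_zero y (by norm_num) (by norm_num) h1

/-- the three natural cases, in codes -/
theorem nat_cases' [Finite Y] (hφ : Function.Injective φ) (hF : ∀ M ∈ lF, K.Has M) {d : Y}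
    (hd : K.m d = 9133) :
    (∃ P : Sylow 2 Y, (P : Subgroup Y) = K.F) ∨
    (∃ (t : Y) (h1 : ∀ f ∈ K.F, t * f * t⁻¹ ∈ K.F) (h2 : t * t = 1), tT (K.m t) = true ∧ t ∉ K.F ∧
      ∃ P : Sylow 2 Y, (P : Subgroup Y) = ext K.F t h1 h2) ∨
    (∃ t, t0T (K.m t) = true ∧ t ∉ K.F) := by
  have : Fact (Nat.Prime 2) := ⟨Nat.prime_two⟩
  have hF4 := K.card_F hφ hF
  have hF2 : IsPGroup 2 K.F := IsPGroup.of_card (n := 2) (by rw [hF4]; norm_num)
  obtain ⟨P, hFP⟩ := hF2.exists_le_sylow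
  by_cases hPF : (P : Subgroup Y) ≤ K.F
  · exact Or.inl ⟨P, le_antisymm hPF hFP⟩
  obtain ⟨u, huP, huF, huu, hun⟩ := exists_grow P.isPGroup' hFP hPF
  obtain ⟨f, hf, hok⟩ := K.step_A hφ hF huF huu hun
  have hnot : ∀ {a b : Y}, a ∈ K.F → b ∉ K.F → a * b ∉ K.F := by
    intro a b ha hb h
    apply hb
    have := mul_mem (inv_mem ha) h
    rwa [inv_mul_cancel_left] at this
  unfold okT at hok
  rw [Bool.or_eq_true] at hok
  rcases hok with hok | hok
  swap
  · exact Or.inr (Or.inr ⟨f * u, hok, hnot hf huF⟩)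
  obtain ⟨t, ht⟩ : ∃ t, t = f * u := ⟨_, rfl⟩
  have htP : t ∈ (P : Subgroup Y) := by rw [ht]; exact mul_mem (hFP hf) huP
  have htF : t ∉ K.F := by rw [ht]; exact hnot hf huF
  rw [← ht] at hok
  obtain ⟨htt, htd, htc, htU⟩ := K.tT_spec hφ hd hok
  have htn : ∀ g ∈ K.F, t * g * t⁻¹ ∈ K.F := by
    intro g hg
    have e : t * g * t⁻¹ = f * (u * g * u⁻¹) * f⁻¹ := by rw [ht]; group
    rw [e]
    exact mul_mem (mul_mem hf (hun g hg)) (inv_mem hf)
  have hti : t⁻¹ = t := inv_eq_of_mul_eq_one_left htt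
  set R := ext K.F t htn htt with hR
  have hFR : K.F ≤ R := fun y hy => Or.inl hy
  have htR : t ∈ R := Or.inr (by rw [htt]; exact one_mem _)
  have hRP : R ≤ (P : Subgroup Y) := by
    rintro y (hy | hy)
    · exact hFP hy
    · have := mul_mem (hFP hy) (inv_mem htP)
      rwa [mul_inv_cancel_right] at this
  by_cases hPR : (P : Subgroup Y) ≤ R
  · exact Or.inr (Or.inl ⟨t, htn, htt, hok, htF, P, le_antisymm hPR hRP⟩)
  obtain ⟨w, hwP, hwR, hww, hwn⟩ := exists_grow P.isPGroup' hRP hPR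
  -- (c1)
  have c1 : ∀ r ∈ R, K.TrivU r → r ∈ K.F := by
    rintro r (hr | hr) hrU
    · exact hr
    · exfalso
      have h1 := K.trivU_of_F hr
      have h2 := K.trivU_mul (K.trivU_inv hrU) h1
      rw [inv_mul_cancel_left] at h2
      exact htU h2
  have hsqR : ∀ r ∈ R, r * r ∈ K.F := by
    rintro r (hr | hr)
    · exact mul_mem hr hr
    · have e : r * r = (r * t) * (t * (r * t) * t⁻¹) := by
        calc r * r = r * (t * t) * r := by rw [htt]; group
          _ = _ := by group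
      rw [e]
      exact mul_mem hr (htn _ hr)
  have hmulR : ∀ r ∈ R, ∀ s ∈ R, r ∉ K.F → s ∉ K.F → r * s ∈ K.F := by
    rintro r (hr | hr) s (hs | hs) h1 h2
    · exact absurd hr h1
    · exact absurd hr h1
    · exact absurd hs h2
    · have e : r * s = (r * t) * (t * (s * t) * t⁻¹) := by
        calc r * s = r * (t * t) * s := by rw [htt]; group
          _ = _ := by group
      rw [e]
      exact mul_mem hr (htn _ hs)
  -- (c2)
  have c2 : ∀ g ∈ K.F, w * g * w⁻¹ ∈ K.F := by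
    obtain ⟨f1, hf1⟩ := hF 22833 (by decide)
    obtain ⟨f2, hf2⟩ := hF 38369 (by decide)
    have hf1F : f1 ∈ K.F := by rw [K.mem_F, hf1]; decide
    have hf2F : f2 ∈ K.F := by rw [K.mem_F, hf2]; decide
    have hne1 : f1 ≠ 1 := by
      rintro rfl
      rw [K.m_one] at hf1
      exact absurd hf1 (by norm_num)
    have hne2 : f2 ≠ 1 := by
      rintro rfl
      rw [K.m_one] at hf2
      exact absurd hf2 (by norm_num)
    have hne3 : f1 * f2 ≠ 1 := by
      intro h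
      have h1 := congrArg K.m h
      rw [K.m_mul, hf1, hf2, K.m_one] at h1
      exact absurd h1 (by decide)
    obtain ⟨g, hg, hg1, hgF⟩ : ∃ g ∈ K.F, g ≠ 1 ∧ w * g * w⁻¹ ∈ K.F := by
      by_cases h1 : w * f1 * w⁻¹ ∈ K.F
      · exact ⟨f1, hf1F, hne1, h1⟩
      by_cases h2 : w * f2 * w⁻¹ ∈ K.F
      · exact ⟨f2, hf2F, hne2, h2⟩
      refine ⟨f1 * f2, mul_mem hf1F hf2F, hne3, ?_⟩
      have e : w * (f1 * f2) * w⁻¹ = (w * f1 * w⁻¹) * (w * f2 * w⁻¹) := by group
      rw [e]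
      exact hmulR _ (hwn _ (hFR hf1F)) _ (hwn _ (hFR hf2F)) h1 h2
    have hr1 : w * g * w⁻¹ ≠ 1 := by
      intro h
      apply hg1
      have := mul_inv_eq_one.mp h
      simpa using this
    -- `w⁻¹` preserves `U`
    have hwU : ∀ v ∈ K.U, φ w⁻¹ v ∈ K.U := by
      intro v hv
      rw [← K.F_fix_iff hg hg1 hφ]
      have h2 : φ g (φ w⁻¹ v) = φ w⁻¹ (φ (w * g * w⁻¹) v) := by
        rw [← MulAut.mul_apply, ← MulAut.mul_apply, ← map_mul, ← map_mul]
        congr 2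
        group
      rw [h2, K.F_fix hgF hv]
    intro g' hg'
    apply c1 _ (hwn _ (hFR hg'))
    rw [K.trivU_iff]
    intro v hv
    have h2 : φ (w * g' * w⁻¹) v = φ w (φ g' (φ w⁻¹ v)) := by
      rw [← MulAut.mul_apply, ← MulAut.mul_apply, ← map_mul, ← map_mul]
    rw [h2, K.F_fix hg' (hwU v hv)]
    rw [← MulAut.mul_apply, ← map_mul, mul_inv_cancel, map_one]
    rfl
  have hwF : w ∉ K.F := fun h => hwR (hFR h)
  have hlw : ∀ a ∈ lU, ap (K.m w) a ∈ lU := fun a ha => K.ap_mem_lU hφ hF c2 ha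
  -- (c3)
  have c3 : w * w ∈ K.F := by
    apply c1 _ hww
    have h4 : K.TrivU ((w * w) * (w * w)) := K.trivU_of_F (hsqR _ hww)
    obtain ⟨h5, h6⟩ := h4
    have p1 := hlw 1 (by decide)
    have q1 := hlw 12 (by decide)
    have e : ∀ a ∈ lU, ap (K.m w) a = ua (ap (K.m w) 1) (ap (K.m w) 12) a := ap_ua _
    rw [K.ap_mul, K.ap_mul, K.ap_mul, e _ (hlw _ (hlw _ p1)), e _ (hlw _ p1), e _ p1] at h5
    rw [K.ap_mul, K.ap_mul, K.ap_mul, e _ (hlw _ (hlw _ q1)), e _ (hlw _ q1), e _ q1] at h6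
    have h7 := four_lemma _ p1 _ q1 (K.ap_ne w) h5 h6
    refine ⟨?_, ?_⟩
    · rw [K.ap_mul, e _ p1]; exact h7.1
    · rw [K.ap_mul, e _ q1]; exact h7.2
  obtain ⟨f', hf', hok'⟩ := K.step_A hφ hF hwF c3 c2
  unfold okT at hok'
  rw [Bool.or_eq_true] at hok'
  rcases hok' with hok' | hok'
  swap
  · exact Or.inr (Or.inr ⟨f' * w, hok', hnot hf' hwF⟩)
  obtain ⟨s, hs⟩ : ∃ s, s = f' * w := ⟨_, rfl⟩
  rw [← hs] at hok'
  obtain ⟨hss, hsd, hsc, hsU⟩ := K.tT_spec hφ hd hok'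
  have hsi : s⁻¹ = s := inv_eq_of_mul_eq_one_left hss
  have hsR : s ∉ R := by
    intro h
    apply hwR
    have := mul_mem (inv_mem (hFR hf')) h
    rwa [hs, inv_mul_cancel_left] at this
  have hsn : ∀ g ∈ K.F, s * g * s⁻¹ ∈ K.F := by
    intro g hg
    have e : s * g * s⁻¹ = f' * (w * g * w⁻¹) * f'⁻¹ := by rw [hs]; group
    rw [e]
    exact mul_mem (mul_mem hf' (c2 g hg)) (inv_mem hf')
  have hsnR : s * t * s⁻¹ ∈ R := by
    have e : s * t * s⁻¹ = f' * (w * t * w⁻¹) * f'⁻¹ := by rw [hs]; group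
    rw [e]
    exact mul_mem (mul_mem (hFR hf') (hwn t htR)) (inv_mem (hFR hf'))
  have hstF : s * t * s⁻¹ ∉ K.F := by
    intro h
    apply htF
    have h1 := hsn _ h
    have e : s * (s * t * s⁻¹) * s⁻¹ = t := by
      rw [hsi]
      calc s * (s * t * s) * s = (s * s) * t * (s * s) := by group
        _ = t := by rw [hss]; group
    rwa [e] at h1
  have hst2 : (s * t) * (s * t) ∈ K.F := by
    have e : (s * t) * (s * t) = (s * t * s⁻¹) * t := by rw [hsi]; group
    rw [e]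
    exact hmulR _ hsnR _ htR hstF htF
  have hls : ∀ a ∈ lU, ap (K.m s) a ∈ lU := fun a ha => K.ap_mem_lU hφ hF hsn ha
  have hlt : ∀ a ∈ lU, ap (K.m t) a ∈ lU := fun a ha => K.ap_mem_lU hφ hF htn ha
  have hstU : K.TrivU (s * t) := by
    have es : ∀ a ∈ lU, ap (K.m s) a = ua (ap (K.m s) 1) (ap (K.m s) 12) a := ap_ua _
    have et : ∀ a ∈ lU, ap (K.m t) a = ua (ap (K.m t) 1) (ap (K.m t) 12) a := ap_ua _
    have s1 := hls 1 (by decide)
    have s2 := hls 12 (by decide)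
    have t1 := hlt 1 (by decide)
    have t2 := hlt 12 (by decide)
    have a1 : ua (ap (K.m s) 1) (ap (K.m s) 12) (ap (K.m s) 1) = 1 := by
      rw [← es _ s1, ← K.ap_mul, hss, K.m_one]; rfl
    have a2 : ua (ap (K.m s) 1) (ap (K.m s) 12) (ap (K.m s) 12) = 12 := by
      rw [← es _ s2, ← K.ap_mul, hss, K.m_one]; rfl
    have a3 : ua (ap (K.m t) 1) (ap (K.m t) 12) (ap (K.m t) 1) = 1 := by
      rw [← et _ t1, ← K.ap_mul, htt, K.m_one]; rfl
    have a4 : ua (ap (K.m t) 1) (ap (K.m t) 12) (ap (K.m t) 12) = 12 := by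
      rw [← et _ t2, ← K.ap_mul, htt, K.m_one]; rfl
    obtain ⟨h5, h6⟩ := K.trivU_of_F hst2
    rw [K.ap_mul, K.ap_mul, K.ap_mul, es _ t1] at h5
    rw [K.ap_mul, K.ap_mul, K.ap_mul, es _ t2] at h6
    have m1 : ua (ap (K.m s) 1) (ap (K.m s) 12) (ap (K.m t) 1) ∈ lU := by rw [← es _ t1]; exact hls _ t1
    have m2 : ua (ap (K.m s) 1) (ap (K.m s) 12) (ap (K.m t) 12) ∈ lU := by rw [← es _ t2]; exact hls _ t2
    rw [et _ m1, es _ (by rw [← et _ m1]; exact hlt _ m1)] at h5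
    rw [et _ m2, es _ (by rw [← et _ m2]; exact hlt _ m2)] at h6
    have h7 := tr_lemma s1 s2 t1 t2 a1 a2 hsU a3 a4 htU h5 h6
    refine ⟨?_, ?_⟩
    · rw [K.ap_mul, es _ t1]; exact h7.1
    · rw [K.ap_mul, es _ t2]; exact h7.2
  have hzF : s * t ∉ K.F := by
    intro h
    apply hsR
    exact Or.inr h
  have hzn : ∀ g ∈ K.F, (s * t) * g * (s * t)⁻¹ ∈ K.F := by
    intro g hg
    have e : (s * t) * g * (s * t)⁻¹ = s * (t * g * t⁻¹) * s⁻¹ := by group
    rw [e]
    exact hsn _ (htn g hg)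
  obtain ⟨f'', hf'', hok''⟩ := K.step_A hφ hF hzF hst2 hzn
  unfold okT at hok''
  rw [Bool.or_eq_true] at hok''
  rcases hok'' with hok'' | hok''
  · exact absurd (K.trivU_mul (K.trivU_of_F hf'') hstU) (K.tT_spec hφ hd hok'').2.2.2
  · exact Or.inr (Or.inr ⟨f'' * (s * t), hok'', hnot hf'' hzF⟩)

end Model

end Cfsg.Agent.GH.GL4
end

-- part: GH/GL4NatOut
section
/-!
# GH-C2, `GL(4,2)`: output in the natural case (helper871)
-/

set_option autoImplicit false

namespace Cfsg.Agent.GH.GL4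

open Subgroup

variable {Y V : Type*} [Group Y] [Group V] {φ : Y →* MulAut V}

/-- (N1): the four-group is a Sylow 2-subgroup [`A₅`, `3 × A₅`] -/
def N1 (φ : Y →* MulAut V) : Prop := ∃ (U : Subgroup V) (a d : Y), NatD φ U a d ∧
  Nat.card (closure ({a, d * a * d⁻¹} : Set Y)) = 4 ∧
  ∃ P : Sylow 2 Y, (P : Subgroup Y) = closure {a, d * a * d⁻¹}

/-- (N2): the Sylow 2-subgroups are dihedral of order 8 [`S₅`, `(3 × A₅):2`, `A₆`, `A₇`] -/
def N2 (φ : Y →* MulAut V) : Prop := ∃ (U : Subgroup V) (a d t : Y), NatD φ U a d ∧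
  Nat.card (closure ({a, d * a * d⁻¹} : Set Y)) = 4 ∧
  t * t = 1 ∧ t * d * t⁻¹ = d⁻¹ ∧ t * a = a * t ∧ (∃ u ∈ U, φ t u ≠ u) ∧ (∀ u ∈ U, φ t u ∈ U) ∧
  ∃ P : Sylow 2 Y, (P : Subgroup Y) = closure {t, a, d * a * d⁻¹} ∧ Nat.card P = 8

/-- (N3) [`S₆`, `A₈`] -/
def N3 (φ : Y →* MulAut V) : Prop := ∃ (U : Subgroup V) (a d t : Y), NatD φ U a d ∧
  Nat.card (closure ({a, d * a * d⁻¹} : Set Y)) = 4 ∧
  t * t = 1 ∧ t * d = d * t ∧ t * a = a * t ∧ (∀ u ∈ U, φ t u = u) ∧ t ∉ closure {a, d * a * d⁻¹}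

namespace Model

variable (K : Model φ)

theorem has_lF {x : Y} (hx : K.m x = 63554) (hN : K.Has 22833) : (∀ M ∈ lF, K.Has M) ∧ K.Has 9133 := by
  have h2 : K.Has 38369 := by
    have := K.has_ev hx hN hN 5 6953
    have e : ev 22833 22833 5 6953 33825 = 38369 := by decide +kernel
    rwa [e] at this
  have hd : K.Has 9133 := by
    have := K.has_ev hx hN hN 3 106
    have e : ev 22833 22833 3 106 33825 = 9133 := by decide +kernel
    rwa [e] at this
  have h3 : K.Has 18673 := by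
    have := K.has_mu hN h2
    have e : mu 22833 38369 = 18673 := by decide +kernel
    rwa [e] at this
  refine ⟨?_, hd⟩
  intro M hM
  simp only [lF, List.mem_cons, List.not_mem_nil, or_false] at hM
  rcases hM with rfl | rfl | rfl | rfl
  · exact ⟨1, K.m_one⟩
  · exact hN
  · exact h2
  · exact h3

theorem nat_out [Finite Y] (hφ : Function.Injective φ) {x : Y} (hx : K.m x = 63554) (hN : K.Has 22833) :
    N1 φ ∨ N2 φ ∨ N3 φ := by
  obtain ⟨hF, d, hd⟩ := K.has_lF hx hN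
  obtain ⟨a, ha⟩ := hN
  have haF : K.m a ∈ lF1 := by rw [ha]; decide
  rcases K.nat_cases' hφ hF hd with ⟨P, hP⟩ | ⟨t, h1, h2, htT, htF, P, hP⟩ | ⟨t, ht, htF⟩
  · left
    refine ⟨K.U, a, d, K.natD hφ haF hd, ?_, P, ?_⟩
    · rw [K.closure_F hφ haF hd, K.card_F hφ hF]
    · rw [K.closure_F hφ haF hd, hP]
  · right; left
    obtain ⟨htt, htd, htc, htU⟩ := K.tT_spec hφ hd htT
    obtain ⟨M, hM, hMc⟩ : ∃ M ∈ lF1, mu (K.m t) M = mu M (K.m t) := by
      rcases htc with h | h | h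
      · exact ⟨_, by decide, h⟩
      · exact ⟨_, by decide, h⟩
      · exact ⟨_, by decide, h⟩
    have hsub : ∀ M ∈ lF1, M ∈ lF := by decide
    have hMF : M ∈ lF := hsub M hM
    obtain ⟨b, rfl⟩ := hF M hMF
    have hcl := K.closure_F hφ hM hd
    refine ⟨K.U, b, d, t, K.natD hφ hM hd, ?_, htt, htd, ?_, ?_, fun u hu => K.pres_U hφ hF h1 hu, P, ?_, ?_⟩
    · rw [hcl, K.card_F hφ hF]
    · apply K.m_inj hφ
      rw [K.m_mul, K.m_mul]
      exact hMc
    · by_contra hcon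
      push Not at hcon
      exact htU (K.trivU_iff.mpr hcon)
    · rw [hP]
      apply le_antisymm
      · rintro y (hy | hy)
        · rw [← hcl] at hy
          exact closure_mono (fun z hz => Or.inr hz) hy
        · rw [← hcl] at hy
          have h3 : y * t ∈ closure ({t, b, d * b * d⁻¹} : Set Y) :=
            closure_mono (fun z hz => Or.inr hz) hy
          have h4 : t ∈ closure ({t, b, d * b * d⁻¹} : Set Y) := subset_closure (Or.inl rfl)
          have h5 := mul_mem h3 (inv_mem h4)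
          rwa [mul_inv_cancel_right] at h5
      · rw [closure_le]
        rintro y (rfl | hy)
        · exact Or.inr (by rw [htt]; exact one_mem _)
        · left
          rw [← hcl]
          exact subset_closure hy
    · have h5 : Nat.card P = Nat.card (P : Subgroup Y) := rfl
      rw [h5, hP, card_ext h1 h2 htF, K.card_F hφ hF]
  · right; right
    obtain ⟨htt, htd, htc, htU⟩ := K.t0T_spec hφ hd ht
    have hcl := K.closure_F hφ haF hd
    refine ⟨K.U, a, d, t, K.natD hφ haF hd, ?_, htt, htd, ?_, ?_, ?_⟩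
    · rw [hcl, K.card_F hφ hF]
    · apply K.m_inj hφ
      rw [K.m_mul, K.m_mul, ha]
      exact htc
    · exact K.trivU_iff.mp htU
    · rw [hcl]
      exact htF

end Model

end Cfsg.Agent.GH.GL4
end
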