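import Cfsg.Agent.GH.C2SevenTop
import Cfsg.Agent.GH.C2Act
set_option linter.all false

/-!
# GH-C2: nonsolvable subgroups of `GL₄(2)` of order prime to 5

`Y` acts faithfully on the elementary abelian group `V` of order at most 16, `5` does not divide `|Y|`,
`Y` is not solvable and has no nontrivial normal 2-subgroup: `|Y| = 168` and `Y` is simple.
-/

set_option autoImplicit false

namespace Cfsg.Agent.GH.GL4Seven

open Subgroup Cfsg.Agent.GH.C2SevenTop Cfsg.Agent.GH.C2Act

variable {Y V : Type*} [Group Y] [Group V] [Finite Y] [Finite V] {φ : Y →* MulAut V}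

omit [Finite V] in
theorem comm (hV2 : ∀ v : V, v * v = 1) (a b : V) : a * b = b * a := by
  have h1 := hV2 (a * b)
  calc a * b = a * (a * b * (a * b)) * b := by rw [h1, mul_one]
    _ = (a * a) * (b * a) * (b * b) := by group
    _ = b * a := by rw [hV2, hV2, one_mul, mul_one]

theorem card_mulAut (hV2 : ∀ v : V, v * v = 1) {n : ℕ} (hn : Nat.card V = 2 ^ n) :
    Nat.card (MulAut V) = ∏ i : Fin n, (2 ^ n - 2 ^ (i : ℕ)) := by
  have h2 : Fact (Nat.Prime 2) := ⟨Nat.prime_two⟩
  exact Transfer.ElemAbAut.card_mulAut 2 n (comm hV2) (fun x => by rw [pow_two]; exact hV2 x) hn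

omit [Finite Y] in
/-- The case `|V| ≤ 8`. -/
theorem dvd_of_le (hφ : Function.Injective φ) (hV2 : ∀ v : V, v * v = 1) (h8 : Nat.card V ≤ 8) :
    Nat.card Y ∣ 168 := by
  obtain ⟨n, hn⟩ := exists_pow hV2 (⊤ : Subgroup V)
  rw [Subgroup.card_top] at hn
  have hn3 : n ≤ 3 := by
    by_contra h
    have : 2 ^ 4 ≤ 2 ^ n := Nat.pow_le_pow_right (by norm_num) (by omega)
    omega
  refine (card_dvd_of_injective φ hφ).trans ?_
  rw [card_mulAut hV2 hn]
  interval_cases n <;> decide

/-- Reduction to a subgroup. -/
theorem of_sub (hφ : Function.Injective φ) (hV2 : ∀ v : V, v * v = 1)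
    (hN : ∀ N : Subgroup Y, N.Normal → IsPGroup 2 N → N = ⊥) (W : Subgroup V) (hW : Nat.card W ≤ 8)
    (hinv : ∀ y : Y, ∀ w ∈ W, φ y w ∈ W) {c : V} (hc : ∀ v : V, v ∈ W ∨ c * v ∈ W) (hcW : c ∉ W) :
    Nat.card Y ∣ 168 := by
  have hinv' : ∀ y : Y, ∀ w : V, φ y w ∈ W → w ∈ W := by
    intro y w hw
    have h1 := hinv y⁻¹ _ hw
    rwa [← MulAut.mul_apply, ← map_mul, inv_mul_cancel, map_one, MulAut.one_apply] at h1
  let ψ : Y →* MulAut W :=
    { toFun := fun y => 
        { toFun := fun w => ⟨φ y w, hinv y w w.2⟩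
          invFun := fun w => ⟨φ y⁻¹ w, hinv y⁻¹ w w.2⟩
          left_inv := fun w => Subtype.ext (by
            show φ y⁻¹ (φ y w) = w
            rw [← MulAut.mul_apply, ← map_mul, inv_mul_cancel, map_one, MulAut.one_apply])
          right_inv := fun w => Subtype.ext (by
            show φ y (φ y⁻¹ w) = w
            rw [← MulAut.mul_apply, ← map_mul, mul_inv_cancel, map_one, MulAut.one_apply])
          map_mul' := fun a b => Subtype.ext (map_mul (φ y) _ _) }
      map_one' := by
        ext w
        show φ 1 (w : V) = w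
        rw [map_one, MulAut.one_apply]
      map_mul' := fun a b => by
        ext w
        show φ (a * b) (w : V) = φ a (φ b w)
        rw [map_mul, MulAut.mul_apply] }
  have hker : ψ.ker = ⊥ := by
    refine hN _ inferInstance ?_
    rintro ⟨y, hy⟩
    have h1 : ∀ w ∈ W, φ y w = w := fun w hw =>
      congrArg Subtype.val (DFunLike.congr_fun (MonoidHom.mem_ker.mp hy) ⟨w, hw⟩)
    refine ⟨1, Subtype.ext ?_⟩
    show y ^ 2 ^ 1 = 1
    rw [pow_one, pow_two]
    apply hφ
    rw [map_mul, map_one]
    ext v
    rw [MulAut.mul_apply, MulAut.one_apply]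
    have h2 : ∀ v, c * v ∈ W → φ y (φ y v) = v := by
      intro v hv
      -- φ y v = v * w
      have h3 : φ y v ∉ W := fun h => by
        have h4 := hinv' y v h
        exact hcW (by simpa using mul_mem hv (inv_mem h4))
      have h4 : c * φ y v ∈ W := (hc _).resolve_left h3
      have h5 : v * φ y v ∈ W := by
        have h6 := mul_mem hv h4
        have h7 : c * v * (c * φ y v) = v * φ y v := by
          calc c * v * (c * φ y v) = (c * v) * c * φ y v := by group
            _ = v * c * c * φ y v := by rw [comm hV2 c v]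
            _ = v * (c * c) * φ y v := by group
            _ = v * φ y v := by rw [hV2, mul_one]
        rwa [h7] at h6
      have h6 := h1 _ h5
      rw [map_mul] at h6
      -- φ y v * φ y (φ y v) = v * φ y v
      have h7 : φ y (φ y v) = (φ y v)⁻¹ * (v * φ y v) := by rw [← h6]; group
      rw [h7, comm hV2 v, ← mul_assoc, inv_mul_cancel, one_mul]
    rcases hc v with h | h
    · rw [h1 v h, h1 v h]
    · exact h2 v h
  exact dvd_of_le ((MonoidHom.ker_eq_bot_iff ψ).mp hker) (fun w => Subtype.ext (hV2 w)) hW

omit [Finite V] in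
theorem mem_zp (hV2 : ∀ v : V, v * v = 1) (c v : V) : v ∈ zpowers c ↔ v = 1 ∨ v = c := by
  constructor
  · rintro ⟨n, rfl⟩
    show c ^ n = 1 ∨ c ^ n = c
    rcases Int.even_or_odd' n with ⟨k, rfl | rfl⟩
    · left
      rw [zpow_mul, zpow_two, hV2, one_zpow]
    · right
      rw [zpow_add, zpow_mul, zpow_two, hV2, one_zpow, one_mul, zpow_one]
  · rintro (rfl | rfl)
    · exact one_mem _
    · exact mem_zpowers _

/-- Reduction to a quotient. -/
theorem of_quot (hφ : Function.Injective φ) (hV2 : ∀ v : V, v * v = 1) (hV : Nat.card V ≤ 16)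
    (hN : ∀ N : Subgroup Y, N.Normal → IsPGroup 2 N → N = ⊥) {c : V} (hc1 : c ≠ 1)
    (hc : ∀ y, φ y c = c) : Nat.card Y ∣ 168 := by
  set C : Subgroup V := zpowers c with hC
  have hmem : ∀ v, v ∈ C ↔ v = 1 ∨ v = c := mem_zp hV2 c
  have hCn : C.Normal := ⟨fun v hv g => by
    rw [comm hV2 g v, mul_assoc, mul_inv_cancel, mul_one]; exact hv⟩
  have hCmap : ∀ y, ∀ v ∈ C, φ y v ∈ C := by
    intro y v hv
    rw [hmem] at hv ⊢
    rcases hv with rfl | rfl
    · left; exact map_one _
    · right; exact hc y
  have hCc : Nat.card C = 2 := by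
    rw [hC, Nat.card_zpowers]
    exact orderOf_eq_prime (by rw [pow_two]; exact hV2 c) hc1
  have hq : Nat.card (V ⧸ C) ≤ 8 := by
    have h1 := Subgroup.card_eq_card_quotient_mul_card_subgroup C
    rw [hCc] at h1
    omega
  let f : Y → (V ⧸ C →* V ⧸ C) := fun y =>
    QuotientGroup.map C C (φ y).toMonoidHom (fun v hv => hCmap y v hv)
  have hf : ∀ y v, f y (QuotientGroup.mk v) = QuotientGroup.mk (φ y v) := fun _ _ => rfl
  have hf1 : ∀ y v, f y⁻¹ (f y v) = v := by
    intro y v
    obtain ⟨v, rfl⟩ := QuotientGroup.mk_surjective v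
    rw [hf, hf, ← MulAut.mul_apply, ← map_mul, inv_mul_cancel, map_one, MulAut.one_apply]
  let ψ : Y →* MulAut (V ⧸ C) :=
    { toFun := fun y =>
        { toFun := f y
          invFun := f y⁻¹
          left_inv := hf1 y
          right_inv := fun v => by
            have := hf1 y⁻¹ v
            rwa [inv_inv] at this
          map_mul' := map_mul (f y) }
      map_one' := by
        ext v
        obtain ⟨v, rfl⟩ := QuotientGroup.mk_surjective v
        show f 1 (QuotientGroup.mk v) = QuotientGroup.mk v
        rw [hf, map_one, MulAut.one_apply]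
      map_mul' := fun a b => by
        ext v
        obtain ⟨v, rfl⟩ := QuotientGroup.mk_surjective v
        show f (a * b) (QuotientGroup.mk v) = f a (f b (QuotientGroup.mk v))
        rw [hf, hf, hf, map_mul, MulAut.mul_apply] }
  have hker : ψ.ker = ⊥ := by
    refine hN _ inferInstance ?_
    rintro ⟨y, hy⟩
    have h1 : ∀ v, φ y v = v ∨ φ y v = v * c := by
      intro v
      have h3 : f y (QuotientGroup.mk v) = QuotientGroup.mk v :=
        DFunLike.congr_fun (MonoidHom.mem_ker.mp hy) (QuotientGroup.mk v)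
      rw [hf, eq_comm, QuotientGroup.eq] at h3
      rcases (hmem _).mp h3 with h4 | h4
      · left; exact (inv_mul_eq_one.mp h4).symm
      · right
        rw [← h4, mul_inv_cancel_left]
    refine ⟨1, Subtype.ext ?_⟩
    show y ^ 2 ^ 1 = 1
    rw [pow_one, pow_two]
    apply hφ
    rw [map_mul, map_one]
    ext v
    rw [MulAut.mul_apply, MulAut.one_apply]
    rcases h1 v with h | h
    · rw [h, h]
    · rw [h, map_mul, h, hc, mul_assoc, hV2, mul_one]
  refine dvd_of_le ((MonoidHom.ker_eq_bot_iff ψ).mp hker) (fun w => ?_) hq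
  obtain ⟨v, rfl⟩ := QuotientGroup.mk_surjective w
  rw [← QuotientGroup.mk_mul, hV2]
  rfl

/-- The case `|V| = 16`. -/
theorem dvd_of_sixteen (hφ : Function.Injective φ) (hV2 : ∀ v : V, v * v = 1) (hV : Nat.card V = 16)
    (hs : ¬ Group.IsSolvable Y) (h5 : ¬ 5 ∣ Nat.card Y)
    (hN : ∀ N : Subgroup Y, N.Normal → IsPGroup 2 N → N = ⊥) : Nat.card Y ∣ 168 := by
  classical
  have h7 : Fact (Nat.Prime 7) := ⟨by norm_num⟩
  -- an element of order 7
  have hd : Nat.card Y ∣ 20160 := by
    refine (card_dvd_of_injective φ hφ).trans ?_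
    rw [card_mulAut hV2 (n := 4) (by rw [hV]; norm_num)]
    decide
  have h7d : 7 ∣ Nat.card Y := by
    by_contra h
    apply hs
    have hc5 : (Nat.card Y).Coprime 5 := ((Nat.Prime.coprime_iff_not_dvd (by norm_num)).mpr h5).symm
    have hc7 : (Nat.card Y).Coprime 7 := ((Nat.Prime.coprime_iff_not_dvd (by norm_num)).mpr h).symm
    exact solvable_of_dvd Nat.prime_two Nat.prime_three (a := 6) (b := 2)
      (Nat.Coprime.dvd_of_dvd_mul_right (hc5.mul_right hc7) (by norm_num; exact hd))
  obtain ⟨x, hx⟩ := exists_prime_orderOf_dvd_card' 7 h7d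
  have hx7 : x ^ 7 = 1 := by rw [← hx]; exact pow_orderOf_eq_one x
  have hx1 : x ≠ 1 := by
    rintro rfl
    rw [orderOf_one] at hx
    exact absurd hx (by norm_num)
  have hxP : IsPGroup 7 (zpowers x) := by
    apply IsPGroup.of_card (n := 1)
    rw [Nat.card_zpowers, hx, pow_one]
  -- its fixed points
  set F := fixed φ (zpowers x) with hF
  have hFc : Nat.card F = 2 := by
    obtain ⟨m, hm⟩ := exists_pow hV2 F
    have h1 := card_modEq φ hxP (U := ⊤) (fun _ _ _ _ => mem_top _)
    rw [top_inf_eq, Subgroup.card_top, ← hF, hV, hm] at h1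
    have hlt : Nat.card F < Nat.card V := by
      rw [← Subgroup.card_top (G := V)]
      refine lt_of_le_of_ne (Subgroup.card_le_of_le le_top) (fun h => ?_)
      have h2 : F = ⊤ := Subgroup.eq_of_le_of_card_ge le_top h.ge
      apply hx1
      apply hφ
      rw [map_one]
      ext v
      have h3 : v ∈ F := by rw [h2]; exact mem_top v
      exact mem_fixed_zpowers.mp h3
    rw [hV, hm] at hlt
    have hmn : m < 4 := (Nat.pow_lt_pow_iff_right (show 1 < 2 by norm_num)).mp (by norm_num; exact hlt)
    have h4 : m = 1 := by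
      unfold Nat.ModEq at h1
      interval_cases m <;> first | rfl | (exfalso; revert h1; decide)
    rw [hm, h4, pow_one]
  have hFmem : ∀ v, v ∈ F ↔ φ x v = v := fun v => mem_fixed_zpowers
  obtain ⟨c, hcF, hc1⟩ : ∃ c ∈ F, c ≠ 1 := by
    by_contra h
    push Not at h
    have h1 : F = ⊥ := by
      rw [eq_bot_iff]
      intro v hv
      exact mem_bot.mpr (h v hv)
    rw [h1, Subgroup.card_bot] at hFc
    exact absurd hFc (by norm_num)
  have hcx : φ x c = c := (hFmem c).mp hcF
  have hF2 : ∀ v ∈ F, v = 1 ∨ v = c := by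
    have h1 : zpowers c = F := by
      refine Subgroup.eq_of_le_of_card_ge (zpowers_le.mpr hcF) ?_
      rw [hFc, Nat.card_zpowers, orderOf_eq_prime (by rw [pow_two]; exact hV2 c) hc1]
    intro v hv
    rw [← h1] at hv
    exact (mem_zp hV2 c v).mp hv
  -- the complement
  let δ : V →* V :=
    { toFun := fun v => v * φ x v
      map_one' := by rw [map_one, mul_one]
      map_mul' := fun a b => by
        rw [map_mul, mul_assoc, ← mul_assoc b, comm hV2 b, mul_assoc, mul_assoc] }
  have hδ : ∀ v, δ v = v * φ x v := fun _ => rfl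
  set W := δ.range with hW
  have hker : δ.ker = F := by
    ext v
    rw [MonoidHom.mem_ker, hFmem, hδ]
    constructor
    · intro h
      have h1 := hV2 v
      rw [← h1] at h
      exact mul_left_cancel h
    · intro h
      rw [h, hV2]
  have hWc : Nat.card W = 8 := by
    have h1 := Subgroup.card_eq_card_quotient_mul_card_subgroup δ.ker
    rw [hker, hFc, hV] at h1
    have h2 := Nat.card_congr (QuotientGroup.quotientKerEquivRange δ).toEquiv
    rw [← hker] at h1
    rw [hW, ← h2]
    omega
  have hpow : ∀ v, φ x v = v * c → ∀ k : ℕ, φ (x ^ k) v = v * c ^ k := by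
    intro v hv k
    induction k with
    | zero => rw [pow_zero, pow_zero, map_one, mul_one]; rfl
    | succ k ih =>
      rw [pow_succ', map_mul, MulAut.mul_apply, ih, map_mul, map_pow, hcx, hv, mul_assoc, ← pow_succ']
  have hcW : c ∉ W := by
    rintro ⟨v, hv⟩
    rw [hδ] at hv
    have h1 : φ x v = v * c := by
      rw [← hv, ← mul_assoc, hV2, one_mul]
    have h2 := hpow v h1 7
    rw [hx7, map_one, MulAut.one_apply] at h2
    apply hc1
    have h3 : c ^ 7 = c := by
      have h4 : c ^ 7 = (c ^ 2) ^ 3 * c := by rw [← pow_mul, ← pow_succ]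
      rw [h4, pow_two, hV2, one_pow, one_mul]
    rw [h3] at h2
    exact (mul_eq_left.mp h2.symm)
  have hWi : W.index = 2 := by
    have h1 := W.card_mul_index
    rw [hWc, hV] at h1
    omega
  have hcv : ∀ v : V, v ∈ W ∨ c * v ∈ W := by
    intro v
    by_cases h : v ∈ W
    · exact Or.inl h
    · right
      rw [Subgroup.mul_mem_iff_of_index_two hWi]
      exact ⟨fun h' => absurd h' hcW, fun h' => absurd h' h⟩
  have hxW : ∀ w ∈ W, φ x w ∈ W := by
    rintro _ ⟨v, rfl⟩
    refine ⟨φ x v, ?_⟩
    rw [hδ, hδ, map_mul]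
  -- `x` is transitive on `W#`
  have htrans : ∀ w ∈ W, w ≠ 1 → ∀ u ∈ W, u ≠ 1 → ∃ p ∈ zpowers x, φ p w = u := by
    intro w hw hw1 u hu hu1
    let _ : MulAction (zpowers x) V := MulAction.compHom V (φ.comp (zpowers x).subtype)
    have hsm : ∀ (p : zpowers x) (v : V), p • v = φ p v := fun _ _ => rfl
    have hst := MulAction.index_stabilizer (zpowers x) w
    have h1 : (MulAction.stabilizer (zpowers x) w).index ∣ 7 := by
      have h2 := (MulAction.stabilizer (zpowers x) w).index_dvd_card
      rwa [Nat.card_zpowers, hx] at h2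
    rcases (Nat.dvd_prime (by norm_num)).mp h1 with h2 | h2
    · exfalso
      rw [Subgroup.index_eq_one] at h2
      have h3 : (⟨x, mem_zpowers x⟩ : zpowers x) ∈ MulAction.stabilizer (zpowers x) w := by
        rw [h2]; exact mem_top _
      have h4 : φ x w = w := h3
      rcases hF2 w ((hFmem w).mpr h4) with rfl | rfl
      · exact hw1 rfl
      · exact hcW hw
    · have hinvp : ∀ p ∈ zpowers x, ∀ w ∈ W, φ p w ∈ W := by
        intro p hp w hw
        obtain ⟨k, rfl⟩ := (mem_powers_iff_mem_zpowers (x := x) (y := p)).mpr hp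
        show φ (x ^ k) w ∈ W
        induction k with
        | zero => rw [pow_zero, map_one]; exact hw
        | succ k ih =>
          rw [pow_succ', map_mul]
          exact hxW _ (ih (by exact Subgroup.pow_mem _ (mem_zpowers x) k))
      have h3 : MulAction.orbit (zpowers x) w ⊆ (W : Set V) \ {1} := by
        rintro _ ⟨p, rfl⟩
        refine ⟨hinvp p p.2 w hw, ?_⟩
        intro h
        apply hw1
        have h4 : φ p w = 1 := h
        exact (MulEquiv.map_eq_one_iff _).mp h4
      have h4 : ((W : Set V) \ {1}).ncard = 7 := by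
        rw [Set.ncard_sdiff_singleton_of_mem (one_mem W)]
        have h5 : (W : Set V).ncard = 8 := hWc
        rw [h5]
      have h5 : MulAction.orbit (zpowers x) w = (W : Set V) \ {1} := by
        refine Set.eq_of_subset_of_ncard_le h3 ?_
        rw [h4, ← hst, h2]
      have h6 : u ∈ MulAction.orbit (zpowers x) w := by
        rw [h5]
        exact ⟨hu, hu1⟩
      obtain ⟨p, hp⟩ := h6
      exact ⟨p, p.2, hp⟩
  by_cases hfix : ∀ y, φ y c = c
  · exact of_quot hφ hV2 hV.le hN hc1 hfix
  push Not at hfix
  obtain ⟨y0, hy0⟩ := hfix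
  have hne1 : ∀ y, φ y c ≠ 1 := fun y h => hc1 ((MulEquiv.map_eq_one_iff _).mp h)
  have hpc : ∀ p ∈ zpowers x, φ p c = c := fun p hp => hcF p hp
  -- the orbit of `c`
  by_cases hP : ∃ y, φ y c ∈ W
  · obtain ⟨y1, hy1⟩ := hP
    by_cases hR : ∃ y, φ y c ∉ W ∧ φ y c ≠ c
    · -- the orbit of `c` is `V#`
      exfalso
      obtain ⟨y2, hy2, hy2'⟩ := hR
      let _ : MulAction Y V := MulAction.compHom V φ
      have horb : MulAction.orbit Y c = ({1}ᶜ : Set V) := by
        ext v
        constructor
        · rintro ⟨y, rfl⟩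
          exact hne1 y
        · intro hv1
          have hv1 : v ≠ 1 := hv1
          rcases hcv v with hv | hv
          · obtain ⟨p, -, hp⟩ := htrans _ hy1 (hne1 y1) v hv hv1
            refine ⟨p * y1, ?_⟩
            show φ (p * y1) c = v
            rw [map_mul]
            exact hp
          · by_cases hvc : v = c
            · rw [hvc]; exact MulAction.mem_orbit_self c
            · have h1 : c * φ y2 c ∈ W := (hcv _).resolve_left hy2
              have h2 : c * φ y2 c ≠ 1 := by
                intro h
                apply hy2'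
                have h3 := hV2 c
                rw [← h3] at h
                exact mul_left_cancel h
              have h3 : c * v ≠ 1 := by
                intro h
                apply hvc
                have h3 := hV2 c
                rw [← h3] at h
                exact mul_left_cancel h
              obtain ⟨p, hp, hp'⟩ := htrans _ h1 h2 _ hv h3
              refine ⟨p * y2, ?_⟩
              show φ (p * y2) c = v
              rw [map_mul]
              rw [map_mul, hpc p hp] at hp'
              exact mul_left_cancel hp'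
      have h1 := MulAction.index_stabilizer Y c
      rw [horb, Set.ncard_compl, hV, Set.ncard_singleton] at h1
      have h2 := (MulAction.stabilizer Y c).index_dvd_card
      rw [h1] at h2
      exact h5 ((by norm_num : 5 ∣ 16 - 1).trans h2)
    · push Not at hR
      -- the orbit is `{c} ∪ W#`
      refine of_sub hφ hV2 hN W hWc.le ?_ hcv hcW
      intro y u hu
      by_contra hcon
      have horb : ∀ w ∈ W, w ≠ 1 → φ y w ∈ W ∨ φ y w = c := by
        intro w hw hw1
        obtain ⟨p, -, hp⟩ := htrans _ hy1 (hne1 y1) w hw hw1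
        have h1 : φ y w = φ (y * (p * y1)) c := by
          rw [map_mul, map_mul, ← hp]; rfl
        rw [h1]
        by_cases h2 : φ (y * (p * y1)) c ∈ W
        · exact Or.inl h2
        · exact Or.inr (hR _ h2)
      have hu1 : u ≠ 1 := by
        rintro rfl
        rw [map_one] at hcon
        exact hcon (one_mem W)
      have huc : φ y u = c := (horb u hu hu1).resolve_left hcon
      obtain ⟨w, hw, hw1, hwu⟩ : ∃ w ∈ W, w ≠ 1 ∧ w ≠ u := by
        by_contra h
        push Not at h
        have h1 : W ≤ zpowers u := by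
          intro w hw
          rw [mem_zp hV2]
          by_cases h2 : w = 1
          · exact Or.inl h2
          · exact Or.inr (h w hw h2)
        have h2 := Subgroup.card_le_of_le h1
        rw [hWc, Nat.card_zpowers, orderOf_eq_prime (by rw [pow_two]; exact hV2 u) hu1] at h2
        omega
      have h1 : φ y w ∈ W := by
        refine (horb w hw hw1).resolve_right fun h => hwu ?_
        exact (φ y).injective (h.trans huc.symm)
      have h2 : φ y (w * u) ∈ W := by
        refine (horb _ (mul_mem hw hu) ?_).resolve_right fun h => ?_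
        · intro h
          apply hwu
          have h3 := hV2 w
          rw [← h3] at h
          exact (mul_left_cancel h).symm
        · have h3 := (φ y).injective (h.trans huc.symm)
          exact hw1 (mul_eq_right.mp h3)
      rw [map_mul] at h2
      exact hcon ((Subgroup.mul_mem_cancel_left W h1).mp h2)
  · push Not at hP
    refine of_sub hφ hV2 hN W hWc.le ?_ hcv hcW
    intro y u hu
    by_contra hcon
    -- the orbit is `c W`
    have h1 : c * φ y0 c ∈ W := (hcv _).resolve_left (hP y0)
    have h2 : c * φ y0 c ≠ 1 := by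
      intro h
      apply hy0
      have h3 := hV2 c
      rw [← h3] at h
      exact mul_left_cancel h
    have horb : ∃ z, φ z c = φ y u := by
      by_cases hvc : φ y u = c
      · exact ⟨1, by rw [map_one, hvc]; rfl⟩
      · have hv : c * φ y u ∈ W := (hcv _).resolve_left hcon
        have h3 : c * φ y u ≠ 1 := by
          intro h
          apply hvc
          have h3 := hV2 c
          rw [← h3] at h
          exact mul_left_cancel h
        obtain ⟨p, hp, hp'⟩ := htrans _ h1 h2 _ hv h3
        refine ⟨p * y0, ?_⟩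
        rw [map_mul]
        rw [map_mul, hpc p hp] at hp'
        exact mul_left_cancel hp'
    obtain ⟨z, hz⟩ := horb
    apply hP (y⁻¹ * z)
    rw [map_mul, MulAut.mul_apply, hz, ← MulAut.mul_apply, ← map_mul, inv_mul_cancel, map_one]
    exact hu

/-- A nonsolvable subgroup of `GL₄(2)` of order prime to 5 without normal 2-subgroups. -/
theorem card_and_simple (hφ : Function.Injective φ) (hV2 : ∀ v : V, v * v = 1) (hV : Nat.card V ≤ 16)
    (hs : ¬ Group.IsSolvable Y) (h5 : ¬ 5 ∣ Nat.card Y)
    (hN : ∀ N : Subgroup Y, N.Normal → IsPGroup 2 N → N = ⊥) :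
    Nat.card Y = 168 ∧ IsSimpleGroup Y := by
  have hd : Nat.card Y ∣ 168 := by
    by_cases h : Nat.card V ≤ 8
    · exact dvd_of_le hφ hV2 h
    · obtain ⟨n, hn⟩ := exists_pow hV2 (⊤ : Subgroup V)
      rw [Subgroup.card_top] at hn
      have h16 : Nat.card V = 16 := by
        have h1 : n < 5 := by
          by_contra h1
          have : 2 ^ 5 ≤ 2 ^ n := Nat.pow_le_pow_right (by norm_num) (by omega)
          omega
        rw [hn] at hV h ⊢
        interval_cases n <;> omega
      exact dvd_of_sixteen hφ hV2 h16 hs h5 hN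
  have hc := card_of_dvd hs hd
  refine ⟨hc, ?_⟩
  have : Nontrivial Y := by
    have : Fact (1 < Nat.card Y) := ⟨by rw [hc]; norm_num⟩
    exact Finite.one_lt_card_iff_nontrivial.mp (by rw [hc]; norm_num)
  exact ⟨fun N hN' => simple_of_dvd hs hd N hN'⟩

end Cfsg.Agent.GH.GL4Seven
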