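import Mathlib
import Cfsg.Agent.Lib.PSL2Inv
import Cfsg.Agent.Classification.QDW.TypeHom
import Cfsg.Agent.Classification.TypeB.SigAut
set_option linter.all false

/-!
# Automorphisms of `L ≅ PSL(2,F)`, `F` a finite field of odd order: base

`Rep F L` : a surjection `π : SL(2,F) → L` with kernel `{1,-1}`, `2 ≠ 0` in `F`.
* `Rep.lift : MulAut L →* MulAut SL(2,F)` (bijective), `Rep.liftE`;
* `Rep.gl : GL(2,F) →* MulAut L`, `Rep.fa : (F ≃+* F) →* MulAut L`,
  `Rep.fld : MulAut L →* (F ≃+* F)`, `Rep.PGL = ker fld = range gl`;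
* `Rep.gl_mem_inn : gl g` inner iff `det g` is a square.
-/

set_option autoImplicit false

namespace Cfsg.Agent.GH.L2Aut

open Matrix Cfsg.Agent.Lib.SL2Mat Cfsg.Agent.Lib.AutSL2 Cfsg.Agent.Lib.AutSL2Out

/-- A representation of `L` as `PSL(2,F)`, `F` of characteristic not two. -/
structure Rep (F : Type*) [Field F] (L : Type*) [Group L] where
  π : Matrix.SpecialLinearGroup (Fin 2) F →* L
  surj : Function.Surjective π
  ker : ∀ x, π x = 1 ↔ x = 1 ∨ x = -1
  two : (2 : F) ≠ 0

theorem mem_center_iff {F : Type*} [Field F] (h2 : (2 : F) ≠ 0)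
    (x : Matrix.SpecialLinearGroup (Fin 2) F) :
    x ∈ Subgroup.center (Matrix.SpecialLinearGroup (Fin 2) F) ↔ x = 1 ∨ x = -1 := by
  constructor
  · intro hx
    apply Cfsg.Agent.Lib.PSL2Inv.sq_eq_one h2
    obtain ⟨h01, h10⟩ := mem_center_offdiag hx
    have h00 : ent x 0 0 = ent x 1 1 := by
      have h4 := congrArg (fun y => ent y 0 1) ((Subgroup.mem_center_iff.1 hx) (up 1))
      simp only [ent_mul, up_00, up_01, up_11, h01] at h4
      linear_combination -h4
    have h5 := det_eq x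
    rw [h01, zero_mul, sub_zero] at h5
    refine ext_ent ?_ ?_ ?_ ?_
    · rw [ent_mul, h01, zero_mul, add_zero, ent_one_00]
      nth_rw 2 [h00]
      exact h5
    · rw [ent_mul, h01, ent_one_01]; ring
    · rw [ent_mul, h10, ent_one_10]; ring
    · rw [ent_mul, h10, zero_mul, zero_add, ent_one_11]
      nth_rw 1 [← h00]
      exact h5
  · rintro (rfl | rfl)
    · exact one_mem _
    · rw [Subgroup.mem_center_iff]
      intro y
      rw [mul_neg, neg_mul, mul_one, one_mul]

/-- The representation from an isomorphism. -/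
noncomputable def Rep.ofEquiv {F : Type*} [Field F] {L : Type*} [Group L] (h2 : (2 : F) ≠ 0)
    (e : L ≃* Matrix.ProjectiveSpecialLinearGroup (Fin 2) F) : Rep F L where
  π := e.symm.toMonoidHom.comp
    (QuotientGroup.mk' (Subgroup.center (Matrix.SpecialLinearGroup (Fin 2) F)))
  surj := e.symm.surjective.comp (QuotientGroup.mk'_surjective _)
  two := h2
  ker := by
    intro x
    have h3 : (e.symm.toMonoidHom.comp
        (QuotientGroup.mk' (Subgroup.center (Matrix.SpecialLinearGroup (Fin 2) F)))) x = 1 ↔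
        x ∈ Subgroup.center (Matrix.SpecialLinearGroup (Fin 2) F) := by
      rw [← QuotientGroup.eq_one_iff]
      exact e.symm.map_eq_one_iff
    rw [h3, mem_center_iff h2]

theorem two_ne_zero_of_odd {F : Type*} [Field F] [Fintype F] (h : Odd (Fintype.card F)) :
    (2 : F) ≠ 0 := by
  intro h2
  have h3 : (2 : ℕ) ∣ Fintype.card F := by
    have hc : CharP F 2 := by
      have : ringChar F = 2 := by
        have h4 : ringChar F ∣ 2 := by
          rw [← CharP.cast_eq_zero_iff F (ringChar F)]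
          exact_mod_cast h2
        rcases (Nat.dvd_prime Nat.prime_two).1 h4 with h5 | h5
        · exact absurd h5 (CharP.ringChar_ne_one)
        · exact h5
      rw [← this]; exact ringChar.charP F
    rw [← CharP.cast_eq_zero_iff F 2, Nat.cast_card_eq_zero]
  exact (Nat.not_even_iff_odd.2 h) (even_iff_two_dvd.2 h3)

namespace Rep

variable {F : Type*} [Field F] {L : Type*} [Group L] (R : Rep F L)

local notation "SL2" => Matrix.SpecialLinearGroup (Fin 2) F

theorem ker_le : R.π.ker ≤ Subgroup.center SL2 := by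
  intro x hx
  rw [MonoidHom.mem_ker, R.ker] at hx
  exact (mem_center_iff R.two x).2 hx

theorem π_eq_iff {x y : SL2} : R.π x = R.π y ↔ x = y ∨ x = -y := by
  constructor
  · intro h
    have h1 : R.π (x * y⁻¹) = 1 := by rw [map_mul, map_inv, h, mul_inv_cancel]
    rw [R.ker] at h1
    rcases h1 with h1 | h1
    · exact Or.inl (mul_inv_eq_one.1 h1)
    · right
      rw [mul_inv_eq_iff_eq_mul] at h1
      rw [h1, neg_mul, one_mul]
  · rintro (rfl | rfl)
    · rfl
    · rw [← neg_one_mul, map_mul, (R.ker (-1)).2 (Or.inr rfl), one_mul]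

theorem π_neg (x : SL2) : R.π (-x) = R.π x := R.π_eq_iff.2 (Or.inr rfl)

include R in
theorem neg_one_ne_one : (-1 : SL2) ≠ 1 := by
  intro h
  have h1 := congrArg (fun x => ent x 0 0) h
  have h3 : -(1 : F) = 1 := h1
  exact R.two (by linear_combination -h3)

include R in
theorem aut_neg_one (θ : MulAut SL2) : θ (-1) = -1 := by
  have h1 : θ (-1) * θ (-1) = 1 := by rw [← map_mul, neg_mul_neg, mul_one, map_one]
  rcases Cfsg.Agent.Lib.PSL2Inv.sq_eq_one R.two h1 with h2 | h2
  · exact absurd (θ.injective (by rw [h2, map_one])) R.neg_one_ne_one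
  · exact h2

include R in
theorem aut_neg (θ : MulAut SL2) (x : SL2) : θ (-x) = -θ x := by
  rw [← neg_one_mul x, map_mul, R.aut_neg_one, neg_one_mul]

variable [Finite F]

theorem exists_lift (α : MulAut L) : ∃ θ : MulAut SL2, ∀ x, α (R.π x) = R.π (θ x) := by
  obtain ⟨g, σ, h⟩ := exists_gl_ringEquiv R.π R.surj R.ker_le α
  exact ⟨conjGL g * fieldAut σ, h⟩

theorem lift_unique {θ η : MulAut SL2} (h : ∀ x, R.π (θ x) = R.π (η x)) : θ = η := by
  have h1 : ∀ x, R.π ((η⁻¹ * θ) x) = R.π x := by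
    intro x
    rw [MulAut.mul_apply]
    rcases R.π_eq_iff.1 (h x) with h2 | h2
    · rw [h2, MulAut.inv_apply_self]
    · rw [h2, R.aut_neg, MulAut.inv_apply_self, R.π_neg]
  have h2 := Cfsg.Agent.Classification.TypeB.SigAut.eq_of_lift R.two R.π R.ker_le (η⁻¹ * θ) h1
  have h3 : η⁻¹ * θ = 1 := by ext1 x; exact h2 x
  exact (inv_mul_eq_one.1 h3).symm

/-- The unique lift of an automorphism of `L` to `SL(2,F)`. -/
noncomputable def lift : MulAut L →* MulAut SL2 where
  toFun α := (R.exists_lift α).choose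
  map_one' := by
    apply R.lift_unique
    intro x
    rw [← (R.exists_lift 1).choose_spec]
    rfl
  map_mul' α β := by
    apply R.lift_unique
    intro x
    rw [← (R.exists_lift (α * β)).choose_spec, MulAut.mul_apply, MulAut.mul_apply,
      ← (R.exists_lift α).choose_spec, ← (R.exists_lift β).choose_spec]

theorem lift_apply (α : MulAut L) (x : SL2) : α (R.π x) = R.π (R.lift α x) :=
  (R.exists_lift α).choose_spec x

theorem lift_eq {α : MulAut L} {θ : MulAut SL2} (h : ∀ x, α (R.π x) = R.π (θ x)) :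
    R.lift α = θ := R.lift_unique fun x => by rw [← R.lift_apply, h]

omit [Finite F] in
theorem ext_π {α β : MulAut L} (h : ∀ x, α (R.π x) = β (R.π x)) : α = β := by
  ext y
  obtain ⟨x, rfl⟩ := R.surj y
  exact h x

theorem lift_injective : Function.Injective R.lift := by
  intro α β h
  apply R.ext_π
  intro x
  rw [R.lift_apply, R.lift_apply, h]

theorem lift_surjective : Function.Surjective R.lift := by
  intro θ
  have hk : ∀ η : MulAut SL2, ∀ x ∈ R.π.ker, (R.π.comp η.toMonoidHom) x = 1 := by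
    intro η x hx
    rw [MonoidHom.mem_ker, R.ker] at hx
    rcases hx with rfl | rfl
    · rw [map_one]
    · change R.π (η (-1)) = 1
      rw [R.aut_neg_one, R.ker]
      exact Or.inr rfl
  let f : MulAut SL2 → (L →* L) := fun η =>
    (R.π.liftOfSurjective R.surj) ⟨R.π.comp η.toMonoidHom, hk η⟩
  have hf : ∀ η x, f η (R.π x) = R.π (η x) := by
    intro η x
    have h1 := MonoidHom.liftOfRightInverse_comp_apply R.π (Function.surjInv R.surj)
      (Function.rightInverse_surjInv R.surj) ⟨R.π.comp η.toMonoidHom, hk η⟩ x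
    exact h1
  have h1 : ∀ y, f θ⁻¹ (f θ y) = y := by
    intro y
    obtain ⟨x, rfl⟩ := R.surj y
    rw [hf, hf, MulAut.inv_apply_self]
  have h2 : ∀ y, f θ (f θ⁻¹ y) = y := by
    intro y
    obtain ⟨x, rfl⟩ := R.surj y
    rw [hf, hf, MulAut.apply_inv_self]
  refine ⟨{ toFun := f θ, invFun := f θ⁻¹, left_inv := h1, right_inv := h2, map_mul' := map_mul _ }, ?_⟩
  exact R.lift_eq fun x => hf θ x

/-- `Aut(L) = Aut(SL(2,F))`. -/
noncomputable def liftE : MulAut L ≃* MulAut SL2 :=
  MulEquiv.ofBijective R.lift ⟨R.lift_injective, R.lift_surjective⟩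

theorem liftE_apply (α : MulAut L) : R.liftE α = R.lift α := rfl

theorem liftE_symm_apply (θ : MulAut SL2) (x : SL2) : R.liftE.symm θ (R.π x) = R.π (θ x) := by
  rw [R.lift_apply, ← R.liftE_apply, MulEquiv.apply_symm_apply]

/-- conjugation by an element of `GL(2,F)` on `L` -/
noncomputable def gl : GL (Fin 2) F →* MulAut L := R.liftE.symm.toMonoidHom.comp conjGL

/-- the action of a field automorphism on `L` -/
noncomputable def fa : (F ≃+* F) →* MulAut L := R.liftE.symm.toMonoidHom.comp fieldAut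

theorem gl_apply (g : GL (Fin 2) F) (x : SL2) : R.gl g (R.π x) = R.π (conjGL g x) :=
  R.liftE_symm_apply _ _

theorem fa_apply (σ : F ≃+* F) (x : SL2) : R.fa σ (R.π x) = R.π (fieldAut σ x) :=
  R.liftE_symm_apply _ _

theorem lift_gl (g : GL (Fin 2) F) : R.lift (R.gl g) = conjGL g :=
  R.lift_eq fun x => R.gl_apply g x

theorem lift_fa (σ : F ≃+* F) : R.lift (R.fa σ) = fieldAut σ :=
  R.lift_eq fun x => R.fa_apply σ x

/-- the field automorphism belonging to an automorphism of `L` -/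
noncomputable def fld : MulAut L →* (F ≃+* F) :=
  Cfsg.Agent.Classification.QDW.TypeHom.typ.comp R.lift

theorem fld_gl (g : GL (Fin 2) F) : R.fld (R.gl g) = 1 := by
  change Cfsg.Agent.Classification.QDW.TypeHom.typ (R.lift (R.gl g)) = 1
  rw [R.lift_gl, Cfsg.Agent.Classification.QDW.TypeHom.typ_conjGL]

theorem fld_fa (σ : F ≃+* F) : R.fld (R.fa σ) = σ := by
  change Cfsg.Agent.Classification.QDW.TypeHom.typ (R.lift (R.fa σ)) = σ
  rw [R.lift_fa, Cfsg.Agent.Classification.QDW.TypeHom.typ_fieldAut]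

/-- the subgroup `PGL(2,F)` of `Aut(L)` -/
noncomputable def PGL : Subgroup (MulAut L) := R.fld.ker

instance : R.PGL.Normal := MonoidHom.normal_ker _

theorem mem_PGL {α : MulAut L} : α ∈ R.PGL ↔ ∃ g : GL (Fin 2) F, α = R.gl g := by
  rw [PGL, MonoidHom.mem_ker]
  change Cfsg.Agent.Classification.QDW.TypeHom.typ (R.lift α) = 1 ↔ _
  rw [Cfsg.Agent.Classification.QDW.TypeHom.typ_eq_one_iff]
  constructor
  · rintro ⟨g, hg⟩
    exact ⟨g, R.lift_injective (by rw [hg, R.lift_gl])⟩
  · rintro ⟨g, rfl⟩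
    exact ⟨g, R.lift_gl g⟩

theorem gl_mem_PGL (g : GL (Fin 2) F) : R.gl g ∈ R.PGL := R.mem_PGL.2 ⟨g, rfl⟩

theorem mem_PGL_iff_fld {α : MulAut L} : α ∈ R.PGL ↔ R.fld α = 1 := MonoidHom.mem_ker

/-- every automorphism is a product of a linear one and a field automorphism -/
theorem exists_eq (α : MulAut L) : ∃ g : GL (Fin 2) F, α = R.gl g * R.fa (R.fld α) := by
  have h : α * (R.fa (R.fld α))⁻¹ ∈ R.PGL := by
    rw [mem_PGL_iff_fld, map_mul, map_inv, R.fld_fa, mul_inv_cancel]
  obtain ⟨g, hg⟩ := R.mem_PGL.1 h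
  exact ⟨g, by rw [← hg, inv_mul_cancel_right]⟩

theorem fa_mul_gl (σ : F ≃+* F) (g : GL (Fin 2) F) :
    R.fa σ * R.gl g = R.gl (Matrix.GeneralLinearGroup.map σ.toRingHom g) * R.fa σ := by
  apply R.lift_injective
  rw [map_mul, map_mul, R.lift_fa, R.lift_gl, R.lift_gl, fieldAut_mul_conjGL]

theorem gl_eq_one_iff {g : GL (Fin 2) F} :
    R.gl g = 1 ↔ ∃ c : F, g.1 = c • (1 : Matrix (Fin 2) (Fin 2) F) := by
  constructor
  · intro h
    have h1 : conjGL g = 1 := by rw [← R.lift_gl, h, map_one]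
    refine (Cfsg.Agent.Classification.TypeB.SigAut.field_eq_one (τ := 1) (fun x => ?_)).2
    rw [map_one, h1]
    rfl
  · rintro ⟨c, hc⟩
    apply R.ext_π
    intro x
    rw [R.gl_apply, MulAut.one_apply]
    congr 1
    apply Subtype.ext
    rw [conjGL_val, hc, Matrix.smul_mul, Matrix.one_mul]
    change c • x.1 * g⁻¹.1 = x.1
    have h1 : x.1 * g.1 = c • x.1 := by rw [hc, Matrix.mul_smul, Matrix.mul_one]
    rw [← h1, Matrix.mul_assoc, ← Units.val_mul, mul_inv_cancel, Units.val_one, Matrix.mul_one]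

theorem conj_π (s : SL2) : MulAut.conj (R.π s) = R.gl (Matrix.SpecialLinearGroup.toGL s) := by
  apply R.ext_π
  intro x
  rw [R.gl_apply, conjGL_toGL, MulAut.conj_apply, map_mul, map_mul, map_inv]

theorem conj_mem_PGL (y : L) : MulAut.conj y ∈ R.PGL := by
  obtain ⟨s, rfl⟩ := R.surj y
  rw [R.conj_π]
  exact R.gl_mem_PGL _

theorem inn_le_PGL : (MulAut.conj : L →* MulAut L).range ≤ R.PGL := by
  rintro _ ⟨y, rfl⟩
  exact R.conj_mem_PGL y

include R in
theorem center_eq_bot : Subgroup.center L = ⊥ := by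
  rw [eq_bot_iff]
  intro y hy
  rw [Subgroup.mem_bot]
  obtain ⟨s, rfl⟩ := R.surj y
  have h1 : MulAut.conj (R.π s) = 1 := by
    ext z
    rw [MulAut.conj_apply, MulAut.one_apply, ← (Subgroup.mem_center_iff.1 hy) z,
      mul_inv_cancel_right]
  rw [R.conj_π, R.gl_eq_one_iff] at h1
  obtain ⟨c, hc⟩ := h1
  rw [R.ker]
  apply (mem_center_iff R.two s).1
  rw [Subgroup.mem_center_iff]
  intro x
  apply Subtype.ext
  have hc' : s.1 = c • (1 : Matrix (Fin 2) (Fin 2) F) := hc
  change x.1 * s.1 = s.1 * x.1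
  rw [hc', Matrix.mul_smul, Matrix.smul_mul, Matrix.mul_one, Matrix.one_mul]

include R in
theorem conj_injective : Function.Injective (MulAut.conj : L →* MulAut L) := by
  rw [injective_iff_map_eq_one]
  intro y hy
  have h1 : y ∈ Subgroup.center L := by
    rw [Subgroup.mem_center_iff]
    intro z
    have h2 := DFunLike.congr_fun hy z
    rw [MulAut.conj_apply, MulAut.one_apply] at h2
    rw [mul_inv_eq_iff_eq_mul] at h2
    exact h2.symm
  rw [R.center_eq_bot] at h1
  exact Subgroup.mem_bot.1 h1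

theorem gl_mem_inn {g : GL (Fin 2) F} :
    R.gl g ∈ (MulAut.conj : L →* MulAut L).range ↔ IsSquare g.1.det := by
  constructor
  · rintro ⟨y, hy⟩
    obtain ⟨s, rfl⟩ := R.surj y
    rw [R.conj_π] at hy
    have h1 : R.gl ((Matrix.SpecialLinearGroup.toGL s)⁻¹ * g) = 1 := by
      rw [map_mul, map_inv, hy, inv_mul_cancel]
    obtain ⟨c, hc⟩ := R.gl_eq_one_iff.1 h1
    have h2 : g.1 = (Matrix.SpecialLinearGroup.toGL s).1 * (c • (1 : Matrix (Fin 2) (Fin 2) F)) := by
      rw [← hc, ← Units.val_mul, mul_inv_cancel_left]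
    rw [h2, Matrix.det_mul, Matrix.det_smul, Matrix.det_one, mul_one, Fintype.card_fin]
    have h3 : (Matrix.SpecialLinearGroup.toGL s).1.det = 1 := s.2
    rw [h3, one_mul]
    exact ⟨c, sq c⟩
  · rintro ⟨d, hd⟩
    have hd0 : d ≠ 0 := by
      rintro rfl
      rw [mul_zero] at hd
      exact (Matrix.GeneralLinearGroup.det g).ne_zero hd
    obtain ⟨s, hs⟩ := conjGL_of_det_sq g d hd0 (by rw [hd, sq])
    refine ⟨R.π s, ?_⟩
    apply R.ext_π
    intro x
    rw [R.gl_apply, hs, MulAut.conj_apply, map_mul, map_mul, map_inv]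

end Rep

end Cfsg.Agent.GH.L2Aut
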